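import Mathlib
import Cfsg.Agent.H952.F4.Jord
import Cfsg.Agent.Lib.FinFast
import Cfsg.Agent.H952.F4.Scott_m3
import Cfsg.Agent.H952.F4.KillBase_m3
import Cfsg.Agent.Prune
set_option linter.all false

section
prune_inst 0x7fffadffbbfea9dfdf7f7e7faededffdfbb93fffa6dff9cbffe069ff2b9f7b98c9e57b8d8bea33fe1ef7ea1410f87b43ffffffffe86bfc7ffffd5ff41ffbffdfedf7b50851de8cb40fbc0fff03f0778e7f3fffffffffffffffffffffffffffbeffbfffffffff

-- part: H879/E6/Conj
section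
prune_inst 0x5200400156200080000051212000000200004000000000028600502004060208842200018000400800088106809000000000100400000000a00040000020100008002001100a2002a0006000000000000000000000000000000000000000000000000000
set_option linter.all false
open scoped Cfsg.Agent.FastGrp

/-- decoders of the packed data (elaboration time only) -/
private noncomputable def pk61d (b S i : Nat) : Nat := Nat.mod (Nat.shiftRight S (Nat.mul b i)) (Nat.shiftLeft (nat_lit 1) b)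
private noncomputable def pk61f {α : Type} (t : Nat) (f : Nat → α) : α := Nat.rec (f Nat.zero) (fun k _ => f (Nat.succ k)) t
private noncomputable def pk61l {α : Type} (f : Nat → α) (s e : Nat) (tl : List α) : List α :=
  pk61f e fun e => Nat.rec tl (fun k ih => List.cons (pk61f (Nat.sub e (Nat.succ k)) f) ih) (Nat.sub e s)
private noncomputable def lq269454d670 {T : Sort _} (f :
    type_of% (@_root_.List.cons.{0}) →
    type_of% (@_root_.Prod.mk.{0, 0}) →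
    type_of% (@_root_.List.cons.{0} (Prod Nat Nat)) →
    type_of% (@_root_.Nat.mul) →
    type_of% (@_root_.Nat.add) →
    type_of% (@_root_.List.nil.{0}) →
    type_of% (@_root_.List.cons.{0} (List Nat)) →
    type_of% (@_root_.Matrix.vecCons.{0}) →
    type_of% (@_root_.List.cons.{0} (Prod (Fin 7) (Prod (Fin 7) (Prod (Fin 7) (Fin 7))))) →
    type_of% (@_root_.List.cons.{0} (Prod (Prod (Fin 7) (Prod (Fin 7) (Prod (Fin 7) (Fin 7)))) (Prod (Prod (Fin 7) (Prod (Fin 7) (Prod (Fin 7) (Fin 7)))) (Prod (Fin 7) (Prod (Fin 7) (Prod (Fin 7) (Fin 7))))))) →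
    type_of% (@_root_.Nat.mod) →
    type_of% (@_root_.Matrix.vecEmpty.{0}) → T) : T :=
  f (@_root_.List.cons.{0}) (@_root_.Prod.mk.{0, 0}) (@_root_.List.cons.{0} (Prod Nat Nat)) (@_root_.Nat.mul) (@_root_.Nat.add) (@_root_.List.nil.{0}) (@_root_.List.cons.{0} (List Nat)) (@_root_.Matrix.vecCons.{0}) (@_root_.List.cons.{0} (Prod (Fin 7) (Prod (Fin 7) (Prod (Fin 7) (Fin 7))))) (@_root_.List.cons.{0} (Prod (Prod (Fin 7) (Prod (Fin 7) (Prod (Fin 7) (Fin 7)))) (Prod (Prod (Fin 7) (Prod (Fin 7) (Prod (Fin 7) (Fin 7)))) (Prod (Fin 7) (Prod (Fin 7) (Prod (Fin 7) (Fin 7))))))) (@_root_.Nat.mod) (@_root_.Matrix.vecEmpty.{0})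

-- part: H879/E6/UniqA
section
/-!
# S5927, S5928: uniqueness of the cubic form of (A7, p = 5), first part (helper879)

`Good d`: a symmetric function on triples of indices `(i, j, k, l)` (the index of the vector
`u = (v_i × v_j) × (v_k × v_l)`) with the relations of the vectors `u`, and zero if two of the indices share a pair.
First step: it is zero if one of the arguments is one of the vectors `v`.
-/

set_option autoImplicit false

namespace Cfsg.Agent.H879.E6.Uniq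

abbrev Q := Fin 7 × Fin 7 × Fin 7 × Fin 7

/-- relabelling -/
def act (s : Fin 7 → Fin 7) (q : Q) : Q := (s q.1, s q.2.1, s q.2.2.1, s q.2.2.2)

/-- an index of the vector `v_i` -/
def vv (i : Fin 7) : Q := (i, i + 1, i, i + 2)

variable {F : Type*} [Field F]

structure Good (d : Q → Q → Q → F) : Prop where
  s12 : ∀ x y z, d x y z = d y x z
  s23 : ∀ x y z, d x y z = d x z y
  a1 : ∀ x y i j k l, d x y (i, j, k, l) = d x y (j, i, k, l)
  a2 : ∀ x y i j k l, d x y (i, j, k, l) = d x y (k, l, i, j)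
  z1 : ∀ x y i k l, d x y (i, i, k, l) = 0
  z2 : ∀ x y i j, d x y (i, j, i, j) = 0
  sum : ∀ x y i j k, ∑ l, d x y (i, j, k, l) = 0
  adj : ∀ x y i j k m n, i ≠ j → i ≠ k → j ≠ k → i ≠ m → i ≠ n → m ≠ n →
    d x y (i, j, i, k) = d x y (i, m, i, n)
  three : ∀ x y i j k l, i ≠ j → i ≠ k → i ≠ l → j ≠ k → j ≠ l → k ≠ l →
    d x y (i, j, k, l) + d x y (i, k, j, l) + d x y (i, l, j, k) =
      d x y (vv i) + d x y (vv j) + d x y (vv k) + d x y (vv l)
  star : ∀ i j k l m n z, d (i, j, k, l) (i, j, m, n) z = 0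

namespace Good

variable {d : Q → Q → Q → F}

/-- relabelling -/
def rl (d : Q → Q → Q → F) (s : Fin 7 → Fin 7) : Q → Q → Q → F := fun x y z => d (act s x) (act s y) (act s z)

theorem n1 : ∀ i : Fin 7, i ≠ i + 1 := by decide

theorem n2 : ∀ i : Fin 7, i ≠ i + 2 := by decide

theorem n3 : ∀ i : Fin 7, i + 1 ≠ i + 2 := by decide

theorem rel (h : Good d) {s : Fin 7 → Fin 7} (hs : Function.Injective s) : Good (rl d s) := by
  have hv : ∀ x y i, d x y (act s (vv i)) = d x y (vv (s i)) := by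
    intro x y i
    exact h.adj x y _ _ _ _ _ (hs.ne (n1 i)) (hs.ne (n2 i)) (hs.ne (n3 i)) (n1 _) (n2 _) (n3 _)
  have hb : Function.Bijective s := Finite.injective_iff_bijective.1 hs
  constructor
  · intro x y z; exact h.s12 _ _ _
  · intro x y z; exact h.s23 _ _ _
  · intro x y i j k l; exact h.a1 _ _ _ _ _ _
  · intro x y i j k l; exact h.a2 _ _ _ _ _ _
  · intro x y i k l; exact h.z1 _ _ _ _ _
  · intro x y i j; exact h.z2 _ _ _ _
  · intro x y i j k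
    have := h.sum (act s x) (act s y) (s i) (s j) (s k)
    rw [← hb.sum_comp] at this
    exact this
  · intro x y i j k m n h1 h2 h3 h4 h5 h6
    exact h.adj _ _ _ _ _ _ _ (hs.ne h1) (hs.ne h2) (hs.ne h3) (hs.ne h4) (hs.ne h5) (hs.ne h6)
  · intro x y i j k l h1 h2 h3 h4 h5 h6
    have := h.three (act s x) (act s y) (s i) (s j) (s k) (s l) (hs.ne h1) (hs.ne h2) (hs.ne h3) (hs.ne h4)
      (hs.ne h5) (hs.ne h6)
    rw [← hv, ← hv, ← hv, ← hv] at this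
    exact this
  · intro i j k l m n z; exact h.star _ _ _ _ _ _ _

theorem b1 (h : Good d) (x y : Q) (i j k l : Fin 7) : d x y (i, j, k, l) = d x y (i, j, l, k) := by
  rw [h.a2, h.a1, h.a2]

theorem c12 (h : Good d) (x y z : Q) : d x y z = d y x z := h.s12 x y z

theorem c13 (h : Good d) (x y z : Q) : d x y z = d z y x := by
  rw [h.s12, h.s23, h.s12]

/-- the value at `v_i` does not depend on the index -/
theorem vadj (h : Good d) (x y : Q) {i m n : Fin 7} (h1 : i ≠ m) (h2 : i ≠ n) (h3 : m ≠ n) :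
    d x y (vv i) = d x y (i, m, i, n) := by
  exact h.adj x y _ _ _ _ _ (n1 i) (n2 i) (n3 i) h1 h2 h3

/-- star, with the two indices in other position -/
theorem star2 (h : Good d) (x : Q) (i j k l m n : Fin 7) : d x (i, j, k, l) (i, j, m, n) = 0 := by
  rw [h.s12, h.s23]; exact h.star _ _ _ _ _ _ _

/-- `D(v_g, y, u) = 0` if `u` contains `g` -/
theorem v_cont (h : Good d) (y : Q) (g m k l : Fin 7) (hm : g ≠ m) : d (vv g) y (g, m, k, l) = 0 := by
  obtain ⟨n, hn1, hn2⟩ : ∃ n : Fin 7, g ≠ n ∧ m ≠ n := by revert g m; decide +kernel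
  rw [h.c13, h.vadj _ _ hm hn1 hn2, h.c12, h.star2]

/-- `D(v_g, y, v_i) = 0` -/
theorem v_v (h : Good d) (y : Q) (g i : Fin 7) : d (vv g) y (vv i) = 0 := by
  by_cases hg : g = i
  · subst hg
    exact h.v_cont _ _ _ _ _ (n1 _)
  · obtain ⟨n, hn1, hn2⟩ : ∃ n : Fin 7, i ≠ n ∧ g ≠ n := by revert g i; decide +kernel
    rw [h.vadj _ _ (Ne.symm hg) hn1 hn2, h.a1, h.v_cont _ _ _ _ _ hg]

theorem v_v' (h : Good d) (y : Q) (g : Fin 7) {i j k : Fin 7} (h1 : i ≠ j) (h2 : i ≠ k) (h3 : j ≠ k) :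
    d (vv g) y (i, j, i, k) = 0 := by
  rw [← h.vadj _ _ h1 h2 h3, h.v_v]

/-- the sum rule with `v_g` -/
theorem sum3 (h : Good d) {s : Fin 7 → Fin 7} (hs : Function.Injective s) (y : Q) :
    d (vv (s 6)) y (s 0, s 1, s 2, s 3) + d (vv (s 6)) y (s 0, s 1, s 2, s 4) +
      d (vv (s 6)) y (s 0, s 1, s 2, s 5) = 0 := by
  have hb : Function.Bijective s := Finite.injective_iff_bijective.1 hs
  have := h.sum (vv (s 6)) y (s 0) (s 1) (s 2)
  rw [← hb.sum_comp, Fin.sum_univ_seven] at this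
  have e0 : d (vv (s 6)) y (s 0, s 1, s 2, s 0) = 0 := by
    rw [h.b1, h.v_v' _ _ (hs.ne (by decide)) (hs.ne (by decide)) (hs.ne (by decide))]
  have e1 : d (vv (s 6)) y (s 0, s 1, s 2, s 1) = 0 := by
    rw [h.b1, h.a1, h.v_v' _ _ (hs.ne (by decide)) (hs.ne (by decide)) (hs.ne (by decide))]
  have e2 : d (vv (s 6)) y (s 0, s 1, s 2, s 2) = 0 := by rw [h.a2, h.z1]
  have e6 : d (vv (s 6)) y (s 0, s 1, s 2, s 6) = 0 := by
    rw [h.a2, h.a1, h.v_cont _ _ _ _ _ (hs.ne (by decide))]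
  rw [e0, e1, e2, e6] at this
  linear_combination this

theorem opp (h : Good d) (h2 : (2 : F) ≠ 0) {s : Fin 7 → Fin 7} (hs : Function.Injective s) (y : Q) :
    d (vv (s 6)) y (s 0, s 1, s 2, s 3) = d (vv (s 6)) y (s 0, s 1, s 4, s 5) := by
  have r2 := h.sum3 hs y
  have r3 := h.sum3 (s := s ∘ ![0, 1, 3, 2, 4, 5, 6]) (hs.comp (by decide)) y
  have r4 := h.sum3 (s := s ∘ ![0, 1, 4, 2, 3, 5, 6]) (hs.comp (by decide)) y
  have r5 := h.sum3 (s := s ∘ ![0, 1, 5, 2, 3, 4, 6]) (hs.comp (by decide)) y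
  simp only [Function.comp_apply] at r3 r4 r5
  change d (vv (s 6)) y (s 0, s 1, s 3, s 2) + d (vv (s 6)) y (s 0, s 1, s 3, s 4) +
    d (vv (s 6)) y (s 0, s 1, s 3, s 5) = 0 at r3
  change d (vv (s 6)) y (s 0, s 1, s 4, s 2) + d (vv (s 6)) y (s 0, s 1, s 4, s 3) +
    d (vv (s 6)) y (s 0, s 1, s 4, s 5) = 0 at r4
  change d (vv (s 6)) y (s 0, s 1, s 5, s 2) + d (vv (s 6)) y (s 0, s 1, s 5, s 3) +
    d (vv (s 6)) y (s 0, s 1, s 5, s 4) = 0 at r5
  rw [h.b1 _ _ _ _ (s 3) (s 2)] at r3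
  rw [h.b1 _ _ _ _ (s 4) (s 2), h.b1 _ _ _ _ (s 4) (s 3)] at r4
  rw [h.b1 _ _ _ _ (s 5) (s 2), h.b1 _ _ _ _ (s 5) (s 3), h.b1 _ _ _ _ (s 5) (s 4)] at r5
  refine mul_left_cancel₀ h2 ?_
  linear_combination r2 + r3 - r4 - r5

/-- the odd cycle -/
theorem Hneg (h : Good d) (h2 : (2 : F) ≠ 0) {s : Fin 7 → Fin 7} (hs : Function.Injective s) :
    d (vv (s 6)) (s 1, s 3, s 2, s 4) (s 3, s 2, s 4, s 5) =
      - d (vv (s 6)) (s 0, s 1, s 2, s 3) (s 1, s 2, s 3, s 4) := by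
  set y : Q := (s 0, s 1, s 2, s 3) with hy
  have e1 : d (vv (s 6)) y (s 5, s 0, s 1, s 2) + d (vv (s 6)) y (s 5, s 0, s 1, s 3) +
      d (vv (s 6)) y (s 5, s 0, s 1, s 4) = 0 :=
    h.sum3 (s := s ∘ ![5, 0, 1, 2, 3, 4, 6]) (hs.comp (by decide)) y
  have e2 : d (vv (s 6)) y (s 1, s 2, s 5, s 0) = d (vv (s 6)) y (s 1, s 2, s 3, s 4) :=
    h.opp h2 (s := s ∘ ![1, 2, 5, 0, 3, 4, 6]) (hs.comp (by decide)) y
  have e3 : d (vv (s 6)) y (s 1, s 3, s 5, s 0) = d (vv (s 6)) y (s 1, s 3, s 2, s 4) :=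
    h.opp h2 (s := s ∘ ![1, 3, 5, 0, 2, 4, 6]) (hs.comp (by decide)) y
  have e4 : d (vv (s 6)) y (s 1, s 4, s 5, s 0) = d (vv (s 6)) y (s 1, s 4, s 2, s 3) :=
    h.opp h2 (s := s ∘ ![1, 4, 5, 0, 2, 3, 6]) (hs.comp (by decide)) y
  have e5 : d (vv (s 6)) y (s 1, s 4, s 2, s 3) = 0 := by
    rw [h.s23, h.a2, h.s23, h.a2, h.star2]
  have e6 : ∀ z, d (vv (s 6)) z (s 3, s 2, s 4, s 5) = d (vv (s 6)) z (s 3, s 2, s 0, s 1) := fun z =>
    h.opp h2 (s := s ∘ ![3, 2, 4, 5, 0, 1, 6]) (hs.comp (by decide)) z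
  have t1 : d (vv (s 6)) y (s 5, s 0, s 1, s 2) = d (vv (s 6)) y (s 1, s 2, s 5, s 0) := h.a2 _ _ _ _ _ _
  have t2 : d (vv (s 6)) y (s 5, s 0, s 1, s 3) = d (vv (s 6)) y (s 1, s 3, s 5, s 0) := h.a2 _ _ _ _ _ _
  have t3 : d (vv (s 6)) y (s 5, s 0, s 1, s 4) = d (vv (s 6)) y (s 1, s 4, s 5, s 0) := h.a2 _ _ _ _ _ _
  have t4 : d (vv (s 6)) (s 1, s 3, s 2, s 4) (s 3, s 2, s 0, s 1) = d (vv (s 6)) (s 1, s 3, s 2, s 4) y := by
    rw [h.a2, h.b1]
  rw [e6, t4, h.s23, ← e3, ← t2, ← e2, ← t1]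
  rw [t3, e4, e5] at e1
  linear_combination e1

/-- the value of the hexagon is zero -/
theorem H0 (h : Good d) (h2 : (2 : F) ≠ 0) {s : Fin 7 → Fin 7} (hs : Function.Injective s) :
    d (vv (s 6)) (s 0, s 1, s 2, s 3) (s 1, s 2, s 3, s 4) = 0 := by
  have k1 : d (vv (s 6)) (s 1, s 3, s 2, s 4) (s 3, s 2, s 4, s 5) =
      - d (vv (s 6)) (s 0, s 1, s 2, s 3) (s 1, s 2, s 3, s 4) := h.Hneg h2 hs
  have k2 : d (vv (s 6)) (s 3, s 4, s 2, s 5) (s 4, s 2, s 5, s 0) =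
      - d (vv (s 6)) (s 1, s 3, s 2, s 4) (s 3, s 2, s 4, s 5) :=
    h.Hneg h2 (s := s ∘ ![1, 3, 2, 4, 5, 0, 6]) (hs.comp (by decide))
  have k3 : d (vv (s 6)) (s 4, s 5, s 2, s 0) (s 5, s 2, s 0, s 1) =
      - d (vv (s 6)) (s 3, s 4, s 2, s 5) (s 4, s 2, s 5, s 0) :=
    h.Hneg h2 (s := s ∘ ![3, 4, 2, 5, 0, 1, 6]) (hs.comp (by decide))
  have k4 : d (vv (s 6)) (s 5, s 0, s 2, s 1) (s 0, s 2, s 1, s 3) =
      - d (vv (s 6)) (s 4, s 5, s 2, s 0) (s 5, s 2, s 0, s 1) :=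
    h.Hneg h2 (s := s ∘ ![4, 5, 2, 0, 1, 3, 6]) (hs.comp (by decide))
  have k5 : d (vv (s 6)) (s 0, s 1, s 2, s 3) (s 1, s 2, s 3, s 4) =
      - d (vv (s 6)) (s 5, s 0, s 2, s 1) (s 0, s 2, s 1, s 3) :=
    h.Hneg h2 (s := s ∘ ![5, 0, 2, 1, 3, 4, 6]) (hs.comp (by decide))
  refine (mul_eq_zero.1 ?_).resolve_left h2
  linear_combination k1 - k2 + k3 - k4 + k5

end Good

end Cfsg.Agent.H879.E6.Uniq
end

-- part: H879/E6/UniqB
section
/-!
# S5927, S5928: uniqueness of the cubic form of (A7, p = 5), second part (helper879)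

Canonical forms of indices; end of the first step.
-/

set_option autoImplicit false

namespace Cfsg.Agent.H879.E6.Uniq

/-- equality of numbers modulo 7 -/
def eb (i j : Fin 7) : Bool := Nat.beq i.val j.val

theorem eb_iff {i j : Fin 7} : eb i j = true ↔ i = j := by
  unfold eb
  rw [Nat.beq_eq, Fin.ext_iff]

/-- equality of indices -/
def qb (x y : Q) : Bool := eb x.1 y.1 && eb x.2.1 y.2.1 && eb x.2.2.1 y.2.2.1 && eb x.2.2.2 y.2.2.2

theorem qb_iff {x y : Q} : qb x y = true ↔ x = y := by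
  obtain ⟨a, b, c, e⟩ := x
  obtain ⟨a', b', c', e'⟩ := y
  simp only [qb, Bool.and_eq_true, eb_iff, Prod.mk.injEq]
  tauto

/-- sort -/
def so (i j : Fin 7) : Fin 7 × Fin 7 := bif Nat.ble i.val j.val then (i, j) else (j, i)

/-- canonical form of an index -/
def cq (q : Q) : Q :=
  let a := so q.1 q.2.1
  let b := so q.2.2.1 q.2.2.2
  bif Nat.ble (a.1.val * 7 + a.2.val) (b.1.val * 7 + b.2.val) then (a.1, a.2, b.1, b.2) else (b.1, b.2, a.1, a.2)

/-- distinct entries -/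
def dis (q : Q) : Bool :=
  !(eb q.1 q.2.1) && !(eb q.1 q.2.2.1) && !(eb q.1 q.2.2.2) && !(eb q.2.1 q.2.2.1) && !(eb q.2.1 q.2.2.2) &&
    !(eb q.2.2.1 q.2.2.2)

/-- all quadruples -/
def allQ (f : Q → Bool) : Bool :=
  (List.finRange 7).all fun i => (List.finRange 7).all fun j => (List.finRange 7).all fun k =>
    (List.finRange 7).all fun l => f (i, j, k, l)

theorem allQ_iff {f : Q → Bool} (h : allQ f = true) (q : Q) : f q = true := by
  obtain ⟨i, j, k, l⟩ := q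
  unfold allQ at h
  have h1 := List.all_eq_true.1 h i (List.mem_finRange i)
  have h2 := List.all_eq_true.1 h1 j (List.mem_finRange j)
  have h3 := List.all_eq_true.1 h2 k (List.mem_finRange k)
  exact List.all_eq_true.1 h3 l (List.mem_finRange l)

/-- the list of the canonical indices with distinct entries -/
def L105 : List Q := (beta% delta% lq269454d670 fun a b _ _ _ i _ _ l _ _ _ =>
 (let e:=(let e:=(let e:=(let e:=(l (b 2<|b 5<|b 4 6)<|l (b 2<|b 6<|b 3 4)<|l (b 2<|b 6<|b 3 5)<|l (b 2<|b 6<|b 4 5)<|l (b 3<|b 4<|b 5 6)<|l (b 3<|b 5<|b 4 6)<|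
 l (b 3<|b 6<|b 4 5)<|i);
 (l (b 2<|b 3<|b 4 6)<|l (b 2<|b 3<|b 5 6)<|l (b 2<|b 4<|b 3 5)<|l (b 2<|b 4<|b 3 6)<|l (b 2<|b 4<|b 5 6)<|
 l (b 2<|b 5<|b 3 4)<|l (b 2<|b 5<|b 3 6)<|e));
 (let e:=(l (b 1<|b 6<|b 2 3)<|l (b 1<|b 6<|b 2 4)<|l (b 1<|b 6<|b 2 5)<|l (b 1<|b 6<|b 3 4)<|
 l (b 1<|b 6<|b 3 5)<|l (b 1<|b 6<|b 4 5)<|l (b 2<|b 3<|b 4 5)<|e);
 (l (b 1<|b 5<|b 2 3)<|l (b 1<|b 5<|b 2 4)<|
 l (b 1<|b 5<|b 2 6)<|l (b 1<|b 5<|b 3 4)<|l (b 1<|b 5<|b 3 6)<|l (b 1<|b 5<|b 4 6)<|e)));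
 (let e:=(let e:=(l (b 1<|b 3<|b 5 6)<|
 l (b 1<|b 4<|b 2 3)<|l (b 1<|b 4<|b 2 5)<|l (b 1<|b 4<|b 2 6)<|l (b 1<|b 4<|b 3 5)<|l (b 1<|b 4<|b 3 6)<|l (b 1<|b 4<|b 5 6)<|e);
 (l (b 1<|b 2<|b 5 6)<|l (b 1<|b 3<|b 2 4)<|l (b 1<|b 3<|b 2 5)<|l (b 1<|b 3<|b 2 6)<|l (b 1<|b 3<|b 4 5)<|l (b 1<|b 3<|b 4 6)<|e));
 (let e:=(l (b 0<|b 6<|b 3 5)<|l (b 0<|b 6<|b 4 5)<|l (b 1<|b 2<|b 3 4)<|l (b 1<|b 2<|b 3 5)<|l (b 1<|b 2<|b 3 6)<|l (b 1<|b 2<|b 4 5)<|
 l (b 1<|b 2<|b 4 6)<|e);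
 (l (b 0<|b 6<|b 1 4)<|l (b 0<|b 6<|b 1 5)<|l (b 0<|b 6<|b 2 3)<|l (b 0<|b 6<|b 2 4)<|
 l (b 0<|b 6<|b 2 5)<|l (b 0<|b 6<|b 3 4)<|e))));
 (let e:=(let e:=(let e:=(l (b 0<|b 5<|b 2 4)<|l (b 0<|b 5<|b 2 6)<|l (b 0<|b 5<|b 3 4)<|
 l (b 0<|b 5<|b 3 6)<|l (b 0<|b 5<|b 4 6)<|l (b 0<|b 6<|b 1 2)<|l (b 0<|b 6<|b 1 3)<|e);
 (l (b 0<|b 4<|b 5 6)<|
 l (b 0<|b 5<|b 1 2)<|l (b 0<|b 5<|b 1 3)<|l (b 0<|b 5<|b 1 4)<|l (b 0<|b 5<|b 1 6)<|l (b 0<|b 5<|b 2 3)<|e));
 (let e:=(l (b 0<|b 4<|b 1 5)<|l (b 0<|b 4<|b 1 6)<|l (b 0<|b 4<|b 2 3)<|l (b 0<|b 4<|b 2 5)<|l (b 0<|b 4<|b 2 6)<|l (b 0<|b 4<|b 3 5)<|l (b 0<|b 4<|b 3 6)<|e);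
 (l (b 0<|b 3<|b 2 6)<|l (b 0<|b 3<|b 4 5)<|l (b 0<|b 3<|b 4 6)<|l (b 0<|b 3<|b 5 6)<|l (b 0<|b 4<|b 1 2)<|l (b 0<|b 4<|b 1 3)<|
 e)));
 (let e:=(let e:=(l (b 0<|b 2<|b 5 6)<|l (b 0<|b 3<|b 1 2)<|l (b 0<|b 3<|b 1 4)<|l (b 0<|b 3<|b 1 5)<|l (b 0<|b 3<|b 1 6)<|
 l (b 0<|b 3<|b 2 4)<|l (b 0<|b 3<|b 2 5)<|e);
 (l (b 0<|b 2<|b 1 6)<|l (b 0<|b 2<|b 3 4)<|l (b 0<|b 2<|b 3 5)<|
 l (b 0<|b 2<|b 3 6)<|l (b 0<|b 2<|b 4 5)<|l (b 0<|b 2<|b 4 6)<|e));
 (let e:=(l (b 0<|b 1<|b 3 6)<|l (b 0<|b 1<|b 4 5)<|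
 l (b 0<|b 1<|b 4 6)<|l (b 0<|b 1<|b 5 6)<|l (b 0<|b 2<|b 1 3)<|l (b 0<|b 2<|b 1 4)<|l (b 0<|b 2<|b 1 5)<|e);
 (a (b 0<|b 1<|b 2 3)<|a (b 0<|b 1<|b 2 4)<|a (b 0<|b 1<|b 2 5)<|a (b 0<|b 1<|b 2 6)<|a (b 0<|b 1<|b 3 4)<|a (b 0<|b 1<|b 3 5)<|e))))))

private def inL (q : Q) : Bool :=
  Nat.beq (Nat.land (Nat.shiftRight 0x100000000000100000000004000000000000000000000000000000000000000000000000000000000000002060000000002050000000080030000000040c00000000000000000000000000000000000000000000000040c1c000000040a1600000100060d00000081800700000040c1c00000000000000000000000000000000008183878000008142c5c0002000c1a36000103000e1d00008183800f000040c1c3c0000000000000000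
    (Nat.add (Nat.mul (Nat.add (Nat.mul (Nat.add (Nat.mul q.1.val 7) q.2.1.val) 7) q.2.2.1.val) 7) q.2.2.2.val)) 1) 1

private noncomputable def _root_.Cfsg.Agent.LsF.f9352fb_0 : {f // @Cfsg.Agent.H879.E6.Uniq.allQ = f} := ⟨_, by first | (delta Cfsg.Agent.H879.E6.Uniq.allQ; rewrite [Cfsg.Agent.LsF.all_eq, Cfsg.Agent.LsF.finRange_eq]; exact rfl) | exact rfl⟩
private noncomputable def _root_.Cfsg.Agent.LsF.f9352fb_1 : {f // @Cfsg.Agent.H879.E6.Uniq.dis = f} := ⟨_, by first | (delta Cfsg.Agent.H879.E6.Uniq.dis; rewrite [Cfsg.Agent.LsF.and_eq, Cfsg.Agent.LsF.not_eq]; exact rfl) | exact rfl⟩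
private noncomputable def _root_.Cfsg.Agent.LsF.f9352fb_2 : {f // @Cfsg.Agent.H879.E6.Uniq.so = f} := ⟨_, by first | (delta Cfsg.Agent.H879.E6.Uniq.so; rewrite [Cfsg.Agent.LsF.cond_eq]; exact rfl) | exact rfl⟩
private noncomputable def _root_.Cfsg.Agent.LsF.f9352fb_3 : {f // @Cfsg.Agent.H879.E6.Uniq.cq = f} := ⟨_, by first | (delta Cfsg.Agent.H879.E6.Uniq.cq; rewrite [Cfsg.Agent.LsF.f9352fb_2.2, Cfsg.Agent.LsF.nadd_pat, Cfsg.Agent.LsF.nmul_pat, Cfsg.Agent.LsF.cond_eq]; exact rfl) | exact rfl⟩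
private noncomputable def _root_.Cfsg.Agent.LsF.f9352fb_4 : {f // @Cfsg.Agent.H879.E6.Uniq.qb = f} := ⟨_, by first | (delta Cfsg.Agent.H879.E6.Uniq.qb; rewrite [Cfsg.Agent.LsF.and_eq]; exact rfl) | exact rfl⟩
theorem cq_mem' : allQ (fun q => !(dis q) || L105.any (qb (cq q))) = true := by
  have h1 : allQ (fun q => !(dis q) || inL (cq q)) = true := by ((try (rewrite [Cfsg.Agent.LsF.f9352fb_0.2, Cfsg.Agent.LsF.f9352fb_1.2, Cfsg.Agent.LsF.f9352fb_3.2, Cfsg.Agent.LsF.or_eq, Cfsg.Agent.LsF.not_eq])); decide +kernel)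
  have h2 : allQ (fun q => !(inL q) || L105.any (qb q)) = true := by ((try (rewrite [Cfsg.Agent.LsF.f9352fb_0.2, Cfsg.Agent.LsF.f9352fb_4.2, Cfsg.Agent.LsF.or_eq, Cfsg.Agent.LsF.not_eq, Cfsg.Agent.LsF.any_eq])); decide +kernel)
  refine List.all_eq_true.2 fun i _ => List.all_eq_true.2 fun j _ => List.all_eq_true.2 fun k _ =>
    List.all_eq_true.2 fun l _ => ?_
  have h3 := allQ_iff h1 (i, j, k, l)
  have h4 := allQ_iff h2 (cq (i, j, k, l))
  show (!dis (i, j, k, l) || L105.any (qb (cq (i, j, k, l)))) = true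
  revert h3 h4
  cases dis (i, j, k, l) <;> cases inL (cq (i, j, k, l)) <;> cases L105.any (qb (cq (i, j, k, l))) <;> decide

theorem cq_mem {q : Q} (h : dis q = true) : cq q ∈ L105 := by
  have := allQ_iff cq_mem' q
  rw [h, Bool.not_true, Bool.false_or, List.any_eq_true] at this
  obtain ⟨x, hx, e⟩ := this
  rw [qb_iff.1 e]
  exact hx

variable {F : Type*} [Field F]

namespace Good

variable {d : Q → Q → Q → F}

theorem cqs (h : Good d) (s : Fin 7 → Fin 7) (x y z : Q) : d x y (act s (cq z)) = d x y (act s z) := by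
  obtain ⟨i, j, k, l⟩ := z
  have e1 : ∀ a b, d x y (s (so i j).1, s (so i j).2, a, b) = d x y (s i, s j, a, b) := by
    intro a b
    unfold so
    rcases Bool.eq_false_or_eq_true (Nat.ble i.val j.val) with hh | hh
    · rw [hh]; rfl
    · rw [hh]; exact h.a1 _ _ _ _ _ _
  have e2 : ∀ a b, d x y (a, b, s (so k l).1, s (so k l).2) = d x y (a, b, s k, s l) := by
    intro a b
    rw [h.a2, h.a2 _ _ a b (s k)]
    unfold so
    rcases Bool.eq_false_or_eq_true (Nat.ble k.val l.val) with hh | hh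
    · rw [hh]; rfl
    · rw [hh]; exact h.a1 _ _ _ _ _ _
  unfold cq act
  dsimp only
  rcases Bool.eq_false_or_eq_true (Nat.ble ((so i j).1.val * 7 + (so i j).2.val) ((so k l).1.val * 7 + (so k l).2.val))
    with hh | hh
  · rw [hh]
    dsimp only [cond_true]
    rw [e1, e2]
  · rw [hh]
    dsimp only [cond_false]
    rw [h.a2, e1, e2]

theorem cq1 (h : Good d) (x y z : Q) : d x y (cq z) = d x y z := h.cqs id x y z

theorem cqs2 (h : Good d) (s : Fin 7 → Fin 7) (x y z : Q) : d x (act s (cq y)) z = d x (act s y) z := by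
  rw [h.s23, h.cqs, h.s23]

/-- basic zeros -/
def bas : List (Q × Q) :=
  (beta% delta% lq269454d670 fun a b _ _ _ i _ _ _ _ _ _ =>
 (a (b (b 0<|b 1<|b 2 3) (b 0<|b 1<|b 2 3))<|a (b (b 0<|b 1<|b 2 3) (b 0<|b 1<|b 2 4))<|a (b (b 0<|b 1<|b 2 3) (b 0<|b 1<|b 4 5))<|
 a (b (b 0<|b 1<|b 2 3) (b 0<|b 2<|b 1 3))<|a (b (b 0<|b 1<|b 2 3) (b 0<|b 2<|b 4 5))<|a (b (b 0<|b 1<|b 2 3) (b 2<|b 4<|b 3 5))<|
 a (b (b 0<|b 1<|b 2 3) (b 1<|b 2<|b 3 4))<|a (b (b 0<|b 1<|b 2 3) (b 3<|b 4<|b 0 5))<|i))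

theorem bas_zero (h : Good d) (h2 : (2 : F) ≠ 0) : ∀ e ∈ bas, ∀ s : Fin 7 → Fin 7, Function.Injective s →
    d (vv (s 6)) (act s e.1) (act s e.2) = 0 := by
  have f1 : ∀ (g a b c e m n : Fin 7), d (vv g) (a, b, c, e) (a, b, m, n) = 0 := fun g a b c e m n => h.star2 _ _ _ _ _ _ _
  simp only [bas, List.forall_mem_cons, List.not_mem_nil, false_imp_iff, implies_true, and_true]
  refine ⟨?_, ?_, ?_, ?_, ?_, ?_, ?_, ?_⟩ <;> intro s hs <;> change d (vv (s 6)) (s 0, s 1, s 2, s 3) _ = 0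
  · exact f1 _ _ _ _ _ _ _
  · exact f1 _ _ _ _ _ _ _
  · exact f1 _ _ _ _ _ _ _
  · change d (vv (s 6)) (s 0, s 1, s 2, s 3) (s 0, s 2, s 1, s 3) = 0
    have e1 : d (vv (s 6)) (s 0, s 1, s 2, s 3) (s 0, s 2, s 1, s 3) =
      d (vv (s 6)) (s 0, s 1, s 2, s 3) (s 0, s 2, s 4, s 5) :=
      h.opp h2 (s := s ∘ ![0, 2, 1, 3, 4, 5, 6]) (hs.comp (by decide)) _
    rw [e1, h.s23, h.opp h2 hs, h.a2, h.s23, h.a2, f1]
  · change d (vv (s 6)) (s 0, s 1, s 2, s 3) (s 0, s 2, s 4, s 5) = 0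
    rw [h.s23, h.opp h2 hs, h.a2, h.s23, h.a2, f1]
  · change d (vv (s 6)) (s 0, s 1, s 2, s 3) (s 2, s 4, s 3, s 5) = 0
    have e1 : d (vv (s 6)) (s 0, s 1, s 2, s 3) (s 2, s 4, s 3, s 5) =
      d (vv (s 6)) (s 0, s 1, s 2, s 3) (s 2, s 4, s 0, s 1) :=
      h.opp h2 (s := s ∘ ![2, 4, 3, 5, 0, 1, 6]) (hs.comp (by decide)) _
    rw [e1, h.a2, f1]
  · exact h.H0 h2 hs
  · change d (vv (s 6)) (s 0, s 1, s 2, s 3) (s 3, s 4, s 0, s 5) = 0
    have e1 : d (vv (s 6)) (s 0, s 1, s 2, s 3) (s 3, s 4, s 0, s 5) =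
      d (vv (s 6)) (s 0, s 1, s 2, s 3) (s 3, s 4, s 1, s 2) :=
      h.opp h2 (s := s ∘ ![3, 4, 0, 5, 1, 2, 6]) (hs.comp (by decide)) _
    rw [e1, h.a2, h.H0 h2 hs]

/-- the stabilizer of `(0 1 | 2 3)` in the symmetric group of degree 6 -/
def pl : List (Fin 7 → Fin 7) := (beta% delta% lq269454d670 fun a _ _ _ _ i _ k _ _ _ o =>
 (a (k 0<|k 1<|k 2<|k 3<|k 4<|k 5<|k 6<|o)<|a (k 0<|k 1<|k 2<|k 3<|k 5<|k 4<|k 6<|o)<|a (k 0<|k 1<|k 3<|k 2<|k 4<|k 5<|k 6<|o)<|a (k 0<|k 1<|k 3<|k 2<|k 5<|k 4<|k 6<|o)<|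
 a (k 1<|k 0<|k 2<|k 3<|k 4<|k 5<|k 6<|o)<|a (k 1<|k 0<|k 2<|k 3<|k 5<|k 4<|k 6<|o)<|a (k 1<|k 0<|k 3<|k 2<|k 4<|k 5<|k 6<|o)<|a (k 1<|k 0<|k 3<|k 2<|k 5<|k 4<|k 6<|o)<|
 a (k 2<|k 3<|k 0<|k 1<|k 4<|k 5<|k 6<|o)<|a (k 2<|k 3<|k 0<|k 1<|k 5<|k 4<|k 6<|o)<|a (k 2<|k 3<|k 1<|k 0<|k 4<|k 5<|k 6<|o)<|a (k 2<|k 3<|k 1<|k 0<|k 5<|k 4<|k 6<|o)<|
 a (k 3<|k 2<|k 0<|k 1<|k 4<|k 5<|k 6<|o)<|a (k 3<|k 2<|k 0<|k 1<|k 5<|k 4<|k 6<|o)<|a (k 3<|k 2<|k 1<|k 0<|k 4<|k 5<|k 6<|o)<|a (k 3<|k 2<|k 1<|k 0<|k 5<|k 4<|k 6<|o)<|i))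

/-- injective -/
def inj (s : Fin 7 → Fin 7) : Bool :=
  (List.finRange 7).all fun i => (List.finRange 7).all fun j => eb i j || !(eb (s i) (s j))

theorem inj_iff {s : Fin 7 → Fin 7} (h : inj s = true) : Function.Injective s := by
  intro i j e
  have h1 := List.all_eq_true.1 h i (List.mem_finRange i)
  have h2 := List.all_eq_true.1 h1 j (List.mem_finRange j)
  rw [Bool.or_eq_true, Bool.not_eq_true', eb_iff] at h2
  rcases h2 with h2 | h2
  · exact h2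
  · rw [eb_iff.2 e] at h2; exact absurd h2 (by decide)

theorem pl_inj' : pl.all (fun s => inj s && eb (s 6) 6) = true := by decide +kernel

private noncomputable def _root_.Cfsg.Agent.LsF.f9352fb_5 : {f // @Cfsg.Agent.H879.E6.Uniq.Good.pl = f} := ⟨_, by first | (delta Cfsg.Agent.H879.E6.Uniq.Good.pl; rewrite [Cfsg.Agent.LsF.vecCons_eq]; exact rfl) | exact rfl⟩
theorem cov1' : L105.all (fun z => eb z.1 6 || eb z.2.1 6 || eb z.2.2.1 6 || eb z.2.2.2 6 ||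
    bas.any fun e => pl.any fun p => qb (cq (act p e.1)) (0, 1, 2, 3) && qb (cq (act p e.2)) z) = true := by
  ((try (rewrite [Cfsg.Agent.LsF.f9352fb_5.2, Cfsg.Agent.LsF.f9352fb_4.2, Cfsg.Agent.LsF.f9352fb_3.2, Cfsg.Agent.LsF.and_eq, Cfsg.Agent.LsF.or_eq, Cfsg.Agent.LsF.all_eq, Cfsg.Agent.LsF.any_eq])); decide +kernel)

end Good

end Cfsg.Agent.H879.E6.Uniq
end

-- part: H879/E6/UniqC
section
/-!
# S5927, S5928: uniqueness of the cubic form of (A7, p = 5), third part (helper879)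

End of the first step: `D(v_g, y, z) = 0` for all `y`, `z`.
-/

set_option autoImplicit false

namespace Cfsg.Agent.H879.E6.Uniq

theorem dis_iff {i j k l : Fin 7} : dis (i, j, k, l) = true ↔ i ≠ j ∧ i ≠ k ∧ i ≠ l ∧ j ≠ k ∧ j ≠ l ∧ k ≠ l := by
  have e : ∀ a b : Fin 7, (!(eb a b)) = true ↔ a ≠ b := by
    intro a b
    rw [Bool.not_eq_true', ← Bool.not_eq_true, eb_iff]
  simp only [dis, Bool.and_eq_true, e]
  (clear * -; tauto)

theorem ext4 {q : Q} (hq : dis q = true) : ∃ s : Equiv.Perm (Fin 7), act s (0, 1, 2, 3) = q := by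
  obtain ⟨i, j, k, l⟩ := q
  obtain ⟨h1, h2, h3, h4, h5, h6⟩ := dis_iff.1 hq
  have hy : Function.Injective ![i, j, k, l] := by
    intro a b e
    fin_cases a <;> fin_cases b <;> simp_all
  obtain ⟨s, hs⟩ := Equiv.Perm.exists_extending_pair ![0, 1, 2, 3] ![i, j, k, l] (by decide) hy
  have e0 := hs 0
  have e1 := hs 1
  have e2 := hs 2
  have e3 := hs 3
  simp only [Matrix.cons_val] at e0 e1 e2 e3
  exact ⟨s, by rw [← e0, ← e1, ← e2, ← e3]; rfl⟩

theorem ext5 {q : Q} {g : Fin 7} (hq : dis q = true) (h0 : q.1 ≠ g) (h1 : q.2.1 ≠ g) (h2 : q.2.2.1 ≠ g)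
    (h3 : q.2.2.2 ≠ g) : ∃ s : Equiv.Perm (Fin 7), s 6 = g ∧ act s (0, 1, 2, 3) = q := by
  obtain ⟨i, j, k, l⟩ := q
  obtain ⟨g1, g2, g3, g4, g5, g6⟩ := dis_iff.1 hq
  dsimp only at h0 h1 h2 h3
  have hy : Function.Injective ![g, i, j, k, l] := by
    intro a b e
    fin_cases a <;> fin_cases b <;> simp_all
  obtain ⟨s, hs⟩ := Equiv.Perm.exists_extending_pair ![6, 0, 1, 2, 3] ![g, i, j, k, l] (by decide) hy
  have e0 := hs 0
  have e1 := hs 1
  have e2 := hs 2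
  have e3 := hs 3
  have e4 := hs 4
  simp only [Matrix.cons_val] at e0 e1 e2 e3 e4
  exact ⟨s, e0, by rw [← e1, ← e2, ← e3, ← e4]; rfl⟩

variable {F : Type*} [Field F]

namespace Good

variable {d : Q → Q → Q → F}

/-- zero at indices with repeated entries -/
theorem ovl (h : Good d) (x y : Q) (hv : ∀ i, d x y (vv i) = 0) {z : Q} (hz : dis z = false) : d x y z = 0 := by
  obtain ⟨i, j, k, l⟩ := z
  have f1 : ∀ i j l : Fin 7, d x y (i, j, i, l) = 0 := by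
    intro i j l
    by_cases h1 : i = j
    · rw [h1, h.z1]
    by_cases h2 : i = l
    · rw [h.a2, h2, h.z1]
    by_cases h3 : j = l
    · rw [h3, h.z2]
    rw [← h.vadj _ _ h1 h2 h3, hv]
  by_cases h1 : i = j
  · rw [h1, h.z1]
  by_cases h2 : k = l
  · rw [h.a2, h2, h.z1]
  by_cases h3 : i = k
  · rw [h3, f1]
  by_cases h4 : i = l
  · rw [h.b1, h4, f1]
  by_cases h5 : j = k
  · rw [h.a1, h5, f1]
  by_cases h6 : j = l
  · rw [h.a1, h.b1, h6, f1]
  · have := dis_iff.2 ⟨h1, h3, h4, h5, h6, h2⟩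
    rw [this] at hz
    exact absurd hz (by decide)

/-- zero if an index contains `g` -/
theorem vz_cont (h : Good d) (g : Fin 7) (y : Q) {z : Q} (hz : z.1 = g ∨ z.2.1 = g ∨ z.2.2.1 = g ∨ z.2.2.2 = g) :
    d (vv g) y z = 0 := by
  obtain ⟨i, j, k, l⟩ := z
  dsimp only at hz
  have f : ∀ j k l, d (vv g) y (g, j, k, l) = 0 := by
    intro j k l
    by_cases h1 : g = j
    · rw [← h1, h.z1]
    · exact h.v_cont _ _ _ _ _ h1
  rcases hz with rfl | rfl | rfl | rfl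
  · rw [f]
  · rw [h.a1, f]
  · rw [h.a2, f]
  · rw [h.a2, h.a1, f]

theorem vz_ovl (h : Good d) (g : Fin 7) (y : Q) {z : Q} (hz : dis z = false) : d (vv g) y z = 0 :=
  h.ovl _ _ (fun _ => h.v_v _ _ _) hz

/-- end of the first step -/
theorem vzero (h : Good d) (h2 : (2 : F) ≠ 0) (g : Fin 7) (y z : Q) : d (vv g) y z = 0 := by
  rcases Bool.eq_false_or_eq_true (dis z) with hz | hz
  swap
  · exact h.vz_ovl _ _ hz
  rcases Bool.eq_false_or_eq_true (dis y) with hy | hy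
  swap
  · rw [h.s23]; exact h.vz_ovl _ _ hy
  by_cases hyg : y.1 = g ∨ y.2.1 = g ∨ y.2.2.1 = g ∨ y.2.2.2 = g
  · rw [h.s23]; exact h.vz_cont _ _ hyg
  simp only [not_or] at hyg
  obtain ⟨s, hs6, hsy⟩ := ext5 hy hyg.1 hyg.2.1 hyg.2.2.1 hyg.2.2.2
  have hzs : act s (act s.symm z) = z := by
    simp only [act, Equiv.apply_symm_apply]
  have hd : dis (act s.symm z) = true := by
    obtain ⟨i, j, k, l⟩ := z
    obtain ⟨g1, g2, g3, g4, g5, g6⟩ := dis_iff.1 hz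
    exact dis_iff.2 ⟨s.symm.injective.ne g1, s.symm.injective.ne g2, s.symm.injective.ne g3, s.symm.injective.ne g4,
      s.symm.injective.ne g5, s.symm.injective.ne g6⟩
  have hm := cq_mem hd
  have hc := List.all_eq_true.1 cov1' _ hm
  rw [← hzs, ← h.cqs]
  generalize cq (act s.symm z) = z' at hm hc
  simp only [Bool.or_eq_true, eb_iff] at hc
  rcases hc with hc | hc
  · refine h.vz_cont _ _ ?_
    obtain ⟨i, j, k, l⟩ := z'
    simp only [act] at hc ⊢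
    rcases hc with ((hc | hc) | hc) | hc
    · exact Or.inl (by rw [hc, hs6])
    · exact Or.inr (Or.inl (by rw [hc, hs6]))
    · exact Or.inr (Or.inr (Or.inl (by rw [hc, hs6])))
    · exact Or.inr (Or.inr (Or.inr (by rw [hc, hs6])))
  · rw [List.any_eq_true] at hc
    obtain ⟨e, he, hc⟩ := hc
    rw [List.any_eq_true] at hc
    obtain ⟨p, hp, hc⟩ := hc
    rw [Bool.and_eq_true, qb_iff, qb_iff] at hc
    have hpi := List.all_eq_true.1 pl_inj' p hp
    rw [Bool.and_eq_true, eb_iff] at hpi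
    have hb := h.bas_zero h2 e he (s ∘ p) (s.injective.comp (inj_iff hpi.1))
    have ea : ∀ q, act (s ∘ p) q = act s (act p q) := fun q => rfl
    rw [ea, ea, ← h.cqs, ← h.cqs2, hc.1, hc.2, hsy] at hb
    rw [Function.comp_apply, hpi.2, hs6] at hb
    exact hb

end Good

end Cfsg.Agent.H879.E6.Uniq
end

-- part: H879/E6/UniqD
section
/-!
# S5927, S5928: uniqueness of the cubic form of (A7, p = 5), fourth part (helper879)

`Z F t`: all functions `d` with `Good d` are zero at `t`. The 86 orbits of triples of indices.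
-/

set_option autoImplicit false

namespace Cfsg.Agent.H879.E6.Uniq

open Good (inj inj_iff)

abbrev T := Q × Q × Q

/-- number of an index -/
def cd (q : Q) : ℕ := ((q.1.val * 7 + q.2.1.val) * 7 + q.2.2.1.val) * 7 + q.2.2.2.val

/-- sort two indices -/
def sq (x y : Q) : Q × Q := bif Nat.ble (cd x) (cd y) then (x, y) else (y, x)

/-- canonical form of a triple of indices -/
def cn (t : T) : T :=
  let a := sq (cq t.1) (cq t.2.1)
  let b := sq a.2 (cq t.2.2)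
  let c := sq a.1 b.1
  (c.1, c.2, b.2)

/-- relabelling of a triple -/
def actT (s : Fin 7 → Fin 7) (t : T) : T := (act s t.1, act s t.2.1, act s t.2.2)

/-- equality of triples -/
def tb (x y : T) : Bool := qb x.1 y.1 && qb x.2.1 y.2.1 && qb x.2.2 y.2.2

theorem tb_iff {x y : T} : tb x y = true ↔ x = y := by
  obtain ⟨a, b, c⟩ := x
  obtain ⟨a', b', c'⟩ := y
  simp only [tb, Bool.and_eq_true, qb_iff, Prod.mk.injEq]
  tauto

/-- all good functions are zero at `t` -/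
def Z (F : Type*) [Field F] (t : T) : Prop := ∀ d : Q → Q → Q → F, Good d → d t.1 t.2.1 t.2.2 = 0

variable {F : Type*} [Field F]

theorem Good.cn_eq {d : Q → Q → Q → F} (h : Good d) (t : T) : d (cn t).1 (cn t).2.1 (cn t).2.2 = d t.1 t.2.1 t.2.2 := by
  have e1 : ∀ x y z, d (sq x y).1 (sq x y).2 z = d x y z := by
    intro x y z
    unfold sq
    rcases Bool.eq_false_or_eq_true (Nat.ble (cd x) (cd y)) with hh | hh
    · rw [hh]; rfl
    · rw [hh]; exact h.s12 _ _ _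
  have e2 : ∀ x y z, d x (sq y z).1 (sq y z).2 = d x y z := by
    intro x y z
    unfold sq
    rcases Bool.eq_false_or_eq_true (Nat.ble (cd y) (cd z)) with hh | hh
    · rw [hh]; rfl
    · rw [hh]; exact h.s23 _ _ _
  obtain ⟨x, y, z⟩ := t
  unfold cn
  dsimp only
  rw [e1, e2, e1, h.cq1, h.s23, h.cq1, h.s12, h.s23, h.cq1]
  rw [h.s23, h.s12, h.s23]

theorem Z_cn {t t' : T} (h : Z F t) (e : cn t = cn t') : Z F t' := by
  intro d hd
  rw [← hd.cn_eq t', ← e, hd.cn_eq t]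
  exact h d hd

theorem Z_rel {t : T} (h : Z F t) {s : Fin 7 → Fin 7} (hs : Function.Injective s) : Z F (actT s t) := by
  intro d hd
  exact h (Good.rl d s) (hd.rel hs)

/-- relabelling, with hints checked by the kernel -/
theorem Z_of {t : T} (s : Fin 7 → Fin 7) (t' : T) (h : Z F t) (e : (inj s && tb (cn (actT s t)) (cn t')) = true) :
    Z F t' := by
  rw [Bool.and_eq_true, tb_iff] at e
  exact Z_cn (Z_rel h (inj_iff e.1)) e.2

theorem Z_star (i j k l m n : Fin 7) (z : Q) : Z F ((i, j, k, l), (i, j, m, n), z) := fun _ hd => hd.star _ _ _ _ _ _ _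

theorem Z_three (h2 : (2 : F) ≠ 0) (x y : Q) (i j k l : Fin 7) (hq : dis (i, j, k, l) = true)
    (h1 : Z F (x, y, (i, k, j, l))) (h3 : Z F (x, y, (i, l, j, k))) : Z F (x, y, (i, j, k, l)) := by
  intro d hd
  obtain ⟨g1, g2, g3, g4, g5, g6⟩ := dis_iff.1 hq
  have h := hd.three x y i j k l g1 g2 g3 g4 g5 g6
  have e1 : d x y (i, k, j, l) = 0 := h1 d hd
  have e2 : d x y (i, l, j, k) = 0 := h3 d hd
  have ev : ∀ g, d x y (vv g) = 0 := fun g => by rw [hd.c13, hd.vzero h2]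
  rw [e1, e2, ev, ev, ev, ev] at h
  change d x y (i, j, k, l) = 0
  linear_combination h

theorem Z_ovl (h2 : (2 : F) ≠ 0) (x y : Q) {z : Q} (hz : dis z = false) : Z F (x, y, z) := by
  intro d hd
  exact hd.ovl _ _ (fun g => by rw [hd.c13, hd.vzero h2]) hz

theorem Z_sum (h2 : (2 : F) ≠ 0) (x y : Q) (i j k l m n p : Fin 7)
    (hq : ((List.finRange 7).all fun t => !(dis (i, j, k, t)) || eb t l || eb t m || eb t n || eb t p) = true)
    (h1 : Z F (x, y, (i, j, k, m))) (h3 : Z F (x, y, (i, j, k, n))) (h4 : Z F (x, y, (i, j, k, p))) :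
    Z F (x, y, (i, j, k, l)) := by
  intro d hd
  have h := hd.sum x y i j k
  rw [Finset.sum_eq_single l] at h
  · exact h
  · intro t _ ht
    have := List.all_eq_true.1 hq t (List.mem_finRange t)
    rw [Bool.or_eq_true, Bool.or_eq_true, Bool.or_eq_true, Bool.or_eq_true, eb_iff, eb_iff, eb_iff, eb_iff] at this
    rcases this with (((h5 | h5) | h5) | h5) | h5
    · rw [Bool.not_eq_true'] at h5
      exact Z_ovl h2 x y h5 d hd
    · exact absurd h5 ht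
    · rw [h5]; exact h1 d hd
    · rw [h5]; exact h3 d hd
    · rw [h5]; exact h4 d hd
  · intro hn
    exact absurd (Finset.mem_univ _) hn

section

theorem z0 : Z F ((0, 1, 2, 3), (0, 1, 2, 3), (0, 1, 2, 3)) :=
  (Z_cn (Z_star 0 1 2 3 2 3 (0, 1, 2, 3)) (tb_iff.1 (by decide)))

theorem z1 : Z F ((0, 1, 2, 3), (0, 1, 2, 3), (0, 1, 2, 4)) :=
  (Z_cn (Z_star 0 1 2 3 2 3 (0, 1, 2, 4)) (tb_iff.1 (by decide)))

theorem z2 : Z F ((0, 1, 2, 3), (0, 1, 2, 3), (0, 1, 4, 5)) :=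
  (Z_cn (Z_star 0 1 2 3 2 3 (0, 1, 4, 5)) (tb_iff.1 (by decide)))

theorem z3 : Z F ((0, 1, 2, 3), (0, 1, 2, 3), (0, 2, 1, 3)) :=
  (Z_cn (Z_star 0 1 2 3 2 3 (0, 2, 1, 3)) (tb_iff.1 (by decide)))

theorem z4 : Z F ((0, 1, 2, 3), (0, 1, 2, 3), (0, 2, 1, 4)) :=
  (Z_cn (Z_star 0 1 2 3 2 3 (0, 2, 1, 4)) (tb_iff.1 (by decide)))

theorem z5 : Z F ((0, 1, 2, 3), (0, 1, 2, 3), (0, 2, 4, 5)) :=
  (Z_cn (Z_star 0 1 2 3 2 3 (0, 2, 4, 5)) (tb_iff.1 (by decide)))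

theorem z6 : Z F ((0, 1, 2, 3), (0, 1, 2, 3), (0, 4, 1, 5)) :=
  (Z_cn (Z_star 0 1 2 3 2 3 (0, 4, 1, 5)) (tb_iff.1 (by decide)))

theorem z7 : Z F ((0, 1, 2, 3), (0, 1, 2, 3), (0, 4, 2, 5)) :=
  (Z_cn (Z_star 0 1 2 3 2 3 (0, 4, 2, 5)) (tb_iff.1 (by decide)))

theorem z8 : Z F ((0, 1, 2, 3), (0, 1, 2, 3), (0, 4, 5, 6)) :=
  (Z_cn (Z_star 0 1 2 3 2 3 (0, 4, 5, 6)) (tb_iff.1 (by decide)))

theorem z9 : Z F ((0, 1, 2, 3), (0, 1, 2, 4), (0, 1, 2, 5)) :=
  (Z_cn (Z_star 0 1 2 3 2 4 (0, 1, 2, 5)) (tb_iff.1 (by decide)))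

theorem z10 : Z F ((0, 1, 2, 3), (0, 1, 2, 4), (0, 1, 3, 4)) :=
  (Z_cn (Z_star 0 1 2 3 2 4 (0, 1, 3, 4)) (tb_iff.1 (by decide)))

theorem z11 : Z F ((0, 1, 2, 3), (0, 1, 2, 4), (0, 1, 3, 5)) :=
  (Z_cn (Z_star 0 1 2 3 2 4 (0, 1, 3, 5)) (tb_iff.1 (by decide)))

theorem z12 : Z F ((0, 1, 2, 3), (0, 1, 2, 4), (0, 1, 5, 6)) :=
  (Z_cn (Z_star 0 1 2 3 2 4 (0, 1, 5, 6)) (tb_iff.1 (by decide)))

theorem z13 : Z F ((0, 1, 2, 3), (0, 1, 2, 4), (0, 2, 1, 3)) :=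
  (Z_cn (Z_star 0 1 2 3 2 4 (0, 2, 1, 3)) (tb_iff.1 (by decide)))

theorem z14 : Z F ((0, 1, 2, 3), (0, 1, 2, 4), (0, 2, 1, 5)) :=
  (Z_cn (Z_star 0 1 2 3 2 4 (0, 2, 1, 5)) (tb_iff.1 (by decide)))

theorem z15 : Z F ((0, 1, 2, 3), (0, 1, 2, 4), (0, 2, 3, 4)) :=
  (Z_cn (Z_star 0 1 2 3 2 4 (0, 2, 3, 4)) (tb_iff.1 (by decide)))

theorem z16 : Z F ((0, 1, 2, 3), (0, 1, 2, 4), (0, 2, 3, 5)) :=
  (Z_cn (Z_star 0 1 2 3 2 4 (0, 2, 3, 5)) (tb_iff.1 (by decide)))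

theorem z17 : Z F ((0, 1, 2, 3), (0, 1, 2, 4), (0, 2, 5, 6)) :=
  (Z_cn (Z_star 0 1 2 3 2 4 (0, 2, 5, 6)) (tb_iff.1 (by decide)))

theorem z18 : Z F ((0, 1, 2, 3), (0, 1, 2, 4), (0, 3, 1, 4)) :=
  (Z_cn (Z_star 0 1 2 3 2 4 (0, 3, 1, 4)) (tb_iff.1 (by decide)))

theorem z19 : Z F ((0, 1, 2, 3), (0, 1, 2, 4), (0, 3, 1, 5)) :=
  (Z_cn (Z_star 0 1 2 3 2 4 (0, 3, 1, 5)) (tb_iff.1 (by decide)))

theorem z20 : Z F ((0, 1, 2, 3), (0, 1, 2, 4), (0, 3, 2, 4)) :=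
  (Z_cn (Z_star 0 1 2 3 2 4 (0, 3, 2, 4)) (tb_iff.1 (by decide)))

theorem z21 : Z F ((0, 1, 2, 3), (0, 1, 2, 4), (0, 3, 2, 5)) :=
  (Z_cn (Z_star 0 1 2 3 2 4 (0, 3, 2, 5)) (tb_iff.1 (by decide)))

theorem z22 : Z F ((0, 1, 2, 3), (0, 1, 2, 4), (0, 3, 4, 5)) :=
  (Z_cn (Z_star 0 1 2 3 2 4 (0, 3, 4, 5)) (tb_iff.1 (by decide)))

theorem z23 : Z F ((0, 1, 2, 3), (0, 1, 2, 4), (0, 3, 5, 6)) :=
  (Z_cn (Z_star 0 1 2 3 2 4 (0, 3, 5, 6)) (tb_iff.1 (by decide)))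

theorem z24 : Z F ((0, 1, 2, 3), (0, 1, 2, 4), (0, 5, 1, 6)) :=
  (Z_cn (Z_star 0 1 2 3 2 4 (0, 5, 1, 6)) (tb_iff.1 (by decide)))

theorem z25 : Z F ((0, 1, 2, 3), (0, 1, 2, 4), (0, 5, 2, 3)) :=
  (Z_cn (Z_star 0 1 2 3 2 4 (0, 5, 2, 3)) (tb_iff.1 (by decide)))

theorem z26 : Z F ((0, 1, 2, 3), (0, 1, 2, 4), (0, 5, 2, 6)) :=
  (Z_cn (Z_star 0 1 2 3 2 4 (0, 5, 2, 6)) (tb_iff.1 (by decide)))

theorem z27 : Z F ((0, 1, 2, 3), (0, 1, 2, 4), (0, 5, 3, 4)) :=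
  (Z_cn (Z_star 0 1 2 3 2 4 (0, 5, 3, 4)) (tb_iff.1 (by decide)))

theorem z28 : Z F ((0, 1, 2, 3), (0, 1, 2, 4), (0, 5, 3, 6)) :=
  (Z_cn (Z_star 0 1 2 3 2 4 (0, 5, 3, 6)) (tb_iff.1 (by decide)))

theorem z29 : Z F ((0, 1, 2, 3), (0, 1, 2, 4), (2, 3, 4, 5)) :=
  (Z_cn (Z_star 0 1 2 3 2 4 (2, 3, 4, 5)) (tb_iff.1 (by decide)))

theorem z30 : Z F ((0, 1, 2, 3), (0, 1, 2, 4), (2, 3, 5, 6)) :=
  (Z_cn (Z_star 0 1 2 3 2 4 (2, 3, 5, 6)) (tb_iff.1 (by decide)))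

theorem z31 : Z F ((0, 1, 2, 3), (0, 1, 2, 4), (2, 5, 3, 4)) :=
  (Z_cn (Z_star 0 1 2 3 2 4 (2, 5, 3, 4)) (tb_iff.1 (by decide)))

theorem z32 : Z F ((0, 1, 2, 3), (0, 1, 2, 4), (2, 5, 3, 6)) :=
  (Z_cn (Z_star 0 1 2 3 2 4 (2, 5, 3, 6)) (tb_iff.1 (by decide)))

theorem z33 : Z F ((0, 1, 2, 3), (0, 1, 2, 4), (3, 4, 5, 6)) :=
  (Z_cn (Z_star 0 1 2 3 2 4 (3, 4, 5, 6)) (tb_iff.1 (by decide)))

theorem z34 : Z F ((0, 1, 2, 3), (0, 1, 2, 4), (3, 5, 4, 6)) :=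
  (Z_cn (Z_star 0 1 2 3 2 4 (3, 5, 4, 6)) (tb_iff.1 (by decide)))

theorem z35 : Z F ((0, 1, 2, 3), (0, 1, 4, 5), (0, 2, 1, 3)) :=
  (Z_cn (Z_star 0 1 2 3 4 5 (0, 2, 1, 3)) (tb_iff.1 (by decide)))

theorem z36 : Z F ((0, 1, 2, 3), (0, 1, 4, 5), (0, 2, 1, 4)) :=
  (Z_cn (Z_star 0 1 2 3 4 5 (0, 2, 1, 4)) (tb_iff.1 (by decide)))

theorem z37 : Z F ((0, 1, 2, 3), (0, 1, 4, 5), (0, 2, 1, 6)) :=
  (Z_cn (Z_star 0 1 2 3 4 5 (0, 2, 1, 6)) (tb_iff.1 (by decide)))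

theorem z38 : Z F ((0, 1, 2, 3), (0, 1, 4, 5), (0, 2, 3, 4)) :=
  (Z_cn (Z_star 0 1 2 3 4 5 (0, 2, 3, 4)) (tb_iff.1 (by decide)))

theorem z39 : Z F ((0, 1, 2, 3), (0, 1, 4, 5), (0, 2, 3, 6)) :=
  (Z_cn (Z_star 0 1 2 3 4 5 (0, 2, 3, 6)) (tb_iff.1 (by decide)))

theorem z40 : Z F ((0, 1, 2, 3), (0, 1, 4, 5), (0, 2, 4, 6)) :=
  (Z_cn (Z_star 0 1 2 3 4 5 (0, 2, 4, 6)) (tb_iff.1 (by decide)))

theorem z41 : Z F ((0, 1, 2, 3), (0, 1, 4, 5), (0, 6, 2, 4)) :=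
  (Z_cn (Z_star 0 1 2 3 4 5 (0, 6, 2, 4)) (tb_iff.1 (by decide)))

theorem z42 : Z F ((0, 1, 2, 3), (0, 1, 4, 5), (2, 3, 4, 5)) :=
  (Z_cn (Z_star 0 1 2 3 4 5 (2, 3, 4, 5)) (tb_iff.1 (by decide)))

theorem z43 : Z F ((0, 1, 2, 3), (0, 1, 4, 5), (2, 3, 4, 6)) :=
  (Z_cn (Z_star 0 1 2 3 4 5 (2, 3, 4, 6)) (tb_iff.1 (by decide)))

theorem z44 : Z F ((0, 1, 2, 3), (0, 1, 4, 5), (2, 4, 3, 5)) :=
  (Z_cn (Z_star 0 1 2 3 4 5 (2, 4, 3, 5)) (tb_iff.1 (by decide)))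

theorem z45 : Z F ((0, 1, 2, 3), (0, 1, 4, 5), (2, 4, 3, 6)) :=
  (Z_cn (Z_star 0 1 2 3 4 5 (2, 4, 3, 6)) (tb_iff.1 (by decide)))

variable (h2 : (2 : F) ≠ 0)
include h2

theorem z46 : Z F ((0, 1, 2, 3), (0, 2, 1, 3), (0, 3, 1, 2)) :=
  Z_cn (t := ((0, 1, 2, 3), (0, 2, 1, 3), (0, 3, 1, 2))) (
    Z_three h2 (0, 1, 2, 3) (0, 2, 1, 3) 0 3 1 2 (by decide)
      (Z_cn (Z_star 0 1 2 3 2 3 (0, 2, 1, 3)) (tb_iff.1 (by decide)))
      (Z_cn (Z_star 0 2 1 3 1 3 (0, 1, 2, 3)) (tb_iff.1 (by decide)))) (tb_iff.1 (by decide))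

theorem z47 : Z F ((0, 1, 2, 3), (0, 2, 1, 3), (0, 3, 1, 4)) :=
  Z_cn (t := ((0, 1, 2, 3), (0, 2, 1, 3), (0, 3, 1, 4))) (
    Z_three h2 (0, 1, 2, 3) (0, 2, 1, 3) 0 3 1 4 (by decide)
      (Z_cn (Z_star 0 1 2 3 3 4 (0, 2, 1, 3)) (tb_iff.1 (by decide)))
      (Z_cn (Z_star 1 3 0 2 0 4 (0, 1, 2, 3)) (tb_iff.1 (by decide)))) (tb_iff.1 (by decide))

theorem z48 : Z F ((0, 1, 2, 3), (0, 2, 1, 3), (0, 3, 4, 5)) :=
  Z_cn (t := ((0, 1, 2, 3), (0, 3, 4, 5), (0, 2, 1, 3))) (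
    Z_three h2 (0, 1, 2, 3) (0, 3, 4, 5) 0 2 1 3 (by decide)
      (Z_cn (Z_star 0 1 2 3 2 3 (0, 3, 4, 5)) (tb_iff.1 (by decide)))
      (Z_cn (Z_star 0 3 4 5 1 2 (0, 1, 2, 3)) (tb_iff.1 (by decide)))) (tb_iff.1 (by decide))

theorem z52 : Z F ((0, 1, 2, 3), (0, 2, 1, 4), (0, 3, 1, 5)) :=
  Z_cn (t := ((0, 2, 1, 4), (0, 3, 1, 5), (0, 1, 2, 3))) (
    Z_three h2 (0, 2, 1, 4) (0, 3, 1, 5) 0 1 2 3 (by decide)
      (Z_cn (Z_star 0 2 1 4 1 3 (0, 3, 1, 5)) (tb_iff.1 (by decide)))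
      (Z_cn (Z_star 0 3 1 5 1 2 (0, 2, 1, 4)) (tb_iff.1 (by decide)))) (tb_iff.1 (by decide))

theorem z53 : Z F ((0, 1, 2, 3), (0, 2, 1, 4), (0, 3, 2, 4)) :=
  Z_cn (t := ((0, 1, 2, 3), (0, 2, 1, 4), (0, 3, 2, 4))) (
    Z_three h2 (0, 1, 2, 3) (0, 2, 1, 4) 0 3 2 4 (by decide)
      (Z_cn (Z_star 0 2 1 4 3 4 (0, 1, 2, 3)) (tb_iff.1 (by decide)))
      (Z_cn (Z_star 2 3 0 1 0 4 (0, 2, 1, 4)) (tb_iff.1 (by decide)))) (tb_iff.1 (by decide))

theorem z54 : Z F ((0, 1, 2, 3), (0, 2, 1, 4), (0, 3, 2, 5)) :=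
  Z_cn (t := ((0, 1, 2, 3), (0, 2, 1, 4), (0, 3, 2, 5))) (
    Z_three h2 (0, 1, 2, 3) (0, 2, 1, 4) 0 3 2 5 (by decide)
      (Z_cn (Z_star 0 2 1 4 3 5 (0, 1, 2, 3)) (tb_iff.1 (by decide)))
      (Z_cn (Z_star 2 3 0 1 0 5 (0, 2, 1, 4)) (tb_iff.1 (by decide)))) (tb_iff.1 (by decide))

theorem z55 : Z F ((0, 1, 2, 3), (0, 2, 1, 4), (0, 3, 4, 5)) :=
  Z_cn (t := ((0, 2, 1, 4), (0, 3, 4, 5), (0, 1, 2, 3))) (
    Z_three h2 (0, 2, 1, 4) (0, 3, 4, 5) 0 1 2 3 (by decide)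
      (Z_cn (Z_star 0 2 1 4 1 3 (0, 3, 4, 5)) (tb_iff.1 (by decide)))
      (Z_cn (Z_star 0 3 4 5 1 2 (0, 2, 1, 4)) (tb_iff.1 (by decide)))) (tb_iff.1 (by decide))

theorem z56 : Z F ((0, 1, 2, 3), (0, 2, 1, 4), (0, 3, 5, 6)) :=
  Z_cn (t := ((0, 2, 1, 4), (0, 3, 5, 6), (0, 1, 2, 3))) (
    Z_three h2 (0, 2, 1, 4) (0, 3, 5, 6) 0 1 2 3 (by decide)
      (Z_cn (Z_star 0 2 1 4 1 3 (0, 3, 5, 6)) (tb_iff.1 (by decide)))
      (Z_cn (Z_star 0 3 5 6 1 2 (0, 2, 1, 4)) (tb_iff.1 (by decide)))) (tb_iff.1 (by decide))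

theorem z57 : Z F ((0, 1, 2, 3), (0, 2, 1, 4), (0, 5, 1, 2)) :=
  Z_cn (t := ((0, 1, 2, 3), (0, 2, 1, 4), (0, 5, 1, 2))) (
    Z_three h2 (0, 1, 2, 3) (0, 2, 1, 4) 0 5 1 2 (by decide)
      (Z_cn (Z_star 0 1 2 3 2 5 (0, 2, 1, 4)) (tb_iff.1 (by decide)))
      (Z_cn (Z_star 0 2 1 4 1 5 (0, 1, 2, 3)) (tb_iff.1 (by decide)))) (tb_iff.1 (by decide))

theorem z62 : Z F ((0, 1, 2, 3), (0, 2, 1, 4), (1, 2, 5, 6)) :=
  Z_cn (t := ((0, 1, 2, 3), (1, 2, 5, 6), (0, 2, 1, 4))) (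
    Z_three h2 (0, 1, 2, 3) (1, 2, 5, 6) 0 2 1 4 (by decide)
      (Z_cn (Z_star 0 1 2 3 2 4 (1, 2, 5, 6)) (tb_iff.1 (by decide)))
      (Z_cn (Z_star 1 2 5 6 0 4 (0, 1, 2, 3)) (tb_iff.1 (by decide)))) (tb_iff.1 (by decide))

theorem z73 : Z F ((0, 1, 2, 3), (0, 2, 4, 5), (0, 3, 4, 6)) :=
  Z_cn (t := ((0, 2, 4, 5), (0, 3, 4, 6), (0, 1, 2, 3))) (
    Z_three h2 (0, 2, 4, 5) (0, 3, 4, 6) 0 1 2 3 (by decide)
      (Z_cn (Z_star 0 2 4 5 1 3 (0, 3, 4, 6)) (tb_iff.1 (by decide)))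
      (Z_cn (Z_star 0 3 4 6 1 2 (0, 2, 4, 5)) (tb_iff.1 (by decide)))) (tb_iff.1 (by decide))

theorem z51 : Z F ((0, 1, 2, 3), (0, 2, 1, 3), (0, 4, 5, 6)) :=
  Z_cn (t := ((0, 1, 2, 3), (0, 2, 1, 3), (5, 6, 0, 4))) (
    Z_sum h2 (0, 1, 2, 3) (0, 2, 1, 3) 5 6 0 4 1 2 3 (by decide)
      (Z_cn (Z_star 0 1 2 3 5 6 (0, 2, 1, 3)) (tb_iff.1 (by decide)))
      (Z_cn (Z_star 0 2 1 3 5 6 (0, 1, 2, 3)) (tb_iff.1 (by decide)))
      (Z_of ![0, 1, 2, 3, 5, 6, 4] ((0, 1, 2, 3), (0, 2, 1, 3), (5, 6, 0, 3)) (z48 h2) (by decide))) (tb_iff.1 (by decide))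

theorem z58 : Z F ((0, 1, 2, 3), (0, 2, 1, 4), (0, 5, 1, 3)) :=
  Z_cn (t := ((0, 1, 2, 3), (0, 2, 1, 4), (0, 5, 1, 3))) (
    Z_three h2 (0, 1, 2, 3) (0, 2, 1, 4) 0 5 1 3 (by decide)
      (Z_cn (Z_star 0 1 2 3 3 5 (0, 2, 1, 4)) (tb_iff.1 (by decide)))
      (Z_of ![0, 1, 2, 3, 4, 5, 6] ((0, 1, 2, 3), (0, 2, 1, 4), (0, 3, 5, 1)) (z52 h2) (by decide))) (tb_iff.1 (by decide))

theorem z59 : Z F ((0, 1, 2, 3), (0, 2, 1, 4), (0, 5, 1, 6)) :=
  Z_cn (t := ((0, 1, 2, 3), (0, 2, 1, 4), (1, 6, 0, 5))) (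
    Z_sum h2 (0, 1, 2, 3) (0, 2, 1, 4) 1 6 0 5 2 3 4 (by decide)
      (Z_cn (Z_star 0 2 1 4 1 6 (0, 1, 2, 3)) (tb_iff.1 (by decide)))
      (Z_of ![0, 1, 2, 3, 4, 6, 5] ((0, 1, 2, 3), (0, 2, 1, 4), (1, 6, 0, 3)) (z52 h2) (by decide))
      (Z_of ![0, 2, 1, 4, 3, 6, 5] ((0, 1, 2, 3), (0, 2, 1, 4), (1, 6, 0, 4)) (z54 h2) (by decide))) (tb_iff.1 (by decide))

theorem z60 : Z F ((0, 1, 2, 3), (0, 2, 1, 4), (0, 5, 3, 4)) :=
  Z_cn (t := ((0, 1, 2, 3), (0, 2, 1, 4), (0, 5, 3, 4))) (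
    Z_three h2 (0, 1, 2, 3) (0, 2, 1, 4) 0 5 3 4 (by decide)
      (Z_of ![0, 1, 2, 3, 4, 5, 6] ((0, 1, 2, 3), (0, 2, 1, 4), (0, 3, 5, 4)) (z55 h2) (by decide))
      (Z_of ![0, 2, 1, 4, 3, 5, 6] ((0, 1, 2, 3), (0, 2, 1, 4), (0, 4, 5, 3)) (z55 h2) (by decide))) (tb_iff.1 (by decide))

theorem z61 : Z F ((0, 1, 2, 3), (0, 2, 1, 4), (0, 5, 3, 6)) :=
  Z_cn (t := ((0, 1, 2, 3), (0, 2, 1, 4), (3, 6, 0, 5))) (
    Z_sum h2 (0, 1, 2, 3) (0, 2, 1, 4) 3 6 0 5 1 2 4 (by decide)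
      (Z_cn (Z_star 0 1 2 3 3 6 (0, 2, 1, 4)) (tb_iff.1 (by decide)))
      (Z_cn (Z_star 0 2 1 4 3 6 (0, 1, 2, 3)) (tb_iff.1 (by decide)))
      (Z_of ![0, 2, 1, 4, 3, 6, 5] ((0, 1, 2, 3), (0, 2, 1, 4), (3, 6, 0, 4)) (z55 h2) (by decide))) (tb_iff.1 (by decide))

theorem z63 : Z F ((0, 1, 2, 3), (0, 2, 1, 4), (1, 3, 2, 4)) :=
  Z_cn (t := ((0, 1, 2, 3), (0, 2, 1, 4), (1, 3, 2, 4))) (
    Z_three h2 (0, 1, 2, 3) (0, 2, 1, 4) 1 3 2 4 (by decide)
      (Z_of ![1, 4, 2, 0, 3, 5, 6] ((0, 1, 2, 3), (0, 2, 1, 4), (1, 2, 3, 4)) (z53 h2) (by decide))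
      (Z_cn (Z_star 2 3 0 1 1 4 (0, 2, 1, 4)) (tb_iff.1 (by decide)))) (tb_iff.1 (by decide))

theorem z64 : Z F ((0, 1, 2, 3), (0, 2, 1, 4), (1, 3, 2, 5)) :=
  Z_cn (t := ((0, 1, 2, 3), (0, 2, 1, 4), (1, 3, 2, 5))) (
    Z_three h2 (0, 1, 2, 3) (0, 2, 1, 4) 1 3 2 5 (by decide)
      (Z_of ![2, 3, 1, 0, 5, 4, 6] ((0, 1, 2, 3), (0, 2, 1, 4), (1, 2, 3, 5)) (z54 h2) (by decide))
      (Z_cn (Z_star 2 3 0 1 1 5 (0, 2, 1, 4)) (tb_iff.1 (by decide)))) (tb_iff.1 (by decide))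

theorem z65 : Z F ((0, 1, 2, 3), (0, 2, 1, 4), (1, 3, 4, 5)) :=
  Z_cn (t := ((0, 1, 2, 3), (1, 3, 4, 5), (0, 2, 1, 4))) (
    Z_three h2 (0, 1, 2, 3) (1, 3, 4, 5) 0 2 1 4 (by decide)
      (Z_cn (Z_star 0 1 2 3 2 4 (1, 3, 4, 5)) (tb_iff.1 (by decide)))
      (Z_of ![1, 0, 2, 3, 4, 5, 6] ((0, 1, 2, 3), (1, 3, 4, 5), (0, 4, 2, 1)) (z55 h2) (by decide))) (tb_iff.1 (by decide))

theorem z66 : Z F ((0, 1, 2, 3), (0, 2, 1, 4), (1, 3, 5, 6)) :=
  Z_cn (t := ((0, 1, 2, 3), (0, 2, 1, 4), (5, 6, 1, 3))) (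
    Z_sum h2 (0, 1, 2, 3) (0, 2, 1, 4) 5 6 1 3 0 2 4 (by decide)
      (Z_cn (Z_star 0 1 2 3 5 6 (0, 2, 1, 4)) (tb_iff.1 (by decide)))
      (Z_of ![0, 1, 2, 3, 4, 5, 6] ((0, 1, 2, 3), (0, 2, 1, 4), (5, 6, 1, 2)) (z62 h2) (by decide))
      (Z_cn (Z_star 1 4 0 2 5 6 (0, 1, 2, 3)) (tb_iff.1 (by decide)))) (tb_iff.1 (by decide))

theorem z69 : Z F ((0, 1, 2, 3), (0, 2, 1, 4), (1, 5, 3, 6)) :=
  Z_cn (t := ((0, 1, 2, 3), (0, 2, 1, 4), (3, 6, 1, 5))) (
    Z_sum h2 (0, 1, 2, 3) (0, 2, 1, 4) 3 6 1 5 0 2 4 (by decide)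
      (Z_cn (Z_star 0 1 2 3 3 6 (0, 2, 1, 4)) (tb_iff.1 (by decide)))
      (Z_of ![2, 3, 1, 0, 6, 4, 5] ((0, 1, 2, 3), (0, 2, 1, 4), (3, 6, 1, 2)) (z54 h2) (by decide))
      (Z_cn (Z_star 1 4 0 2 3 6 (0, 1, 2, 3)) (tb_iff.1 (by decide)))) (tb_iff.1 (by decide))

theorem z70 : Z F ((0, 1, 2, 3), (0, 2, 1, 4), (1, 5, 4, 6)) :=
  Z_cn (t := ((0, 2, 1, 4), (1, 5, 4, 6), (2, 3, 1, 0))) (
    Z_sum h2 (0, 2, 1, 4) (1, 5, 4, 6) 2 3 1 0 4 5 6 (by decide)
      (Z_cn (Z_star 1 4 0 2 2 3 (1, 5, 4, 6)) (tb_iff.1 (by decide)))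
      (Z_cn (Z_star 1 5 4 6 2 3 (0, 2, 1, 4)) (tb_iff.1 (by decide)))
      (Z_of ![1, 5, 4, 6, 2, 0, 3] ((0, 2, 1, 4), (1, 5, 4, 6), (2, 3, 1, 6)) (z73 h2) (by decide))) (tb_iff.1 (by decide))

theorem z81 : Z F ((0, 1, 2, 3), (0, 4, 2, 5), (0, 6, 3, 5)) :=
  Z_cn (t := ((0, 1, 2, 3), (0, 4, 2, 5), (3, 5, 0, 6))) (
    Z_sum h2 (0, 1, 2, 3) (0, 4, 2, 5) 3 5 0 6 1 2 4 (by decide)
      (Z_cn (Z_star 0 1 2 3 3 5 (0, 4, 2, 5)) (tb_iff.1 (by decide)))
      (Z_of ![2, 0, 3, 5, 1, 4, 6] ((0, 1, 2, 3), (0, 4, 2, 5), (3, 5, 0, 2)) (z52 h2) (by decide))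
      (Z_cn (Z_star 0 4 2 5 3 5 (0, 1, 2, 3)) (tb_iff.1 (by decide)))) (tb_iff.1 (by decide))

theorem z49 : Z F ((0, 1, 2, 3), (0, 2, 1, 3), (0, 4, 1, 5)) :=
  Z_cn (t := ((0, 1, 2, 3), (0, 4, 1, 5), (0, 2, 1, 3))) (
    Z_sum h2 (0, 1, 2, 3) (0, 4, 1, 5) 0 2 1 3 4 5 6 (by decide)
      (Z_of ![0, 2, 1, 4, 3, 5, 6] ((0, 1, 2, 3), (0, 4, 1, 5), (0, 2, 1, 4)) (z54 h2) (by decide))
      (Z_cn (Z_star 1 5 0 4 0 2 (0, 1, 2, 3)) (tb_iff.1 (by decide)))
      (Z_of ![0, 1, 2, 3, 6, 4, 5] ((0, 1, 2, 3), (0, 4, 1, 5), (0, 2, 1, 6)) (z59 h2) (by decide))) (tb_iff.1 (by decide))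

theorem z50 : Z F ((0, 1, 2, 3), (0, 2, 1, 3), (0, 4, 3, 5)) :=
  Z_cn (t := ((0, 1, 2, 3), (0, 4, 3, 5), (0, 2, 1, 3))) (
    Z_sum h2 (0, 1, 2, 3) (0, 4, 3, 5) 0 2 1 3 4 5 6 (by decide)
      (Z_of ![0, 2, 1, 4, 3, 5, 6] ((0, 1, 2, 3), (0, 4, 3, 5), (0, 2, 1, 4)) (z55 h2) (by decide))
      (Z_of ![0, 1, 2, 3, 5, 4, 6] ((0, 1, 2, 3), (0, 4, 3, 5), (0, 2, 1, 5)) (z60 h2) (by decide))
      (Z_of ![0, 1, 2, 3, 6, 4, 5] ((0, 1, 2, 3), (0, 4, 3, 5), (0, 2, 1, 6)) (z61 h2) (by decide))) (tb_iff.1 (by decide))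

theorem z67 : Z F ((0, 1, 2, 3), (0, 2, 1, 4), (1, 5, 2, 6)) :=
  Z_cn (t := ((0, 1, 2, 3), (0, 2, 1, 4), (1, 5, 2, 6))) (
    Z_sum h2 (0, 1, 2, 3) (0, 2, 1, 4) 1 5 2 6 0 3 4 (by decide)
      (Z_cn (Z_star 0 2 1 4 1 5 (0, 1, 2, 3)) (tb_iff.1 (by decide)))
      (Z_cn (Z_star 2 3 0 1 1 5 (0, 2, 1, 4)) (tb_iff.1 (by decide)))
      (Z_of ![0, 2, 1, 4, 3, 5, 6] ((0, 1, 2, 3), (0, 2, 1, 4), (1, 5, 2, 4)) (z64 h2) (by decide))) (tb_iff.1 (by decide))

theorem z68 : Z F ((0, 1, 2, 3), (0, 2, 1, 4), (1, 5, 3, 4)) :=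
  Z_cn (t := ((0, 1, 2, 3), (0, 2, 1, 4), (1, 5, 3, 4))) (
    Z_three h2 (0, 1, 2, 3) (0, 2, 1, 4) 1 5 3 4 (by decide)
      (Z_of ![0, 1, 2, 3, 4, 5, 6] ((0, 1, 2, 3), (0, 2, 1, 4), (1, 3, 5, 4)) (z65 h2) (by decide))
      (Z_cn (Z_star 1 4 0 2 3 5 (0, 1, 2, 3)) (tb_iff.1 (by decide)))) (tb_iff.1 (by decide))

theorem z71 : Z F ((0, 1, 2, 3), (0, 2, 1, 4), (3, 4, 5, 6)) :=
  Z_cn (t := ((0, 1, 2, 3), (0, 2, 1, 4), (5, 6, 3, 4))) (
    Z_sum h2 (0, 1, 2, 3) (0, 2, 1, 4) 5 6 3 4 0 1 2 (by decide)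
      (Z_of ![0, 1, 2, 3, 4, 5, 6] ((0, 1, 2, 3), (0, 2, 1, 4), (5, 6, 3, 0)) (z56 h2) (by decide))
      (Z_of ![0, 1, 2, 3, 4, 5, 6] ((0, 1, 2, 3), (0, 2, 1, 4), (5, 6, 3, 1)) (z66 h2) (by decide))
      (Z_cn (Z_star 2 3 0 1 5 6 (0, 2, 1, 4)) (tb_iff.1 (by decide)))) (tb_iff.1 (by decide))

theorem z72 : Z F ((0, 1, 2, 3), (0, 2, 1, 4), (3, 5, 4, 6)) :=
  Z_cn (t := ((0, 1, 2, 3), (0, 2, 1, 4), (3, 5, 4, 6))) (
    Z_sum h2 (0, 1, 2, 3) (0, 2, 1, 4) 3 5 4 6 0 1 2 (by decide)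
      (Z_of ![0, 2, 1, 4, 3, 5, 6] ((0, 1, 2, 3), (0, 2, 1, 4), (3, 5, 4, 0)) (z55 h2) (by decide))
      (Z_cn (Z_star 1 4 0 2 3 5 (0, 1, 2, 3)) (tb_iff.1 (by decide)))
      (Z_of ![0, 2, 1, 4, 3, 5, 6] ((0, 1, 2, 3), (0, 2, 1, 4), (3, 5, 4, 2)) (z65 h2) (by decide))) (tb_iff.1 (by decide))

theorem z74 : Z F ((0, 1, 2, 3), (0, 2, 4, 5), (0, 4, 1, 6)) :=
  Z_cn (t := ((0, 1, 2, 3), (0, 2, 4, 5), (0, 4, 1, 6))) (
    Z_sum h2 (0, 1, 2, 3) (0, 2, 4, 5) 0 4 1 6 2 3 5 (by decide)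
      (Z_of ![0, 4, 2, 1, 5, 3, 6] ((0, 1, 2, 3), (0, 2, 4, 5), (0, 4, 1, 2)) (z54 h2) (by decide))
      (Z_of ![1, 0, 3, 2, 4, 5, 6] ((0, 1, 2, 3), (0, 2, 4, 5), (0, 4, 1, 3)) (z65 h2) (by decide))
      (Z_of ![4, 0, 5, 1, 2, 3, 6] ((0, 1, 2, 3), (0, 2, 4, 5), (0, 4, 1, 5)) (z65 h2) (by decide))) (tb_iff.1 (by decide))

theorem z75 : Z F ((0, 1, 2, 3), (0, 2, 4, 5), (0, 4, 3, 6)) :=
  Z_cn (t := ((0, 1, 2, 3), (0, 4, 3, 6), (4, 5, 0, 2))) (
    Z_sum h2 (0, 1, 2, 3) (0, 4, 3, 6) 4 5 0 2 1 3 6 (by decide)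
      (Z_cn (Z_star 0 1 2 3 4 5 (0, 4, 3, 6)) (tb_iff.1 (by decide)))
      (Z_of ![0, 3, 4, 5, 6, 1, 2] ((0, 1, 2, 3), (0, 4, 3, 6), (4, 5, 0, 3)) (z59 h2) (by decide))
      (Z_of ![0, 4, 6, 3, 5, 1, 2] ((0, 1, 2, 3), (0, 4, 3, 6), (4, 5, 0, 6)) (z61 h2) (by decide))) (tb_iff.1 (by decide))

theorem z76 : Z F ((0, 1, 2, 3), (0, 2, 4, 5), (0, 6, 3, 4)) :=
  Z_cn (t := ((0, 1, 2, 3), (0, 6, 3, 4), (4, 5, 0, 2))) (
    Z_sum h2 (0, 1, 2, 3) (0, 6, 3, 4) 4 5 0 2 1 3 6 (by decide)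
      (Z_cn (Z_star 0 1 2 3 4 5 (0, 6, 3, 4)) (tb_iff.1 (by decide)))
      (Z_of ![3, 0, 4, 5, 6, 2, 1] ((0, 1, 2, 3), (0, 6, 3, 4), (4, 5, 0, 3)) (z59 h2) (by decide))
      (Z_cn (Z_star 0 6 3 4 4 5 (0, 1, 2, 3)) (tb_iff.1 (by decide)))) (tb_iff.1 (by decide))

theorem z77 : Z F ((0, 1, 2, 3), (0, 2, 4, 5), (1, 3, 4, 6)) :=
  Z_cn (t := ((0, 1, 2, 3), (0, 2, 4, 5), (1, 3, 4, 6))) (
    Z_sum h2 (0, 1, 2, 3) (0, 2, 4, 5) 1 3 4 6 0 2 5 (by decide)
      (Z_of ![1, 0, 3, 2, 4, 5, 6] ((0, 1, 2, 3), (0, 2, 4, 5), (1, 3, 4, 0)) (z65 h2) (by decide))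
      (Z_of ![3, 2, 1, 0, 4, 5, 6] ((0, 1, 2, 3), (0, 2, 4, 5), (1, 3, 4, 2)) (z65 h2) (by decide))
      (Z_cn (Z_star 4 5 0 2 1 3 (0, 1, 2, 3)) (tb_iff.1 (by decide)))) (tb_iff.1 (by decide))

theorem z79 : Z F ((0, 1, 2, 3), (0, 2, 4, 5), (1, 4, 3, 6)) :=
  Z_cn (t := ((0, 1, 2, 3), (0, 2, 4, 5), (3, 6, 4, 1))) (
    Z_sum h2 (0, 1, 2, 3) (0, 2, 4, 5) 3 6 4 1 0 2 5 (by decide)
      (Z_of ![0, 1, 2, 3, 4, 5, 6] ((0, 1, 2, 3), (0, 2, 4, 5), (3, 6, 4, 0)) (z75 h2) (by decide))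
      (Z_of ![2, 0, 4, 5, 3, 6, 1] ((0, 1, 2, 3), (0, 2, 4, 5), (3, 6, 4, 2)) (z74 h2) (by decide))
      (Z_cn (Z_star 4 5 0 2 3 6 (0, 1, 2, 3)) (tb_iff.1 (by decide)))) (tb_iff.1 (by decide))

theorem z80 : Z F ((0, 1, 2, 3), (0, 2, 4, 5), (1, 4, 5, 6)) :=
  Z_cn (t := ((0, 1, 2, 3), (0, 2, 4, 5), (5, 6, 1, 4))) (
    Z_sum h2 (0, 1, 2, 3) (0, 2, 4, 5) 5 6 1 4 0 2 3 (by decide)
      (Z_cn (Z_star 0 1 2 3 5 6 (0, 2, 4, 5)) (tb_iff.1 (by decide)))
      (Z_of ![2, 3, 0, 1, 5, 4, 6] ((0, 1, 2, 3), (0, 2, 4, 5), (5, 6, 1, 2)) (z73 h2) (by decide))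
      (Z_of ![0, 1, 2, 3, 5, 4, 6] ((0, 1, 2, 3), (0, 2, 4, 5), (5, 6, 1, 3)) (z77 h2) (by decide))) (tb_iff.1 (by decide))

theorem z78 : Z F ((0, 1, 2, 3), (0, 2, 4, 5), (1, 4, 3, 5)) :=
  Z_cn (t := ((0, 1, 2, 3), (0, 2, 4, 5), (1, 4, 3, 5))) (
    Z_sum h2 (0, 1, 2, 3) (0, 2, 4, 5) 1 4 3 5 0 2 6 (by decide)
      (Z_of ![0, 1, 3, 2, 4, 5, 6] ((0, 1, 2, 3), (0, 2, 4, 5), (1, 4, 3, 0)) (z55 h2) (by decide))
      (Z_cn (Z_star 2 3 0 1 1 4 (0, 2, 4, 5)) (tb_iff.1 (by decide)))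
      (Z_of ![0, 1, 2, 3, 4, 5, 6] ((0, 1, 2, 3), (0, 2, 4, 5), (1, 4, 3, 6)) (z79 h2) (by decide))) (tb_iff.1 (by decide))

theorem z83 : Z F ((0, 1, 2, 3), (0, 4, 2, 5), (1, 4, 3, 6)) :=
  Z_cn (t := ((0, 1, 2, 3), (0, 4, 2, 5), (3, 6, 4, 1))) (
    Z_sum h2 (0, 1, 2, 3) (0, 4, 2, 5) 3 6 4 1 0 2 5 (by decide)
      (Z_cn (Z_star 0 4 2 5 3 6 (0, 1, 2, 3)) (tb_iff.1 (by decide)))
      (Z_of ![2, 5, 4, 0, 3, 6, 1] ((0, 1, 2, 3), (0, 4, 2, 5), (3, 6, 4, 2)) (z75 h2) (by decide))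
      (Z_of ![5, 2, 4, 0, 3, 6, 1] ((0, 1, 2, 3), (0, 4, 2, 5), (3, 6, 4, 5)) (z79 h2) (by decide))) (tb_iff.1 (by decide))

theorem z85 : Z F ((0, 1, 2, 3), (0, 4, 2, 5), (1, 5, 3, 6)) :=
  Z_cn (t := ((0, 1, 2, 3), (0, 4, 2, 5), (3, 6, 5, 1))) (
    Z_sum h2 (0, 1, 2, 3) (0, 4, 2, 5) 3 6 5 1 0 2 4 (by decide)
      (Z_of ![0, 4, 5, 2, 3, 6, 1] ((0, 1, 2, 3), (0, 4, 2, 5), (3, 6, 5, 0)) (z76 h2) (by decide))
      (Z_cn (Z_star 2 5 0 4 3 6 (0, 1, 2, 3)) (tb_iff.1 (by decide)))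
      (Z_of ![5, 2, 4, 0, 3, 6, 1] ((0, 1, 2, 3), (0, 4, 2, 5), (3, 6, 5, 4)) (z79 h2) (by decide))) (tb_iff.1 (by decide))

theorem z82 : Z F ((0, 1, 2, 3), (0, 4, 2, 5), (1, 4, 3, 5)) :=
  Z_cn (t := ((0, 1, 2, 3), (0, 4, 2, 5), (1, 4, 3, 5))) (
    Z_sum h2 (0, 1, 2, 3) (0, 4, 2, 5) 1 4 3 5 0 2 6 (by decide)
      (Z_of ![0, 3, 1, 4, 2, 5, 6] ((0, 1, 2, 3), (0, 4, 2, 5), (1, 4, 3, 0)) (z55 h2) (by decide))
      (Z_cn (Z_star 2 3 0 1 1 4 (0, 4, 2, 5)) (tb_iff.1 (by decide)))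
      (Z_of ![0, 1, 2, 3, 4, 5, 6] ((0, 1, 2, 3), (0, 4, 2, 5), (1, 4, 3, 6)) (z83 h2) (by decide))) (tb_iff.1 (by decide))

theorem z84 : Z F ((0, 1, 2, 3), (0, 4, 2, 5), (1, 5, 3, 4)) :=
  Z_cn (t := ((0, 1, 2, 3), (0, 4, 2, 5), (1, 5, 3, 4))) (
    Z_sum h2 (0, 1, 2, 3) (0, 4, 2, 5) 1 5 3 4 0 2 6 (by decide)
      (Z_of ![0, 1, 3, 2, 5, 4, 6] ((0, 1, 2, 3), (0, 4, 2, 5), (1, 5, 3, 0)) (z60 h2) (by decide))
      (Z_cn (Z_star 2 3 0 1 1 5 (0, 4, 2, 5)) (tb_iff.1 (by decide)))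
      (Z_of ![0, 1, 2, 3, 4, 5, 6] ((0, 1, 2, 3), (0, 4, 2, 5), (1, 5, 3, 6)) (z85 h2) (by decide))) (tb_iff.1 (by decide))

end

/-- the representatives of the orbits -/
def reps : List T := (beta% delta% lq269454d670 fun a b _ _ _ i _ _ _ m _ _ =>
 (let e:=(let e:=(let e:=(let e:=(m (b (b 0<|b 1<|b 2 3)<|b (b 0<|b 2<|b 4 5) (b 1<|b 4<|b 5 6))<|m (b (b 0<|b 1<|b 2 3)<|b (b 0<|b 4<|b 2 5) (b 0<|b 6<|b 3 5))<|
 m (b (b 0<|b 1<|b 2 3)<|b (b 0<|b 4<|b 2 5) (b 1<|b 4<|b 3 5))<|m (b (b 0<|b 1<|b 2 3)<|b (b 0<|b 4<|b 2 5) (b 1<|b 4<|b 3 6))<|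
 m (b (b 0<|b 1<|b 2 3)<|b (b 0<|b 4<|b 2 5) (b 1<|b 5<|b 3 4))<|m (b (b 0<|b 1<|b 2 3)<|b (b 0<|b 4<|b 2 5) (b 1<|b 5<|b 3 6))<|i);
 (m (b (b 0<|b 1<|b 2 3)<|b (b 0<|b 2<|b 4 5) (b 0<|b 4<|b 3 6))<|
 m (b (b 0<|b 1<|b 2 3)<|b (b 0<|b 2<|b 4 5) (b 0<|b 6<|b 3 4))<|m (b (b 0<|b 1<|b 2 3)<|b (b 0<|b 2<|b 4 5) (b 1<|b 3<|b 4 6))<|
 m (b (b 0<|b 1<|b 2 3)<|b (b 0<|b 2<|b 4 5) (b 1<|b 4<|b 3 5))<|m (b (b 0<|b 1<|b 2 3)<|b (b 0<|b 2<|b 4 5) (b 1<|b 4<|b 3 6))<|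
 e));
 (let e:=(m (b (b 0<|b 1<|b 2 3)<|b (b 0<|b 2<|b 1 4) (b 1<|b 5<|b 3 6))<|
 m (b (b 0<|b 1<|b 2 3)<|b (b 0<|b 2<|b 1 4) (b 1<|b 5<|b 4 6))<|m (b (b 0<|b 1<|b 2 3)<|b (b 0<|b 2<|b 1 4) (b 3<|b 4<|b 5 6))<|
 m (b (b 0<|b 1<|b 2 3)<|b (b 0<|b 2<|b 1 4) (b 3<|b 5<|b 4 6))<|m (b (b 0<|b 1<|b 2 3)<|b (b 0<|b 2<|b 4 5) (b 0<|b 3<|b 4 6))<|
 m (b (b 0<|b 1<|b 2 3)<|b (b 0<|b 2<|b 4 5) (b 0<|b 4<|b 1 6))<|e);
 (m (b (b 0<|b 1<|b 2 3)<|b (b 0<|b 2<|b 1 4) (b 1<|b 3<|b 2 5))<|m (b (b 0<|b 1<|b 2 3)<|b (b 0<|b 2<|b 1 4) (b 1<|b 3<|b 4 5))<|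
 m (b (b 0<|b 1<|b 2 3)<|b (b 0<|b 2<|b 1 4) (b 1<|b 3<|b 5 6))<|m (b (b 0<|b 1<|b 2 3)<|b (b 0<|b 2<|b 1 4) (b 1<|b 5<|b 2 6))<|
 m (b (b 0<|b 1<|b 2 3)<|b (b 0<|b 2<|b 1 4) (b 1<|b 5<|b 3 4))<|e)));
 (let e:=(let e:=(m (b (b 0<|b 1<|b 2 3)<|b (b 0<|b 2<|b 1 4) (b 0<|b 5<|b 1 3))<|m (b (b 0<|b 1<|b 2 3)<|b (b 0<|b 2<|b 1 4) (b 0<|b 5<|b 1 6))<|
 m (b (b 0<|b 1<|b 2 3)<|b (b 0<|b 2<|b 1 4) (b 0<|b 5<|b 3 4))<|m (b (b 0<|b 1<|b 2 3)<|b (b 0<|b 2<|b 1 4) (b 0<|b 5<|b 3 6))<|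
 m (b (b 0<|b 1<|b 2 3)<|b (b 0<|b 2<|b 1 4) (b 1<|b 2<|b 5 6))<|m (b (b 0<|b 1<|b 2 3)<|b (b 0<|b 2<|b 1 4) (b 1<|b 3<|b 2 4))<|
 e);
 (m (b (b 0<|b 1<|b 2 3)<|b (b 0<|b 2<|b 1 4) (b 0<|b 3<|b 2 4))<|
 m (b (b 0<|b 1<|b 2 3)<|b (b 0<|b 2<|b 1 4) (b 0<|b 3<|b 2 5))<|m (b (b 0<|b 1<|b 2 3)<|b (b 0<|b 2<|b 1 4) (b 0<|b 3<|b 4 5))<|
 m (b (b 0<|b 1<|b 2 3)<|b (b 0<|b 2<|b 1 4) (b 0<|b 3<|b 5 6))<|m (b (b 0<|b 1<|b 2 3)<|b (b 0<|b 2<|b 1 4) (b 0<|b 5<|b 1 2))<|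
 e));
 (let e:=(m (b (b 0<|b 1<|b 2 3)<|b (b 0<|b 2<|b 1 3) (b 0<|b 3<|b 4 5))<|m (b (b 0<|b 1<|b 2 3)<|b (b 0<|b 2<|b 1 3) (b 0<|b 4<|b 1 5))<|
 m (b (b 0<|b 1<|b 2 3)<|b (b 0<|b 2<|b 1 3) (b 0<|b 4<|b 3 5))<|m (b (b 0<|b 1<|b 2 3)<|b (b 0<|b 2<|b 1 3) (b 0<|b 4<|b 5 6))<|
 m (b (b 0<|b 1<|b 2 3)<|b (b 0<|b 2<|b 1 4) (b 0<|b 3<|b 1 5))<|e);
 (m (b (b 0<|b 1<|b 2 3)<|b (b 0<|b 1<|b 4 5) (b 2<|b 3<|b 4 6))<|
 m (b (b 0<|b 1<|b 2 3)<|b (b 0<|b 1<|b 4 5) (b 2<|b 4<|b 3 5))<|m (b (b 0<|b 1<|b 2 3)<|b (b 0<|b 1<|b 4 5) (b 2<|b 4<|b 3 6))<|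
 m (b (b 0<|b 1<|b 2 3)<|b (b 0<|b 2<|b 1 3) (b 0<|b 3<|b 1 2))<|m (b (b 0<|b 1<|b 2 3)<|b (b 0<|b 2<|b 1 3) (b 0<|b 3<|b 1 4))<|
 e))));
 (let e:=(let e:=(let e:=(m (b (b 0<|b 1<|b 2 3)<|b (b 0<|b 1<|b 4 5) (b 0<|b 2<|b 1 6))<|
 m (b (b 0<|b 1<|b 2 3)<|b (b 0<|b 1<|b 4 5) (b 0<|b 2<|b 3 4))<|m (b (b 0<|b 1<|b 2 3)<|b (b 0<|b 1<|b 4 5) (b 0<|b 2<|b 3 6))<|
 m (b (b 0<|b 1<|b 2 3)<|b (b 0<|b 1<|b 4 5) (b 0<|b 2<|b 4 6))<|m (b (b 0<|b 1<|b 2 3)<|b (b 0<|b 1<|b 4 5) (b 0<|b 6<|b 2 4))<|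
 m (b (b 0<|b 1<|b 2 3)<|b (b 0<|b 1<|b 4 5) (b 2<|b 3<|b 4 5))<|e);
 (m (b (b 0<|b 1<|b 2 3)<|b (b 0<|b 1<|b 2 4) (b 2<|b 5<|b 3 6))<|m (b (b 0<|b 1<|b 2 3)<|b (b 0<|b 1<|b 2 4) (b 3<|b 4<|b 5 6))<|
 m (b (b 0<|b 1<|b 2 3)<|b (b 0<|b 1<|b 2 4) (b 3<|b 5<|b 4 6))<|m (b (b 0<|b 1<|b 2 3)<|b (b 0<|b 1<|b 4 5) (b 0<|b 2<|b 1 3))<|
 m (b (b 0<|b 1<|b 2 3)<|b (b 0<|b 1<|b 4 5) (b 0<|b 2<|b 1 4))<|e));
 (let e:=(m (b (b 0<|b 1<|b 2 3)<|b (b 0<|b 1<|b 2 4) (b 0<|b 5<|b 2 6))<|m (b (b 0<|b 1<|b 2 3)<|b (b 0<|b 1<|b 2 4) (b 0<|b 5<|b 3 4))<|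
 m (b (b 0<|b 1<|b 2 3)<|b (b 0<|b 1<|b 2 4) (b 0<|b 5<|b 3 6))<|m (b (b 0<|b 1<|b 2 3)<|b (b 0<|b 1<|b 2 4) (b 2<|b 3<|b 4 5))<|
 m (b (b 0<|b 1<|b 2 3)<|b (b 0<|b 1<|b 2 4) (b 2<|b 3<|b 5 6))<|m (b (b 0<|b 1<|b 2 3)<|b (b 0<|b 1<|b 2 4) (b 2<|b 5<|b 3 4))<|
 e);
 (m (b (b 0<|b 1<|b 2 3)<|b (b 0<|b 1<|b 2 4) (b 0<|b 3<|b 2 5))<|
 m (b (b 0<|b 1<|b 2 3)<|b (b 0<|b 1<|b 2 4) (b 0<|b 3<|b 4 5))<|m (b (b 0<|b 1<|b 2 3)<|b (b 0<|b 1<|b 2 4) (b 0<|b 3<|b 5 6))<|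
 m (b (b 0<|b 1<|b 2 3)<|b (b 0<|b 1<|b 2 4) (b 0<|b 5<|b 1 6))<|m (b (b 0<|b 1<|b 2 3)<|b (b 0<|b 1<|b 2 4) (b 0<|b 5<|b 2 3))<|
 e)));
 (let e:=(let e:=(m (b (b 0<|b 1<|b 2 3)<|b (b 0<|b 1<|b 2 4) (b 0<|b 2<|b 3 4))<|
 m (b (b 0<|b 1<|b 2 3)<|b (b 0<|b 1<|b 2 4) (b 0<|b 2<|b 3 5))<|m (b (b 0<|b 1<|b 2 3)<|b (b 0<|b 1<|b 2 4) (b 0<|b 2<|b 5 6))<|
 m (b (b 0<|b 1<|b 2 3)<|b (b 0<|b 1<|b 2 4) (b 0<|b 3<|b 1 4))<|m (b (b 0<|b 1<|b 2 3)<|b (b 0<|b 1<|b 2 4) (b 0<|b 3<|b 1 5))<|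
 m (b (b 0<|b 1<|b 2 3)<|b (b 0<|b 1<|b 2 4) (b 0<|b 3<|b 2 4))<|e);
 (m (b (b 0<|b 1<|b 2 3)<|b (b 0<|b 1<|b 2 4) (b 0<|b 1<|b 3 4))<|m (b (b 0<|b 1<|b 2 3)<|b (b 0<|b 1<|b 2 4) (b 0<|b 1<|b 3 5))<|
 m (b (b 0<|b 1<|b 2 3)<|b (b 0<|b 1<|b 2 4) (b 0<|b 1<|b 5 6))<|m (b (b 0<|b 1<|b 2 3)<|b (b 0<|b 1<|b 2 4) (b 0<|b 2<|b 1 3))<|
 m (b (b 0<|b 1<|b 2 3)<|b (b 0<|b 1<|b 2 4) (b 0<|b 2<|b 1 5))<|e));
 (let e:=(m (b (b 0<|b 1<|b 2 3)<|b (b 0<|b 1<|b 2 3) (b 0<|b 2<|b 4 5))<|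
 m (b (b 0<|b 1<|b 2 3)<|b (b 0<|b 1<|b 2 3) (b 0<|b 4<|b 1 5))<|m (b (b 0<|b 1<|b 2 3)<|b (b 0<|b 1<|b 2 3) (b 0<|b 4<|b 2 5))<|
 m (b (b 0<|b 1<|b 2 3)<|b (b 0<|b 1<|b 2 3) (b 0<|b 4<|b 5 6))<|m (b (b 0<|b 1<|b 2 3)<|b (b 0<|b 1<|b 2 4) (b 0<|b 1<|b 2 5))<|
 e);
 (a (b (b 0<|b 1<|b 2 3)<|b (b 0<|b 1<|b 2 3) (b 0<|b 1<|b 2 3))<|a (b (b 0<|b 1<|b 2 3)<|b (b 0<|b 1<|b 2 3) (b 0<|b 1<|b 2 4))<|
 a (b (b 0<|b 1<|b 2 3)<|b (b 0<|b 1<|b 2 3) (b 0<|b 1<|b 4 5))<|a (b (b 0<|b 1<|b 2 3)<|b (b 0<|b 1<|b 2 3) (b 0<|b 2<|b 1 3))<|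
 a (b (b 0<|b 1<|b 2 3)<|b (b 0<|b 1<|b 2 3) (b 0<|b 2<|b 1 4))<|e))))))

theorem reps_zero (h2 : (2 : F) ≠ 0) : ∀ t ∈ reps, Z F t := by
  simp only [reps, List.forall_mem_cons, List.not_mem_nil, false_imp_iff, implies_true, and_true]
  exact ⟨z0, z1, z2, z3, z4, z5, z6, z7, z8, z9, z10, z11, z12, z13, z14, z15, z16, z17, z18, z19, z20, z21, z22, z23,
  z24, z25, z26, z27, z28, z29, z30, z31, z32, z33, z34, z35, z36, z37, z38, z39, z40, z41, z42, z43, z44, z45,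
  z46 h2, z47 h2, z48 h2, z49 h2, z50 h2, z51 h2, z52 h2, z53 h2, z54 h2, z55 h2, z56 h2, z57 h2, z58 h2, z59 h2,
  z60 h2, z61 h2, z62 h2, z63 h2, z64 h2, z65 h2, z66 h2, z67 h2, z68 h2, z69 h2, z70 h2, z71 h2, z72 h2, z73 h2,
  z74 h2, z75 h2, z76 h2, z77 h2, z78 h2, z79 h2, z80 h2, z81 h2, z82 h2, z83 h2, z84 h2, z85 h2⟩

end Cfsg.Agent.H879.E6.Uniq
end

-- part: H879/E6/Uniq
section
/-!
# S5927, S5928: uniqueness of the cubic form of (A7, p = 5), fifth part (helper879)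

All good functions are zero.
-/

set_option autoImplicit false

namespace Cfsg.Agent.H879.E6.Uniq

open Good (inj inj_iff)

/-- decoding of permutations -/
def dec (n : ℕ) (i : Fin 7) : Fin 7 := ⟨n / 7 ^ i.val % 7, Nat.mod_lt _ (by decide)⟩

/-- the representative with number `k` -/
def rp (k : ℕ) : T := reps.getD k ((0, 1, 2, 3), (0, 1, 2, 3), (0, 1, 2, 3))

/-- check of a row -/
def chk (y : Q) : List Q → List (ℕ × ℕ) → Bool
  | [], _ => true
  | _ :: _, [] => false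
  | z :: zs, e :: es => inj (dec e.1) && tb (cn (actT (dec e.1) (rp e.2))) (cn ((0, 1, 2, 3), y, z)) && chk y zs es

/-- the types of the second index -/
def ty (r : ℕ) : Q := (beta% delta% lq269454d670 fun a b _ _ _ i _ _ _ _ _ _ =>
 (a (b 0<|b 2<|b 1 3)<|a (b 0<|b 2<|b 1 4)<|a (b 0<|b 2<|b 4 5)<|a (b 0<|b 4<|b 1 5)<|a (b 0<|b 4<|b 2 5)<|a (b 0<|b 4<|b 5 6)<|i).getD r (b 0<|b 1<|b 2 3))

/-- check of the list of the second indices -/
def chk1 : List Q → List (ℕ × ℕ) → Bool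
  | [], _ => true
  | _ :: _, [] => false
  | y :: ys, e :: es =>
    ((eb y.1 0 && eb y.2.1 1) || (eb y.1 2 && eb y.2.1 3) || (eb y.2.2.1 2 && eb y.2.2.2 3) ||
      (Nat.blt e.2 6 && inj (dec e.1) && qb (cq (act (dec e.1) (0, 1, 2, 3))) (0, 1, 2, 3) &&
        qb (cq (act (dec e.1) (ty e.2))) y)) && chk1 ys es

noncomputable def ytab : List (ℕ × ℕ) :=
  (by
  refine (?fq9001 : ((pk61l (fun i1 => (_root_.Prod.mk (pk61d (nat_lit 20) 
    (nat_lit 0xc379bc3795c3675c366fc349bc3495c3375c336fbff55bff4fbfe2fbfe29bfc55bfc4fbfb2fbfb29aadb1aadabaac8baac85aaab1a3d25a3d1fa3bffa3bf9a3a25a3a1fa38ffa38f98eb818eb7b8ea5b8ea558e8818b33b8b3358b2158b20f8b03b00000) (pk61d (nat_lit 6) 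
    (nat_lit 0xd6a238139b19b8d38c00004423c44407877097809949169801d490b62025698c6614834054801523d17c874a7c029f71e9d59579c05e792621594d6a241d9652979ce6e349f9e7000000000000000) i1)) (pk61d (nat_lit 3) 
    (nat_lit 0x5b6b75badedac926b249ac926491252449b2499b26c9266c9b2499b252449248491249236db6db6) i1))) (nat_lit 0) (nat_lit 105) List.nil) : List (ℕ × ℕ))
    = ?xq9001 → (List (ℕ × ℕ))) ?hq9001; (case hq9001 => (set_option maxRecDepth 1000000 in set_option simprocs false in conv => lhs; reduce; dsimp only)); intro _; exact ?xq9001 : List (ℕ × ℕ))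

private noncomputable def _root_.Cfsg.Agent.LsF.f9352fb_6 : {f // @Cfsg.Agent.H879.E6.Uniq.Good.inj = f} := ⟨_, by first | (delta Cfsg.Agent.H879.E6.Uniq.Good.inj; rewrite [Cfsg.Agent.LsF.or_eq, Cfsg.Agent.LsF.not_eq, Cfsg.Agent.LsF.all_eq, Cfsg.Agent.LsF.finRange_eq]; exact rfl) | exact rfl⟩
private noncomputable def _root_.Cfsg.Agent.LsF.f9352fb_7 : {f // @Cfsg.Agent.H879.E6.Uniq.ty = f} := ⟨_, by first | (delta Cfsg.Agent.H879.E6.Uniq.ty; rewrite [Cfsg.Agent.LsF.getD_eq]; exact rfl) | exact rfl⟩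
private noncomputable def _root_.Cfsg.Agent.LsF.f9352fb_8 : {f // @Cfsg.Agent.H879.E6.Uniq.chk1 = f} := ⟨_, by first | (delta Cfsg.Agent.H879.E6.Uniq.chk1 List.brecOn List.brecOn.go Cfsg.Agent.H879.E6.Uniq.chk1._f; rewrite [Cfsg.Agent.LsF.f9352fb_6.2, Cfsg.Agent.LsF.f9352fb_4.2, Cfsg.Agent.LsF.f9352fb_3.2, Cfsg.Agent.LsF.f9352fb_7.2, Cfsg.Agent.LsF.and_eq, Cfsg.Agent.LsF.or_eq]; (try delta Cfsg.Agent.H879.E6.Uniq.chk.match_1); (try delta List.casesOn); first | dsimp -zeta only | exact rfl) | exact rfl⟩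
theorem ychk : chk1 L105 ytab = true := by ((try (rewrite [Cfsg.Agent.LsF.f9352fb_8.2])); decide +kernel)

noncomputable def row0 : List (ℕ × ℕ) :=
  (by
  refine (?fq9002 : ((pk61l (fun i1 => (_root_.Prod.mk (pk61d (nat_lit 20) 
    (nat_lit 0xc379bc3771c366fc35f1c3519c349bc3399c336fbff55bff2bbfe29bfdabbfcd3bfc55bfb53bfb29aadb1aad87aac85aac07aaab1a3d25a3cfba3bf9a3b7ba3aa3a3a25a3923a38f98eb818eb578ea558e9d78e8818b33b8b3118b20f8b1918b03b) (pk61d (nat_lit 6) 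
    (nat_lit 0xb62034031a1598928454a13c13823ca7066c77179138d491f1938cb6201d490e6e344444340c11138f78978875925e6dc9969959615a68e425699076545e9a621594d6a241d96525698f72445e9a6) i1)) (pk61d (nat_lit 6) 
    (nat_lit 0x33cf3cf1c73c71cf1c638e3cf1c72c8dcf1c72c8dcf1c72c8d8e38cd34dc30c2fbefcf2cb1c4dc7136fcf2cb1c4dc7136fcf2cb1c4dc7136fc30c2fbefbefbee8e38cd34d34d3438e38cd34d34d343) i1))) (nat_lit 0) (nat_lit 105) List.nil) : List (ℕ × ℕ))
    = ?xq9002 → (List (ℕ × ℕ))) ?hq9002; (case hq9002 => (set_option maxRecDepth 1000000 in set_option simprocs false in conv => lhs; reduce; dsimp only)); intro _; exact ?xq9002 : List (ℕ × ℕ))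

private noncomputable def _root_.Cfsg.Agent.LsF.f9352fb_9 : {f // @Cfsg.Agent.H879.E6.Uniq.tb = f} := ⟨_, by first | (delta Cfsg.Agent.H879.E6.Uniq.tb; rewrite [Cfsg.Agent.LsF.f9352fb_4.2, Cfsg.Agent.LsF.and_eq]; exact rfl) | exact rfl⟩
private noncomputable def _root_.Cfsg.Agent.LsF.f9352fb_10 : {f // @Cfsg.Agent.H879.E6.Uniq.cd = f} := ⟨_, by first | (delta Cfsg.Agent.H879.E6.Uniq.cd; rewrite [Cfsg.Agent.LsF.nadd_pat, Cfsg.Agent.LsF.nmul_pat]; exact rfl) | exact rfl⟩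
private noncomputable def _root_.Cfsg.Agent.LsF.f9352fb_11 : {f // @Cfsg.Agent.H879.E6.Uniq.sq = f} := ⟨_, by first | (delta Cfsg.Agent.H879.E6.Uniq.sq; rewrite [Cfsg.Agent.LsF.f9352fb_10.2, Cfsg.Agent.LsF.cond_eq]; exact rfl) | exact rfl⟩
private noncomputable def _root_.Cfsg.Agent.LsF.f9352fb_12 : {f // @Cfsg.Agent.H879.E6.Uniq.cn = f} := ⟨_, by first | (delta Cfsg.Agent.H879.E6.Uniq.cn; rewrite [Cfsg.Agent.LsF.f9352fb_11.2, Cfsg.Agent.LsF.f9352fb_3.2]; exact rfl) | exact rfl⟩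
private noncomputable def _root_.Cfsg.Agent.LsF.f9352fb_13 : {f // @Cfsg.Agent.H879.E6.Uniq.rp = f} := ⟨_, by first | (delta Cfsg.Agent.H879.E6.Uniq.rp; rewrite [Cfsg.Agent.LsF.getD_eq]; exact rfl) | exact rfl⟩
private noncomputable def _root_.Cfsg.Agent.LsF.f9352fb_14 : {f // @Cfsg.Agent.H879.E6.Uniq.chk = f} := ⟨_, by first | (delta Cfsg.Agent.H879.E6.Uniq.chk List.brecOn List.brecOn.go Cfsg.Agent.H879.E6.Uniq.chk._f; rewrite [Cfsg.Agent.LsF.f9352fb_6.2, Cfsg.Agent.LsF.f9352fb_9.2, Cfsg.Agent.LsF.f9352fb_12.2, Cfsg.Agent.LsF.f9352fb_13.2, Cfsg.Agent.LsF.and_eq]; (try delta Cfsg.Agent.H879.E6.Uniq.chk.match_1); (try delta List.casesOn); first | dsimp -zeta only | exact rfl) | exact rfl⟩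
theorem rchk0 : chk (ty 0) L105 row0 = true := by ((try (rewrite [Cfsg.Agent.LsF.f9352fb_14.2, Cfsg.Agent.LsF.f9352fb_7.2])); decide +kernel)

noncomputable def row1 : List (ℕ × ℕ) :=
  (by
  refine (?fq9003 : ((pk61l (fun i1 => (_root_.Prod.mk (pk61d (nat_lit 20) 
    (nat_lit 0xc379bc3771c3675c349bc2f91c2f67c2c97c2bf5c2a4bbff55bfe2fbfc55bfb2fbbedbbbc0bbbb69bb9bfaadb1aaab1aa57daa2ada3d25a3bffa3a25a38ff9fcab9f9db9f9399f78f8eb818e8817211d71e4d) (pk61d (nat_lit 6) 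
    (nat_lit 0xf82034d35b6db6cd6c239d3cf3cf3488208206d400c68441880f80f82080440851834f3cd3493c63cf6e081b6d58128206cd6cd6dd35b6d980f80f8203e069e04544d6d91d36df0cf80a59e2d7720) i1)) (pk61d (nat_lit 7) 
    (nat_lit 0x48911e2c6891634485060a74c9a345890e0158d1624380553a64c54a9485060c080fdf366cd9b357af5e3b7441d9074e5ebd78edd107641d3970ddbb4683db366abdc376ed9b3568d07af4a4c9a4484870e08352a4484c9921c38684) i1))) (nat_lit 0) (nat_lit 105) List.nil) : List (ℕ × ℕ))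
    = ?xq9003 → (List (ℕ × ℕ))) ?hq9003; (case hq9003 => (set_option maxRecDepth 1000000 in set_option simprocs false in conv => lhs; reduce; dsimp only)); intro _; exact ?xq9003 : List (ℕ × ℕ))

theorem rchk1 : chk (ty 1) L105 row1 = true := by ((try (rewrite [Cfsg.Agent.LsF.f9352fb_14.2, Cfsg.Agent.LsF.f9352fb_7.2])); decide +kernel)

noncomputable def row2 : List (ℕ × ℕ) :=
  (by
  refine (?fq9004 : ((pk61l (fun i1 => (_root_.Prod.mk (pk61d (nat_lit 20) 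
    (nat_lit 0x37227bfc55c349b2c9557775d9419729967377f1b0be92999737917b0c198e881aaab1b0b9b6f8d3bfc55c349bbfc55c349ba38ffbff55bff55bff55bfc55b8cb9bfb2fc379bc379bc379bc349bb8c89c3375bff55c379bb9691a38f9bfb29c336fbfc55c349bb9445a38ffbfb2fc33755df75bff55c379b2cf1f2d045a3a2580d099d743a3bf9a3d1f5bfefbff55b1e9d5e2ffb9a1bbdc2dbff55b9f3dbfe29bb1bb5c01fc379bb1ecd5e425b9b41c1c7dc379bb9f6dc366fbbb15bff55c379bb2605a1241b30bbb3a15a3bffbfe2fc3675c36755e2ff5e425b9b41341f7b318db3abd6d8c3bb239bbb69c37718eb81aadb1b9e9ba3bffbfe2fc3675a3d25bef41c2f91c379b) i1) (pk61d (nat_lit 7) 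
    (nat_lit 0x2da14104b971a5418d2a0a850756cf9f2e597a13e74c885a84f9d322169b3564283064c93ee1bb7413263b76465cb84fa34b88ed89095060b68d2e23b624254182da4c93ef9b3670ddbb03060325264d293268d4283a5cb162240805) i1))) (nat_lit 0) (nat_lit 105) List.nil) : List (ℕ × ℕ))
    = ?xq9004 → (List (ℕ × ℕ))) ?hq9004; (case hq9004 => (set_option maxRecDepth 1000000 in set_option simprocs false in conv => lhs; reduce; dsimp only)); intro _; exact ?xq9004 : List (ℕ × ℕ))

theorem rchk2 : chk (ty 2) L105 row2 = true := by ((try (rewrite [Cfsg.Agent.LsF.f9352fb_14.2, Cfsg.Agent.LsF.f9352fb_7.2])); decide +kernel)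

noncomputable def row3 : List (ℕ × ℕ) :=
  (by
  refine (?fq9005 : ((pk61l (fun i1 => (_root_.Prod.mk (pk61d (nat_lit 20) 
    (nat_lit 0xb6bd7b6a57b6bd7ba41db6a57b6bd7ba29dba29db6bd7ba41dba41dba41d8e75baaab1c349b61f174a2e3b6a5766d1dba29d8af1561f2f542afb65bf704dfb9e05bd2fd61f2fb6a57b65bfba29db9e05c33758ea55b6a57b65a787efdbd321c13718eb7bba29db9ded87f2dbd351c13a162097b6bd74edb9ba41d6b7f3a3a25623c76252f8b20f8b335620afb6bd7b673fba41db9f85bfc55613c5b9f85be58dbeee7620af5442fb673f7065fb9f85c1c7d62547ba41db7bebbbc3bb6bd7aac8bb6727a1241bdc7bc1ccba3bffb7261c260dc3675ba41daadb1b9f6da1271bdcabc1cfba3d25bb2b1c2f67c379b80efb9da61ba49ba3bffbe60bc2661a3d25bef3bc2f91c379b) i1) (pk61d (nat_lit 7) 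
    (nat_lit 0x4d9f3e6d0a13e84e9f4272d5ab214b992e6202ea0b282c75c496f25b9f952e0c6831254b831a0c485325cc96808be76edc496f25b9f7cc1b362ea0b282c7488520425ca831a2417641b31972a0c68905d906cc52a54660993304c986) i1))) (nat_lit 0) (nat_lit 105) List.nil) : List (ℕ × ℕ))
    = ?xq9005 → (List (ℕ × ℕ))) ?hq9005; (case hq9005 => (set_option maxRecDepth 1000000 in set_option simprocs false in conv => lhs; reduce; dsimp only)); intro _; exact ?xq9005 : List (ℕ × ℕ))

theorem rchk3 : chk (ty 3) L105 row3 = true := by ((try (rewrite [Cfsg.Agent.LsF.f9352fb_14.2, Cfsg.Agent.LsF.f9352fb_7.2])); decide +kernel)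

noncomputable def row4 : List (ℕ × ℕ) :=
  (by
  refine (?fq9006 : ((pk61l (fun i1 => (_root_.Prod.mk (pk61d (nat_lit 20) 
    (nat_lit 0x37275b28b1b9aed2c9a37775d941972c9b52daefb0bfb2c9b537287b0c2577901aaab1b0d756f9a5bfc55a3bf96fb7f6f6e78af15b28b1c379bc379b66bc7b8cc5bd2fdb9aedc379bc379bbfc55b94a5c33758e755aac85c366f8af0fbce11c336f8e75baa98bb94938af15bd351c13a15e047c379b32b892ce4d5e3b98b03b80d099d743a3bf9a3d1f5e05f3755db26ef5d24fb977bbdc2d6f9bdb9f5bbfe29beee75e05f378cfb26ef5e3d1b9aedb3a756c60fb9f85c24bdbbb158ea5baac8bb26d7a1241b30bbc1ccba3bffbfe2fc260dc36752bf0b5dc1bb9b4188887bdcabb3ac9a24ddbef17c2f67c37718eb819da61ba49ba3bffbfe2fc2661a3d25bef41c2f91c379b) i1) (pk61d (nat_lit 7) 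
    (nat_lit 0x4fa7562c998714167b2dba8529a7d3aaa661cab56a4c785a9d3a544d9b9f3e7454d125cc88f5bbc8b4661a866a6498b0decc790d91596de24038a4d9a0e654164c5664b890cac07af1bb276ed8bb68e9dba68c54a84c70d963464a87) i1))) (nat_lit 0) (nat_lit 105) List.nil) : List (ℕ × ℕ))
    = ?xq9006 → (List (ℕ × ℕ))) ?hq9006; (case hq9006 => (set_option maxRecDepth 1000000 in set_option simprocs false in conv => lhs; reduce; dsimp only)); intro _; exact ?xq9006 : List (ℕ × ℕ))

theorem rchk4 : chk (ty 4) L105 row4 = true := by ((try (rewrite [Cfsg.Agent.LsF.f9352fb_14.2, Cfsg.Agent.LsF.f9352fb_7.2])); decide +kernel)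

noncomputable def row5 : List (ℕ × ℕ) :=
  (by
  refine (?fq9007 : ((pk61l (fun i1 => (_root_.Prod.mk (pk61d (nat_lit 20) 
    (nat_lit 0x2542b253fb3f5df2947b7775d944072944b778adb0e415b80f94437b0e717790194461b0e9b5e89f4a2c5914f166cff91e51a38ff5e86f4a2f5adf2b66d2fae88bbfb2f5f055985ddb50179c753b918dc33754a223aac85c366f87efd8bf4dc137166c5daadabc379587f2d8bf7dc13a15f7574034d40ca15cd875d6dba11f360dd76172ba3bf9a3d1f5f87d4037d415fb5cdb75e035bdc2d60e0762085bfe29bff4f5f87d40cf5416255d72f5e05fc1c7d6177f620af5544371e7d402813fcc93fdefa1241bdc7bc1ccba1b83be5bdc260dc36755ccbb5bef95c01fa1271bdcabc1cfba24ddbef17c2f67c379b60d0b9da61ba49ba1bd7be611c2661a2507bef41c2f91c379b) i1) (pk61d (nat_lit 7) 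
    (nat_lit 0x48908a44d9f226cf453e7ab5ab63cfab3eaa28f3eacfaa890d3a74e9a15b42848911d6d0a1224476715ec57a821388d199c57b15ea084e23461070e1c3878b974e9d0468d162c27af5c33411a3458b09ebd70ccf274e70e173870b88) i1))) (nat_lit 0) (nat_lit 105) List.nil) : List (ℕ × ℕ))
    = ?xq9007 → (List (ℕ × ℕ))) ?hq9007; (case hq9007 => (set_option maxRecDepth 1000000 in set_option simprocs false in conv => lhs; reduce; dsimp only)); intro _; exact ?xq9007 : List (ℕ × ℕ))

theorem rchk5 : chk (ty 5) L105 row5 = true := by ((try (rewrite [Cfsg.Agent.LsF.f9352fb_14.2, Cfsg.Agent.LsF.f9352fb_7.2])); decide +kernel)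

variable {F : Type*} [Field F]

theorem rp_zero (h2 : (2 : F) ≠ 0) (k : ℕ) : Z F (rp k) := by
  unfold rp
  rw [List.getD_eq_getElem?_getD]
  rcases h : reps[k]? with _ | t
  · exact Z_star 0 1 2 3 2 3 _
  · exact reps_zero h2 t (List.mem_of_getElem? h)

theorem chk_sound (h2 : (2 : F) ≠ 0) (y : Q) : ∀ (zs : List Q) (es : List (ℕ × ℕ)), chk y zs es = true →
    ∀ z ∈ zs, Z F ((0, 1, 2, 3), y, z)
  | [], _, _, _, hz => absurd hz List.not_mem_nil
  | _ :: _, [], h, _, _ => absurd h (by simp [chk])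
  | z :: zs, e :: es, h, w, hw => by
    unfold chk at h
    rw [Bool.and_eq_true] at h
    rcases List.mem_cons.1 hw with rfl | hw
    · exact Z_of _ _ (rp_zero h2 e.2) h.1
    · exact chk_sound h2 y zs es h.2 w hw

theorem row_zero (h2 : (2 : F) ≠ 0) (r : ℕ) (hr : r < 6) {z : Q} (hz : z ∈ L105) : Z F ((0, 1, 2, 3), ty r, z) := by
  rcases (by omega : r = 0 ∨ r = 1 ∨ r = 2 ∨ r = 3 ∨ r = 4 ∨ r = 5) with rfl | rfl | rfl | rfl | rfl | rfl
  · exact chk_sound h2 _ _ _ rchk0 z hz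
  · exact chk_sound h2 _ _ _ rchk1 z hz
  · exact chk_sound h2 _ _ _ rchk2 z hz
  · exact chk_sound h2 _ _ _ rchk3 z hz
  · exact chk_sound h2 _ _ _ rchk4 z hz
  · exact chk_sound h2 _ _ _ rchk5 z hz

theorem dis_act {s : Fin 7 → Fin 7} (hs : Function.Injective s) {z : Q} (hz : dis z = true) : dis (act s z) = true := by
  obtain ⟨i, j, k, l⟩ := z
  obtain ⟨g1, g2, g3, g4, g5, g6⟩ := dis_iff.1 hz
  exact dis_iff.2 ⟨hs.ne g1, hs.ne g2, hs.ne g3, hs.ne g4, hs.ne g5, hs.ne g6⟩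

theorem Z_perm (s : Equiv.Perm (Fin 7)) {x y z : Q} (h : Z F (x, act s.symm y, act s.symm z)) :
    Z F (act s x, y, z) := by
  have := Z_rel h s.injective
  have e : ∀ w, act s (act s.symm w) = w := fun w => by simp only [act, Equiv.apply_symm_apply]
  unfold actT at this
  dsimp only at this
  rwa [e, e] at this

theorem y_zero (h2 : (2 : F) ≠ 0) : ∀ (ys : List Q) (es : List (ℕ × ℕ)), chk1 ys es = true → ∀ y ∈ ys, ∀ z,
    dis z = true → Z F ((0, 1, 2, 3), y, z)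
  | [], _, _, _, hz => absurd hz List.not_mem_nil
  | _ :: _, [], h, _, _ => absurd h (by simp [chk1])
  | y :: ys, e :: es, h, w, hw => by
    intro z hz
    unfold chk1 at h
    rw [Bool.and_eq_true] at h
    rcases List.mem_cons.1 hw with rfl | hw
    · have h1 := h.1
      obtain ⟨i, j, k, l⟩ := w
      simp only [Bool.or_eq_true, Bool.and_eq_true, eb_iff, qb_iff] at h1
      rcases h1 with ((h1 | h1) | h1) | h1
      · rw [h1.1, h1.2]; exact Z_star _ _ _ _ _ _ _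
      · rw [h1.1, h1.2]
        intro d hd
        change d (0, 1, 2, 3) (2, 3, k, l) z = 0
        rw [hd.s12, hd.s23, hd.a2, hd.s23, hd.star]
      · rw [h1.1, h1.2]
        intro d hd
        change d (0, 1, 2, 3) (i, j, 2, 3) z = 0
        rw [hd.s12, hd.s23, hd.a2, hd.s23, hd.s12, hd.s23, hd.a2, hd.s23, hd.star]
      · obtain ⟨⟨⟨h3, h4⟩, h5⟩, h6⟩ := h1
        have h4' := inj_iff h4
        let s : Equiv.Perm (Fin 7) := Equiv.ofBijective _ (Finite.injective_iff_bijective.1 h4')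
        have hs : ∀ q, act s q = act (dec e.1) q := fun q => rfl
        have hr : e.2 < 6 := by rwa [Nat.blt_eq] at h3
        have k1 : Z F ((0, 1, 2, 3), ty e.2, act s.symm z) := by
          have := row_zero (F := F) h2 e.2 hr (cq_mem (dis_act s.symm.injective hz))
          intro d hd
          have := this d hd
          dsimp only at this ⊢
          rwa [hd.cq1] at this
        have k2 := Z_rel k1 s.injective
        have e' : ∀ w, act s (act s.symm w) = w := fun w => by simp only [act, Equiv.apply_symm_apply]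
        unfold actT at k2
        dsimp only at k2
        rw [e', hs, hs] at k2
        rw [← h5, ← h6]
        intro d hd
        have := k2 d hd
        dsimp only at this ⊢
        rwa [hd.s23, hd.cq1, hd.s23, hd.s12, hd.s23, hd.cq1, hd.s23, hd.s12]
    · exact y_zero h2 ys es h.2 w hw z hz

/-- **Uniqueness**: all good functions are zero. -/
theorem Good.eq_zero {d : Q → Q → Q → F} (h : Good d) (h2 : (2 : F) ≠ 0) (x y z : Q) : d x y z = 0 := by
  have hv : ∀ x y g, d x y (vv g) = 0 := fun x y g => by rw [h.c13, h.vzero h2]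
  rcases Bool.eq_false_or_eq_true (dis z) with hz | hz
  swap
  · exact h.ovl _ _ (hv _ _) hz
  rcases Bool.eq_false_or_eq_true (dis y) with hy | hy
  swap
  · rw [h.s23]; exact h.ovl _ _ (hv _ _) hy
  rcases Bool.eq_false_or_eq_true (dis x) with hx | hx
  swap
  · rw [h.c13]; exact h.ovl _ _ (hv _ _) hx
  obtain ⟨s, hs⟩ := ext4 hx
  have k : Z F (act s (0, 1, 2, 3), y, z) := by
    refine Z_perm s ?_
    have k1 := y_zero (F := F) h2 L105 ytab ychk (cq (act s.symm y)) (cq_mem (dis_act s.symm.injective hy))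
      (act s.symm z) (dis_act s.symm.injective hz)
    intro d hd
    have := k1 d hd
    dsimp only at this ⊢
    rwa [hd.s23, hd.cq1, hd.s23] at this
  rw [hs] at k
  exact k d h

end Cfsg.Agent.H879.E6.Uniq
end

-- part: H879/E6/Tuple
section
/-!
# S5927, S5928: tuples of white vectors (helper879)

`Tup v c`: seven white vectors `v_i` with sum zero and `T(v_i × v_j, v_k) = c` for distinct `i, j, k`.
For two tuples with `c`, `1` : the trilinear forms of the vectors `u` are proportional.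
-/

set_option autoImplicit false

namespace Cfsg.Agent.H879.E6

open Cfsg.Lie Cfsg.Agent.H952.F4 Cfsg.Agent.H952.F4.Jord Cfsg.Agent.H879.E6.Uniq
open Cfsg.Agent.ChevalleyStructure.E6Min.Tables Cfsg.Agent.ChevalleyStructure.E6Min.Basic

section Ring

variable {R : Type*} [CommRing R]

/-- polarization of `cr_cr` -/
theorem cr_cr4 (x t y z : I27 → R) :
    cr (cr x y) (cr t z) + cr (cr t y) (cr x z) + cr (cr x t) (cr y z) =
      tf (cr x t) y • z + tf (cr x t) z • y + tf x (cr y z) • t + tf t (cr y z) • x := by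
  have h := cr_cr (x + t) y z
  have h1 := cr_cr x y z
  have h2 := cr_cr t y z
  simp only [sh_add, cr_add_left, cr_add_right, tf_add_left, add_smul, smul_add] at h
  funext a
  have k := congrFun h a
  have k1 := congrFun h1 a
  have k2 := congrFun h2 a
  simp only [Pi.add_apply, Pi.smul_apply, smul_eq_mul] at k k1 k2 ⊢
  linear_combination k - k1 - k2

theorem tf_cr_comm (x y z : I27 → R) : tf (cr x y) z = tf (cr x z) y := by
  rw [tf_cr, cr_comm y z, ← tf_cr]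

theorem cr_zero_left (x : I27 → R) : cr 0 x = 0 := by
  have := cr_smul_left (0 : R) 0 x
  simpa using this

theorem cr_zero_right (x : I27 → R) : cr x 0 = 0 := by rw [cr_comm, cr_zero_left]

theorem tf_zero_left (x : I27 → R) : tf 0 x = 0 := by
  have := tf_smul_left (0 : R) 0 x
  simpa using this

theorem tf_zero_right (x : I27 → R) : tf x 0 = 0 := by rw [tf_comm, tf_zero_left]

theorem cr_sum_right {ι : Type*} (s : Finset ι) (x : I27 → R) (f : ι → I27 → R) :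
    cr x (∑ i ∈ s, f i) = ∑ i ∈ s, cr x (f i) := by
  classical
  induction s using Finset.induction_on with
  | empty => simp [cr_zero_right]
  | insert a s ha ih => rw [Finset.sum_insert ha, Finset.sum_insert ha, cr_add_right, ih]

theorem tf_sum_right {ι : Type*} (s : Finset ι) (x : I27 → R) (f : ι → I27 → R) :
    tf x (∑ i ∈ s, f i) = ∑ i ∈ s, tf x (f i) := by
  classical
  induction s using Finset.induction_on with
  | empty => simp [tf_zero_right]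
  | insert a s ha ih => rw [Finset.sum_insert ha, Finset.sum_insert ha, tf_add_right, ih]

/-- seven white vectors with sum zero and constant trilinear form -/
structure Tup (v : Fin 7 → I27 → R) (c : R) : Prop where
  white : ∀ i, sh (v i) = 0
  sum : ∑ i, v i = 0
  tri : ∀ i j k, i ≠ j → i ≠ k → j ≠ k → tf (v i) (cr (v j) (v k)) = c

/-- the vectors `w_ij` -/
def ww (v : Fin 7 → I27 → R) (i j : Fin 7) : I27 → R := cr (v i) (v j)

/-- the vectors `u` -/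
def uu (v : Fin 7 → I27 → R) (q : Q) : I27 → R := cr (ww v q.1 q.2.1) (ww v q.2.2.1 q.2.2.2)

/-- the trilinear form of the vectors `u` -/
def t3 (v : Fin 7 → I27 → R) (x y z : Q) : R := tf (cr (uu v x) (uu v y)) (uu v z)

/-- the trilinear form of the vectors `w` -/
def mm (v : Fin 7 → I27 → R) (a b c d e f : Fin 7) : R := tf (ww v a b) (cr (ww v c d) (ww v e f))

namespace Tup

variable {v : Fin 7 → I27 → R} {c : R}

theorem ww_comm (v : Fin 7 → I27 → R) (i j : Fin 7) : ww v i j = ww v j i := cr_comm _ _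

theorem ww_self (h : Tup v c) (i : Fin 7) : ww v i i = 0 := by
  rw [ww, cr_self, h.white, smul_zero]

theorem ww_sum (h : Tup v c) (i : Fin 7) : ∑ j, ww v i j = 0 := by
  unfold ww
  rw [← cr_sum_right, h.sum, cr_zero_right]

theorem sh_ww (h : Tup v c) (i j : Fin 7) : sh (ww v i j) = 0 := by
  have := sh_cr (v i) (v j)
  rw [h.white, h.white, cr_zero_left, tf_zero_left, tf_zero_right, zero_smul, zero_smul, add_zero, add_zero] at this
  exact this

theorem cr_ww_share (h : Tup v c) (i j k : Fin 7) : cr (ww v i j) (ww v i k) = tf (v i) (cr (v j) (v k)) • v i := by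
  have := cr_cr (v i) (v j) (v k)
  rw [h.white, cr_zero_left, tf_zero_left, tf_zero_left, zero_smul, zero_smul, add_zero, zero_add, zero_add] at this
  exact this

theorem tri_zero (h : Tup v c) {i j k : Fin 7} (hh : i = j ∨ i = k ∨ j = k) : tf (v i) (cr (v j) (v k)) = 0 := by
  rcases hh with rfl | rfl | rfl
  · rw [← tf_cr, cr_self, h.white, smul_zero, tf_zero_left]
  · rw [cr_comm, ← tf_cr, cr_self, h.white, smul_zero, tf_zero_left]
  · rw [cr_self, h.white, smul_zero, tf_zero_right]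

/-- star -/
theorem star (h : Tup v c) (i j : Fin 7) (a b x : I27 → R) :
    tf (cr (cr (ww v i j) a) (cr (ww v i j) b)) x = tf (ww v i j) (cr a b) * tf (ww v i j) x := by
  have := cr_cr (ww v i j) a b
  rw [h.sh_ww, cr_zero_left, tf_zero_left, tf_zero_left, zero_smul, zero_smul, add_zero, zero_add, zero_add] at this
  rw [this, tf_smul_left]

theorem mm_share (h : Tup v c) (a b d e f : Fin 7) :
    mm v a b a d e f = tf (v a) (cr (v b) (v d)) * tf (v a) (cr (v e) (v f)) := by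
  unfold mm
  rw [← tf_cr, h.cr_ww_share, tf_smul_left]
  rfl

theorem mm_a1 (v : Fin 7 → I27 → R) (a b c d e f : Fin 7) : mm v a b c d e f = mm v b a c d e f := by
  unfold mm; rw [ww_comm]

theorem mm_a2 (v : Fin 7 → I27 → R) (a b c d e f : Fin 7) : mm v a b c d e f = mm v a b d c e f := by
  unfold mm; rw [ww_comm v c d]

theorem mm_a3 (v : Fin 7 → I27 → R) (a b c d e f : Fin 7) : mm v a b c d e f = mm v a b c d f e := by
  unfold mm; rw [ww_comm v e f]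

theorem mm_s12 (v : Fin 7 → I27 → R) (a b c d e f : Fin 7) : mm v a b c d e f = mm v c d a b e f := by
  unfold mm; rw [← tf_cr, ← tf_cr, cr_comm]

theorem mm_s23 (v : Fin 7 → I27 → R) (a b c d e f : Fin 7) : mm v a b c d e f = mm v a b e f c d := by
  unfold mm; rw [cr_comm]

theorem mm_zero (h : Tup v c) (a b c d e : Fin 7) : mm v a b c d e e = 0 := by
  unfold mm; rw [h.ww_self, cr_zero_right, tf_zero_right]

theorem mm_sum (h : Tup v c) (a b c d e : Fin 7) : ∑ f, mm v a b c d e f = 0 := by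
  unfold mm
  rw [← tf_sum_right, ← cr_sum_right, h.ww_sum, cr_zero_right, tf_zero_right]

end Tup

end Ring

section Two

variable {F : Type*} [Field F] {v v₀ : Fin 7 → I27 → F} {c : F}

theorem tri_eq (h : Tup v c) (h0 : Tup v₀ 1) (i j k : Fin 7) :
    tf (v i) (cr (v j) (v k)) = c * tf (v₀ i) (cr (v₀ j) (v₀ k)) := by
  by_cases hh : i = j ∨ i = k ∨ j = k
  · rw [h.tri_zero hh, h0.tri_zero hh, mul_zero]
  · simp only [not_or] at hh
    rw [h.tri _ _ _ hh.1 hh.2.1 hh.2.2, h0.tri _ _ _ hh.1 hh.2.1 hh.2.2, mul_one]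

theorem mm_eq (h2 : (2 : F) ≠ 0) (h : Tup v c) (h0 : Tup v₀ 1) (a b x y e f : Fin 7) :
    mm v a b x y e f = c ^ 2 * mm v₀ a b x y e f := by
  -- sharing a point, first position
  have k1 : ∀ a b d e f, mm v a b a d e f = c ^ 2 * mm v₀ a b a d e f := by
    intro a b d e f
    rw [h.mm_share, h0.mm_share, tri_eq h h0, tri_eq h h0]
    ring
  have k2 : ∀ a b x y e f, (a = x ∨ a = y ∨ b = x ∨ b = y) → mm v a b x y e f = c ^ 2 * mm v₀ a b x y e f := by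
    intro a b x y e f hh
    rcases hh with rfl | rfl | rfl | rfl
    · exact k1 _ _ _ _ _
    · rw [Tup.mm_a2 v, Tup.mm_a2 v₀]; exact k1 _ _ _ _ _
    · rw [Tup.mm_a1 v, Tup.mm_a1 v₀]; exact k1 _ _ _ _ _
    · rw [Tup.mm_a1 v, Tup.mm_a1 v₀, Tup.mm_a2 v, Tup.mm_a2 v₀]; exact k1 _ _ _ _ _
  have k3 : ∀ a b x y e f, (a = e ∨ a = f ∨ b = e ∨ b = f) → mm v a b x y e f = c ^ 2 * mm v₀ a b x y e f := by
    intro a b x y e f hh
    rw [Tup.mm_s23 v, Tup.mm_s23 v₀]; exact k2 _ _ _ _ _ _ hh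
  have k4 : ∀ a b x y e f, (x = e ∨ x = f ∨ y = e ∨ y = f) → mm v a b x y e f = c ^ 2 * mm v₀ a b x y e f := by
    intro a b x y e f hh
    rw [Tup.mm_s12 v, Tup.mm_s12 v₀]; exact k3 _ _ _ _ _ _ hh
  by_cases c1 : a = x ∨ a = y ∨ b = x ∨ b = y
  · exact k2 _ _ _ _ _ _ c1
  by_cases c2 : a = e ∨ a = f ∨ b = e ∨ b = f
  · exact k3 _ _ _ _ _ _ c2
  by_cases c3 : x = e ∨ x = f ∨ y = e ∨ y = f
  · exact k4 _ _ _ _ _ _ c3
  by_cases c4 : e = f
  · rw [c4, h.mm_zero, h0.mm_zero, mul_zero]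
  by_cases c5 : x = y
  · rw [c5, Tup.mm_s23 v, Tup.mm_s23 v₀, h.mm_zero, h0.mm_zero, mul_zero]
  by_cases c6 : a = b
  · rw [c6, Tup.mm_s12 v, Tup.mm_s12 v₀, Tup.mm_s23 v, Tup.mm_s23 v₀, h.mm_zero, h0.mm_zero, mul_zero]
  simp only [not_or] at c1 c2 c3
  have hy : Function.Injective ![a, b, x, y, e, f] := by
    intro i j hij
    fin_cases i <;> fin_cases j <;> simp_all only [_root_.ne_eq, _root_.true_or, _root_.implies_true, _root_.Nat.succ_eq_add_one, _root_.Nat.reduceAdd, _root_.Fin.zero_eta, _root_.Fin.isValue, _root_.Matrix.cons_val_zero, _root_.Fin.mk_one, _root_.Matrix.cons_val_one, _root_.Fin.reduceFinMk, _root_.Matrix.cons_val, _root_.one_ne_zero, _root_.not_true_eq_false, _root_.Fin.reduceEq, _root_.not_false_eq_true, _root_.false_and, _root_.and_false, _root_.true_and, _root_.and_true]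
  obtain ⟨s, hs⟩ := Equiv.Perm.exists_extending_pair ![0, 1, 2, 3, 4, 5] ![a, b, x, y, e, f] (by decide) hy
  have s0 : s 0 = a := hs 0
  have s1 : s 1 = b := hs 1
  have s2 : s 2 = x := hs 2
  have s3 : s 3 = y := hs 3
  have s4 : s 4 = e := hs 4
  have s5 : s 5 = f := hs 5
  rw [← s0, ← s1, ← s2, ← s3, ← s4, ← s5]
  -- the difference
  let D : Fin 7 → Fin 7 → F := fun p q => mm v (s 0) (s 1) (s 2) (s 3) (s p) (s q) -
    c ^ 2 * mm v₀ (s 0) (s 1) (s 2) (s 3) (s p) (s q)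
  have D0 : ∀ p, ∑ q, D p q = 0 := by
    intro p
    have e1 := h.mm_sum (s 0) (s 1) (s 2) (s 3) (s p)
    have e2 := h0.mm_sum (s 0) (s 1) (s 2) (s 3) (s p)
    rw [← Equiv.sum_comp s] at e1 e2
    simp only [D]
    rw [Finset.sum_sub_distrib, ← Finset.mul_sum, e1, e2, mul_zero, sub_zero]
  have D1 : ∀ p q, q = 0 ∨ q = 1 → D p q = 0 := by
    intro p q hq
    simp only [D]
    rw [sub_eq_zero]
    refine k3 _ _ _ _ _ _ ?_
    rcases hq with rfl | rfl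
    · exact Or.inr (Or.inl rfl)
    · exact Or.inr (Or.inr (Or.inr rfl))
  have D2 : ∀ p q, q = 2 ∨ q = 3 → D p q = 0 := by
    intro p q hq
    simp only [D]
    rw [sub_eq_zero]
    refine k4 _ _ _ _ _ _ ?_
    rcases hq with rfl | rfl
    · exact Or.inr (Or.inl rfl)
    · exact Or.inr (Or.inr (Or.inr rfl))
  have D3 : ∀ p, D p p = 0 := by
    intro p
    simp only [D]
    rw [h.mm_zero, h0.mm_zero, mul_zero, sub_zero]
  have D4 : ∀ p q, D p q = D q p := by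
    intro p q
    simp only [D]
    rw [Tup.mm_a3 v, Tup.mm_a3 v₀]
  have f4 := D0 4
  have f5 := D0 5
  have f6 := D0 6
  rw [Fin.sum_univ_seven, D1 _ 0 (by decide), D1 _ 1 (by decide), D2 _ 2 (by decide), D2 _ 3 (by decide)] at f4 f5 f6
  rw [D3] at f4 f5 f6
  have key : 2 * D 4 5 = 0 := by
    rw [D4 5 4] at f5
    rw [D4 6 4, D4 6 5] at f6
    linear_combination f4 + f5 - f6
  have := (mul_eq_zero.1 key).resolve_left h2
  simp only [D] at this
  rw [sub_eq_zero] at this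
  exact this

theorem good (h2 : (2 : F) ≠ 0) (h : Tup v c) (h0 : Tup v₀ 1) :
    Good (fun x y z => t3 v x y z - c ^ 4 * t3 v₀ x y z) := by
  have s12 : ∀ (v : Fin 7 → I27 → F) x y z, t3 v x y z = t3 v y x z := by
    intro v x y z; unfold t3; rw [cr_comm]
  have s23 : ∀ (v : Fin 7 → I27 → F) x y z, t3 v x y z = t3 v x z y := by
    intro v x y z; unfold t3; rw [tf_cr_comm]
  have key : ∀ {v : Fin 7 → I27 → F} (q q' : Q), uu v q = uu v q' → ∀ x y, t3 v x y q = t3 v x y q' := by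
    intro v q q' e x y; unfold t3; rw [e]
  have a1 : ∀ (v : Fin 7 → I27 → F) i j k l, uu v (i, j, k, l) = uu v (j, i, k, l) := by
    intro v i j k l
    change cr (ww v i j) (ww v k l) = cr (ww v j i) (ww v k l)
    rw [Tup.ww_comm v i j]
  have a2 : ∀ (v : Fin 7 → I27 → F) i j k l, uu v (i, j, k, l) = uu v (k, l, i, j) := by
    intro v i j k l
    change cr (ww v i j) (ww v k l) = cr (ww v k l) (ww v i j)
    rw [cr_comm]
  have sh1 : ∀ {v : Fin 7 → I27 → F} {c : F}, Tup v c → ∀ i j k, i ≠ j → i ≠ k → j ≠ k →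
      uu v (i, j, i, k) = c • v i := by
    intro v c h i j k g1 g2 g3
    change cr (ww v i j) (ww v i k) = c • v i
    rw [h.cr_ww_share, h.tri _ _ _ g1 g2 g3]
  have adj : ∀ {v : Fin 7 → I27 → F} {c : F}, Tup v c → ∀ i j k m n, i ≠ j → i ≠ k → j ≠ k → i ≠ m → i ≠ n →
      m ≠ n → uu v (i, j, i, k) = uu v (i, m, i, n) := by
    intro v c h i j k m n g1 g2 g3 g4 g5 g6
    rw [sh1 h _ _ _ g1 g2 g3, sh1 h _ _ _ g4 g5 g6]
  have z1 : ∀ {v : Fin 7 → I27 → F} {c : F}, Tup v c → ∀ i k l, uu v (i, i, k, l) = 0 := by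
    intro v c h i k l
    change cr (ww v i i) (ww v k l) = 0
    rw [h.ww_self, cr_zero_left]
  have z2 : ∀ {v : Fin 7 → I27 → F} {c : F}, Tup v c → ∀ i j, uu v (i, j, i, j) = 0 := by
    intro v c h i j
    change cr (ww v i j) (ww v i j) = 0
    rw [cr_self, h.sh_ww, smul_zero]
  have sm : ∀ {v : Fin 7 → I27 → F} {c : F}, Tup v c → ∀ i j k, ∑ l, uu v (i, j, k, l) = 0 := by
    intro v c h i j k
    change ∑ l, cr (ww v i j) (ww v k l) = 0
    rw [← cr_sum_right, h.ww_sum, cr_zero_right]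
  have th : ∀ {v : Fin 7 → I27 → F} {c : F}, Tup v c → ∀ i j k l, i ≠ j → i ≠ k → i ≠ l → j ≠ k → j ≠ l → k ≠ l →
      uu v (i, j, k, l) + uu v (i, k, j, l) + uu v (i, l, j, k) =
        uu v (vv i) + uu v (vv j) + uu v (vv k) + uu v (vv l) := by
    intro v c h i j k l g1 g2 g3 g4 g5 g6
    have e := cr_cr4 (v i) (v j) (v k) (v l)
    have e1 : ∀ i, uu v (vv i) = c • v i := fun i => sh1 h _ _ _ (Good.n1 i) (Good.n2 i) (Good.n3 i)
    rw [e1, e1, e1, e1]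
    have f1 : tf (cr (v i) (v j)) (v k) = c := by rw [tf_cr, h.tri _ _ _ g1 g2 g4]
    have f2 : tf (cr (v i) (v j)) (v l) = c := by rw [tf_cr, h.tri _ _ _ g1 g3 g5]
    rw [f1, f2, h.tri _ _ _ g2 g3 g6, h.tri _ _ _ g4 g5 g6] at e
    change cr (cr (v i) (v j)) (cr (v k) (v l)) + cr (cr (v i) (v k)) (cr (v j) (v l)) +
      cr (cr (v i) (v l)) (cr (v j) (v k)) = _
    rw [cr_comm (cr (v i) (v l))]
    calc _ = cr (cr (v i) (v k)) (cr (v j) (v l)) + cr (cr (v j) (v k)) (cr (v i) (v l)) +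
          cr (cr (v i) (v j)) (cr (v k) (v l)) := by abel
      _ = _ := e
      _ = _ := by abel
  constructor
  · intro x y z; rw [s12 v, s12 v₀]
  · intro x y z; rw [s23 v, s23 v₀]
  · intro x y i j k l; rw [key _ _ (a1 v i j k l), key _ _ (a1 v₀ i j k l)]
  · intro x y i j k l; rw [key _ _ (a2 v i j k l), key _ _ (a2 v₀ i j k l)]
  · intro x y i k l
    simp only [t3]
    rw [z1 h, z1 h0, tf_zero_right, tf_zero_right, mul_zero, sub_zero]
  · intro x y i j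
    simp only [t3]
    rw [z2 h, z2 h0, tf_zero_right, tf_zero_right, mul_zero, sub_zero]
  · intro x y i j k
    rw [Finset.sum_sub_distrib, ← Finset.mul_sum]
    simp only [t3]
    rw [← tf_sum_right, ← tf_sum_right, sm h, sm h0, tf_zero_right, tf_zero_right, mul_zero, sub_zero]
  · intro x y i j k m n g1 g2 g3 g4 g5 g6
    rw [key _ _ (adj h i j k m n g1 g2 g3 g4 g5 g6), key _ _ (adj h0 i j k m n g1 g2 g3 g4 g5 g6)]
  · intro x y i j k l g1 g2 g3 g4 g5 g6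
    have e1 := congrArg (tf (cr (uu v x) (uu v y))) (th h i j k l g1 g2 g3 g4 g5 g6)
    have e2 := congrArg (tf (cr (uu v₀ x) (uu v₀ y))) (th h0 i j k l g1 g2 g3 g4 g5 g6)
    simp only [tf_add_right] at e1 e2
    simp only [t3]
    linear_combination e1 - c ^ 4 * e2
  · intro i j k l m n z
    simp only [t3]
    have e : ∀ {v : Fin 7 → I27 → F} {c : F}, Tup v c →
        tf (cr (uu v (i, j, k, l)) (uu v (i, j, m, n))) (uu v z) =
          mm v i j k l m n * mm v i j z.1 z.2.1 z.2.2.1 z.2.2.2 := fun h => h.star i j _ _ _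
    rw [e h, e h0, mm_eq h2 h h0, mm_eq h2 h h0]
    ring

/-- the trilinear forms of two tuples are proportional -/
theorem t3_eq (h2 : (2 : F) ≠ 0) (h : Tup v c) (h0 : Tup v₀ 1) (x y z : Q) : t3 v x y z = c ^ 4 * t3 v₀ x y z := by
  have := (good h2 h h0).eq_zero h2 x y z
  exact sub_eq_zero.1 this

end Two

end Cfsg.Agent.H879.E6
end

-- part: H879/E6/Vec
section
/-!
# S5927, S5928: computation in `M₃(F)³` in characteristic 5 (helper879)

Vectors given by lists of 27 natural numbers modulo 5.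
-/

set_option autoImplicit false

namespace Cfsg.Agent.H879.E6

open Cfsg.Lie Cfsg.Agent.H952.F4 Cfsg.Agent.H952.F4.Jord Cfsg.Agent.H879.E6.Uniq
open Cfsg.Agent.ChevalleyStructure.E6Min.Tables Cfsg.Agent.ChevalleyStructure.E6Min.Basic

/-- the coordinate of a list -/
def gt (l : List ℕ) (n : ℕ) : ℕ := l.getD n 0

/-- number of a coordinate -/
def nb (k i j : ℕ) : ℕ := 9 * k + 3 * i + j

/-- polarized adjugate -/
def adj2 (x y : List ℕ) (s i j : ℕ) : ℕ :=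
  let a := nb s ((j + 1) % 3) ((i + 1) % 3)
  let b := nb s ((j + 2) % 3) ((i + 2) % 3)
  let c := nb s ((j + 1) % 3) ((i + 2) % 3)
  let d := nb s ((j + 2) % 3) ((i + 1) % 3)
  gt x a * gt y b + gt y a * gt x b + 4 * (gt x c * gt y d + gt y c * gt x d)

/-- polarized product -/
def prd2 (x y : List ℕ) (s t i j : ℕ) : ℕ :=
  (gt x (nb s i 0) * gt y (nb t 0 j) + gt y (nb s i 0) * gt x (nb t 0 j)) +
  (gt x (nb s i 1) * gt y (nb t 1 j) + gt y (nb s i 1) * gt x (nb t 1 j)) +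
  (gt x (nb s i 2) * gt y (nb t 2 j) + gt y (nb s i 2) * gt x (nb t 2 j))

/-- coordinate of the cross product -/
def crc (x y : List ℕ) (k i j : ℕ) : ℕ :=
  match k with
  | 0 => adj2 x y 0 i j + 4 * prd2 x y 1 2 i j
  | 1 => adj2 x y 2 i j + 4 * prd2 x y 0 1 i j
  | _ => adj2 x y 1 i j + 4 * prd2 x y 2 0 i j

/-- the cross product of lists -/
def crL (x y : List ℕ) : List ℕ := (List.range 27).map fun n => crc x y (n / 9) (n / 3 % 3) (n % 3) % 5

/-- the trace form of lists -/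
def tfL (x y : List ℕ) : ℕ :=
  ((gt x 0 * gt y 0 + gt x 1 * gt y 3 + gt x 2 * gt y 6 + gt x 3 * gt y 1 + gt x 4 * gt y 4 + gt x 5 * gt y
    7 + gt x 6 * gt y 2 + gt x 7 * gt y 5 + gt x 8 * gt y 8) + (gt x 9 * gt y 18 + gt x 10 * gt y 21 + gt x
    11 * gt y 24 + gt x 12 * gt y 19 + gt x 13 * gt y 22 + gt x 14 * gt y 25 + gt x 15 * gt y 20 + gt x 16 *
    gt y 23 + gt x 17 * gt y 26) + (gt x 18 * gt y 9 + gt x 19 * gt y 12 + gt x 20 * gt y 15 + gt x 21 * gt y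
    10 + gt x 22 * gt y 13 + gt x 23 * gt y 16 + gt x 24 * gt y 11 + gt x 25 * gt y 14 + gt x 26 * gt y 17)) % 5

def addL (x y : List ℕ) : List ℕ := (List.range 27).map fun n => (gt x n + gt y n) % 5

def smulL (c : ℕ) (x : List ℕ) : List ℕ := (List.range 27).map fun n => c * gt x n % 5

/-- equality of lists -/
def eqL (x y : List ℕ) : Bool := (List.range 27).all fun n => Nat.beq (gt x n) (gt y n)

/-- the list is zero -/
def zeroL (x : List ℕ) : Bool := (List.range 27).all fun n => Nat.beq (gt x n) 0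

section
variable (F : Type*) [Field F]

/-- the vector of a list -/
def vec (l : List ℕ) : I27 → F := fun a => ((gt l (nb a.1.val a.2.1.val a.2.2.val) : ℕ) : F)

variable {F}

theorem gt_map {f : ℕ → ℕ} {n : ℕ} (hn : n < 27) : gt ((List.range 27).map f) n = f n := by
  unfold gt
  rw [List.getD_eq_getElem?_getD, List.getElem?_map, List.getElem?_range hn]
  rfl

variable [CharP F 5]

theorem cast_mod (n : ℕ) : ((n % 5 : ℕ) : F) = (n : F) := by
  conv_rhs => rw [← Nat.mod_add_div n 5]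
  rw [Nat.cast_add, Nat.cast_mul, CharP.cast_eq_zero F 5, zero_mul, add_zero]

theorem five_zero : (5 : F) = 0 := by
  have := CharP.cast_eq_zero F 5
  exact_mod_cast this

theorem two_ne : (2 : F) ≠ 0 := by
  intro h
  have h5 := five_zero (F := F)
  have : (1 : F) = 0 := by linear_combination h5 - 2 * h
  exact one_ne_zero this

theorem vec_add (x y : List ℕ) : vec F (addL x y) = vec F x + vec F y := by
  funext ⟨k, i, j⟩
  have hn : nb k.val i.val j.val < 27 := by unfold nb; omega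
  simp only [vec, addL, Pi.add_apply]
  rw [gt_map hn, cast_mod, Nat.cast_add]

theorem vec_smul (c : ℕ) (x : List ℕ) : vec F (smulL c x) = (c : F) • vec F x := by
  funext ⟨k, i, j⟩
  have hn : nb k.val i.val j.val < 27 := by unfold nb; omega
  simp only [vec, smulL, Pi.smul_apply, smul_eq_mul]
  rw [gt_map hn, cast_mod, Nat.cast_mul]

omit [CharP F 5] in
theorem vec_eq {x y : List ℕ} (h : eqL x y = true) : vec F x = vec F y := by
  funext ⟨k, i, j⟩
  have hn : nb k.val i.val j.val < 27 := by unfold nb; omega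
  have := List.all_eq_true.1 h _ (List.mem_range.2 hn)
  rw [Nat.beq_eq] at this
  simp only [vec]
  rw [this]

omit [CharP F 5] in
theorem vec_zero {x : List ℕ} (h : zeroL x = true) : vec F x = 0 := by
  funext ⟨k, i, j⟩
  have hn : nb k.val i.val j.val < 27 := by unfold nb; omega
  have := List.all_eq_true.1 h _ (List.mem_range.2 hn)
  rw [Nat.beq_eq] at this
  simp only [vec, this, Nat.cast_zero, Pi.zero_apply]

theorem vec_cr (x y : List ℕ) : cr (vec F x) (vec F y) = vec F (crL x y) := by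
  have h4 : (4 : F) = -1 := by linear_combination five_zero (F := F)
  have e : ∀ k i j : Fin 3, vec F (crL x y) (k, i, j) = ((crc x y k.val i.val j.val : ℕ) : F) := by
    intro k i j
    have hn : nb k.val i.val j.val < 27 := by unfold nb; omega
    simp only [vec, crL]
    rw [gt_map hn, cast_mod]
    congr 2
    · unfold nb; omega
    · unfold nb; omega
    · unfold nb; omega
  refine ext27 fun k i j => ?_
  rw [e]
  unfold cr
  fin_cases k <;> fin_cases i <;> fin_cases j <;>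
    simp only [Fin.zero_eta, Fin.mk_one, Fin.reduceFinMk, Pi.add_apply, Pi.sub_apply, sh000, sh001, sh002, sh010,
      sh011, sh012, sh020, sh021, sh022, sh100, sh101, sh102, sh110, sh111, sh112, sh120, sh121, sh122, sh200, sh201,
      sh202, sh210, sh211, sh212, sh220, sh221, sh222, vec, crc, adj2, prd2, Nat.cast_add, Nat.cast_mul,
      Nat.cast_ofNat, h4, Fin.val_zero, Fin.val_one, Fin.val_two, Nat.reduceAdd, Nat.reduceMod, zero_add, nb,
      Nat.reduceMul] <;>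
    ring

theorem vec_tf (x y : List ℕ) : tf (vec F x) (vec F y) = ((tfL x y : ℕ) : F) := by
  rw [tfL, cast_mod, tf_eq]
  simp only [Fin.sum_univ_three, vec, nb, Fin.val_zero, Fin.val_one, Fin.val_two, Nat.reduceAdd, Nat.reduceMul, zero_add,
    add_zero, Nat.cast_add, Nat.cast_mul, mul_zero, mul_one]
  ring

end

end Cfsg.Agent.H879.E6
end

-- part: H879/E6/ModelA
section
/-!
# S5927, S5928: the explicit tuples over the field with 5 elements (helper879)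
-/

set_option autoImplicit false

namespace Cfsg.Agent.H879.E6

open Cfsg.Lie Cfsg.Agent.H952.F4 Cfsg.Agent.H952.F4.Jord Cfsg.Agent.H879.E6.Uniq
open Cfsg.Agent.ChevalleyStructure.E6Min.Tables Cfsg.Agent.ChevalleyStructure.E6Min.Basic

/-- check that a list is a tuple with constant 1, with the table of the `w_ij` -/
def chkT (V W : List (List ℕ)) : Bool :=
  ((List.range 7).all fun i => (List.range 7).all fun j =>
    eqL (crL (V.getD i []) (V.getD j [])) (W.getD (7 * i + j) [])) &&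
  ((List.range 7).all fun i => zeroL (W.getD (7 * i + i) [])) &&
  ((List.range 27).all fun n => Nat.beq (((List.range 7).map fun i => gt (V.getD i []) n).sum % 5) 0) &&
  ((List.range 7).all fun i => (List.range 7).all fun j => (List.range 7).all fun k =>
    Nat.beq i j || Nat.beq i k || Nat.beq j k || Nat.beq (tfL (V.getD i []) (W.getD (7 * j + k) [])) 1)

/-- first tuple -/
noncomputable def V0 : List (List ℕ) :=
  (by
  refine (?fq9008 : ((pk61l (fun i1 => (pk61l (fun i2 => (pk61d (nat_lit 3) 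
    (nat_lit 0x22da2e12112014548528502500cb0e30212402482612626c8008011201241000000000000009249248000000000000040000000000000000000000200000000000000000000001) i2)) (Nat.mul (nat_lit 27) i1) (Nat.mul (nat_lit 27) (Nat.succ i1)) List.nil)) (nat_lit 0) (nat_lit 7) List.nil) : List (List ℕ))
    = ?xq9008 → (List (List ℕ))) ?hq9008; (case hq9008 => (set_option maxRecDepth 1000000 in set_option simprocs false in conv => lhs; reduce; dsimp only)); intro _; exact ?xq9008 : List (List ℕ))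

noncomputable def W0 : List (List ℕ) :=
  (by
  refine (?fq9009 : ((pk61l (fun i1 => (pk61l (fun i2 => (pk61d (nat_lit 3) 
    (nat_lit 0x61b6048e38dc8490092084484580dc05c04804906492449365b2d92242042c04020206000000016091006010009000082006080808040000046582400186d81238e37212402482000000000000000000004c94e329c48b50a90a50a4924496cb65b25925b2581000020800000003002000c040005000100010102000080000030c0080004484580dc05c0480490532538ca7122d42a429420000000000000000000092491252391c8cb24b64c0200c08000000000600410200800040002000202040080800000198010009249124d96cb64890810a4924496cb65b25925b2649244948e47232c92d920000000000000000000000000000000000000c1080000000000000440040400000000000003042000c040202060000000160960400008200000000c00c0200c08000000000600400000000000000003042000000000000000000000000000000000000000080000000000000000400040180400240002080182000c040005000100010104080200010000800080800000000000004400404000000000000000000020000000000000000000000000000000000800000008080400000465824000080002000000c30020000400808000001980100000000000000000c108000000000000000000040000000000000000200000000000000000000000000)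 i2)) (Nat.mul (nat_lit 27) i1) (Nat.mul (nat_lit 27) (Nat.succ i1)) List.nil)) (nat_lit 0) (nat_lit 49) List.nil) : List (List ℕ))
    = ?xq9009 → (List (List ℕ))) ?hq9009; (case hq9009 => (set_option maxRecDepth 1000000 in set_option simprocs false in conv => lhs; reduce; dsimp only)); intro _; exact ?xq9009 : List (List ℕ))

/-- second tuple -/
noncomputable def V2 : List (List ℕ) :=
  (by
  refine (?fq9010 : ((pk61l (fun i1 => (pk61l (fun i2 => (pk61d (nat_lit 3) 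
    (nat_lit 0x389388c81c80471931b3090a20091118e32092012434846648082414e14e14cb20120a51808b8ca50c4820c32a48424412402500092546d10922092012822988c8042899521699) i2)) (Nat.mul (nat_lit 27) i1) (Nat.mul (nat_lit 27) (Nat.succ i1)) List.nil)) (nat_lit 0) (nat_lit 7) List.nil) : List (List ℕ))
    = ?xq9010 → (List (List ℕ))) ?hq9010; (case hq9010 => (set_option maxRecDepth 1000000 in set_option simprocs false in conv => lhs; reduce; dsimp only)); intro _; exact ?xq9010 : List (List ℕ))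

noncomputable def W2 : List (List ℕ) :=
  (by
  refine (?fq9011 : ((pk61l (fun i1 => (pk61l (fun i2 => (pk61d (nat_lit 3) 
    (nat_lit 0x4140cc60a69330288268072242002411c4048038007032896d00a00e400401c6502512512404906a029a42209a21170350248251811009c24200481881050331829a4cc0a209a0000000000000000000006a171a2436e02cb4cb8cb4926d084285266185a8633000644d07142492912c23184149248814492890e329c51328a44b30c50872242002411c40480381a85c6890db80b2d32e32000000000000000000000e32ca45a8606486ca00a6a024c8e290865c85426170331b5248cc2a12e425b91440a6d86514c101901c0ca25b4028039001034926d084285266185a8438cb2916a181921b28020000000000000000000029b86209a4e28cc90a64a32349c81421326345b66290391b0492a220321321c6502512512404906a08cc00191341c50924a44a6a024c8e290865c85424a6e18826938a332429920000000000000000000002262342449a8ca24a24b86225468980445b66344a69088268845c0d40920c231841492488144928985c0cc6d492330a84b90a32349c81421326345b6408988d09126a32892892000000000000000000000626a13141134ca84c70a51811009c2420048188038ca7144ca2912cc31425b91440a6d86514c10198a40e46c124a8880c84cb86225468980445b66344189a84c5044d32a131c200000000000000000000)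 i2)) (Nat.mul (nat_lit 27) i1) (Nat.mul (nat_lit 27) (Nat.succ i1)) List.nil)) (nat_lit 0) (nat_lit 49) List.nil) : List (List ℕ))
    = ?xq9011 → (List (List ℕ))) ?hq9011; (case hq9011 => (set_option maxRecDepth 1000000 in set_option simprocs false in conv => lhs; reduce; dsimp only)); intro _; exact ?xq9011 : List (List ℕ))

private def pk (l : List ℕ) : ℕ := l.foldr (fun a r => Nat.add a (Nat.mul 8 r)) 0

private def dg (c n : ℕ) : ℕ := Nat.mod (Nat.shiftRight c (Nat.mul 3 n)) 8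

private def sm (L : List (List ℕ)) : Bool := L.all fun l => l.all fun a => Nat.blt a 8

private theorem gt_pk : ∀ {l : List ℕ}, (∀ a ∈ l, a < 8) → gt l = dg (pk l)
  | [], _ => funext fun n => by
    show 0 = 0 >>> (3 * n) % 8
    rw [Nat.zero_shiftRight]
  | a :: l, h => funext fun n => by
    have h1 := h a List.mem_cons_self
    rcases n with _ | n
    · show a = (a + 8 * pk l) % 8
      omega
    · show gt l n = (a + 8 * pk l) >>> (3 * (n + 1)) % 8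
      rw [gt_pk fun b hb => h b (List.mem_cons_of_mem _ hb), show 3 * (n + 1) = 3 + 3 * n by omega, Nat.shiftRight_add,
        show (a + 8 * pk l) >>> 3 = pk l by rw [Nat.shiftRight_eq_div_pow]; omega]
      rfl

private theorem gt_sm {L : List (List ℕ)} (h : sm L = true) (i : ℕ) : gt (L.getD i []) = dg (pk (L.getD i [])) := by
  refine gt_pk fun a ha => ?_
  rw [List.getD_eq_getElem?_getD] at ha
  cases e : L[i]? with
  | none => rw [e] at ha; exact absurd ha List.not_mem_nil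
  | some l => rw [e] at ha; exact Nat.blt_eq.mp (List.all_eq_true.1 (List.all_eq_true.1 h l (List.mem_of_getElem? e)) a ha)

private def crE (f g : ℕ → ℕ) : List ℕ :=
  (beta% delta% lq269454d670 fun a _ _ d h i _ _ _ _ n _ =>
 (a (n (h (h (h (d (f 4) (g 8)) (d (g 4) (f 8))) (d 4 (h (d (f 5) (g 7)) (d
 (g 5) (f 7))))) (d 4 (h (h (h (d (f 9) (g 18)) (d (g 9) (f 18))) (h (d (f 10) (g
 21)) (d (g 10) (f 21)))) (h (d (f 11) (g 24)) (d (g 11) (f 24)))))) 5)<|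
 a (n (h (h (h (d (f 7) (g 2)) (d (g 7) (f 2))) (d 4 (h (d (f 8) (g 1)) (d
 (g 8) (f 1))))) (d 4 (h (h (h (d (f 9) (g 19)) (d (g 9) (f 19))) (h (d (f 10) (g
 22)) (d (g 10) (f 22)))) (h (d (f 11) (g 25)) (d (g 11) (f 25)))))) 5)<|
 a (n (h (h (h (d (f 1) (g 5)) (d (g 1) (f 5))) (d 4 (h (d (f 2) (g 4)) (d
 (g 2) (f 4))))) (d 4 (h (h (h (d (f 9) (g 20)) (d (g 9) (f 20))) (h (d (f 10) (g
 23)) (d (g 10) (f 23)))) (h (d (f 11) (g 26)) (d (g 11) (f 26)))))) 5)<|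
 a (n (h (h (h (d (f 5) (g 6)) (d (g 5) (f 6))) (d 4 (h (d (f 3) (g 8)) (d
 (g 3) (f 8))))) (d 4 (h (h (h (d (f 12) (g 18)) (d (g 12) (f 18))) (h (d (f 13) (g
 21)) (d (g 13) (f 21)))) (h (d (f 14) (g 24)) (d (g 14) (f 24)))))) 5)<|
 a (n (h (h (h (d (f 8) (g 0)) (d (g 8) (f 0))) (d 4 (h (d (f 6) (g 2)) (d
 (g 6) (f 2))))) (d 4 (h (h (h (d (f 12) (g 19)) (d (g 12) (f 19))) (h (d (f 13) (g
 22)) (d (g 13) (f 22)))) (h (d (f 14) (g 25)) (d (g 14) (f 25)))))) 5)<|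
 a (n (h (h (h (d (f 2) (g 3)) (d (g 2) (f 3))) (d 4 (h (d (f 0) (g 5)) (d
 (g 0) (f 5))))) (d 4 (h (h (h (d (f 12) (g 20)) (d (g 12) (f 20))) (h (d (f 13) (g
 23)) (d (g 13) (f 23)))) (h (d (f 14) (g 26)) (d (g 14) (f 26)))))) 5)<|
 a (n (h (h (h (d (f 3) (g 7)) (d (g 3) (f 7))) (d 4 (h (d (f 4) (g 6)) (d
 (g 4) (f 6))))) (d 4 (h (h (h (d (f 15) (g 18)) (d (g 15) (f 18))) (h (d (f 16) (g
 21)) (d (g 16) (f 21)))) (h (d (f 17) (g 24)) (d (g 17) (f 24)))))) 5)<|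
 a (n (h (h (h (d (f 6) (g 1)) (d (g 6) (f 1))) (d 4 (h (d (f 7) (g 0)) (d
 (g 7) (f 0))))) (d 4 (h (h (h (d (f 15) (g 19)) (d (g 15) (f 19))) (h (d (f 16) (g
 22)) (d (g 16) (f 22)))) (h (d (f 17) (g 25)) (d (g 17) (f 25)))))) 5)<|
 a (n (h (h (h (d (f 0) (g 4)) (d (g 0) (f 4))) (d 4 (h (d (f 1) (g 3)) (d
 (g 1) (f 3))))) (d 4 (h (h (h (d (f 15) (g 20)) (d (g 15) (f 20))) (h (d (f 16) (g
 23)) (d (g 16) (f 23)))) (h (d (f 17) (g 26)) (d (g 17) (f 26)))))) 5)<|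
 a (n (h (h (h (d (f 22) (g 26)) (d (g 22) (f 26))) (d 4 (h (d (f 23) (g 25))
 (d (g 23) (f 25))))) (d 4 (h (h (h (d (f 0) (g 9)) (d (g 0) (f 9))) (h (d (f
 1) (g 12)) (d (g 1) (f 12)))) (h (d (f 2) (g 15)) (d (g 2) (f 15)))))) 5)<|
 a (n (h (h (h (d (f 25) (g 20)) (d (g 25) (f 20))) (d 4 (h (d (f 26) (g 19))
 (d (g 26) (f 19))))) (d 4 (h (h (h (d (f 0) (g 10)) (d (g 0) (f 10))) (h (d
 (f 1) (g 13)) (d (g 1) (f 13)))) (h (d (f 2) (g 16)) (d (g 2) (f 16)))))) 5)<|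
 a (n (h (h (h (d (f 19) (g 23)) (d (g 19) (f 23))) (d 4 (h (d (f 20) (g 22))
 (d (g 20) (f 22))))) (d 4 (h (h (h (d (f 0) (g 11)) (d (g 0) (f 11))) (h (d
 (f 1) (g 14)) (d (g 1) (f 14)))) (h (d (f 2) (g 17)) (d (g 2) (f 17)))))) 5)<|
 a (n (h (h (h (d (f 23) (g 24)) (d (g 23) (f 24))) (d 4 (h (d (f 21) (g 26))
 (d (g 21) (f 26))))) (d 4 (h (h (h (d (f 3) (g 9)) (d (g 3) (f 9))) (h (d (f
 4) (g 12)) (d (g 4) (f 12)))) (h (d (f 5) (g 15)) (d (g 5) (f 15)))))) 5)<|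
 a (n (h (h (h (d (f 26) (g 18)) (d (g 26) (f 18))) (d 4 (h (d (f 24) (g 20))
 (d (g 24) (f 20))))) (d 4 (h (h (h (d (f 3) (g 10)) (d (g 3) (f 10))) (h (d
 (f 4) (g 13)) (d (g 4) (f 13)))) (h (d (f 5) (g 16)) (d (g 5) (f 16)))))) 5)<|
 a (n (h (h (h (d (f 20) (g 21)) (d (g 20) (f 21))) (d 4 (h (d (f 18) (g 23))
 (d (g 18) (f 23))))) (d 4 (h (h (h (d (f 3) (g 11)) (d (g 3) (f 11))) (h (d
 (f 4) (g 14)) (d (g 4) (f 14)))) (h (d (f 5) (g 17)) (d (g 5) (f 17)))))) 5)<|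
 a (n (h (h (h (d (f 21) (g 25)) (d (g 21) (f 25))) (d 4 (h (d (f 22) (g 24))
 (d (g 22) (f 24))))) (d 4 (h (h (h (d (f 6) (g 9)) (d (g 6) (f 9))) (h (d (f
 7) (g 12)) (d (g 7) (f 12)))) (h (d (f 8) (g 15)) (d (g 8) (f 15)))))) 5)<|
 a (n (h (h (h (d (f 24) (g 19)) (d (g 24) (f 19))) (d 4 (h (d (f 25) (g 18))
 (d (g 25) (f 18))))) (d 4 (h (h (h (d (f 6) (g 10)) (d (g 6) (f 10))) (h (d
 (f 7) (g 13)) (d (g 7) (f 13)))) (h (d (f 8) (g 16)) (d (g 8) (f 16)))))) 5)<|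
 a (n (h (h (h (d (f 18) (g 22)) (d (g 18) (f 22))) (d 4 (h (d (f 19) (g 21))
 (d (g 19) (f 21))))) (d 4 (h (h (h (d (f 6) (g 11)) (d (g 6) (f 11))) (h (d
 (f 7) (g 14)) (d (g 7) (f 14)))) (h (d (f 8) (g 17)) (d (g 8) (f 17)))))) 5)<|
 a (n (h (h (h (d (f 13) (g 17)) (d (g 13) (f 17))) (d 4 (h (d (f 14) (g 16))
 (d (g 14) (f 16))))) (d 4 (h (h (h (d (f 18) (g 0)) (d (g 18) (f 0))) (h (d
 (f 19) (g 3)) (d (g 19) (f 3)))) (h (d (f 20) (g 6)) (d (g 20) (f 6)))))) 5)<|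
 a (n (h (h (h (d (f 16) (g 11)) (d (g 16) (f 11))) (d 4 (h (d (f 17) (g 10))
 (d (g 17) (f 10))))) (d 4 (h (h (h (d (f 18) (g 1)) (d (g 18) (f 1))) (h (d
 (f 19) (g 4)) (d (g 19) (f 4)))) (h (d (f 20) (g 7)) (d (g 20) (f 7)))))) 5)<|
 a (n (h (h (h (d (f 10) (g 14)) (d (g 10) (f 14))) (d 4 (h (d (f 11) (g 13))
 (d (g 11) (f 13))))) (d 4 (h (h (h (d (f 18) (g 2)) (d (g 18) (f 2))) (h (d
 (f 19) (g 5)) (d (g 19) (f 5)))) (h (d (f 20) (g 8)) (d (g 20) (f 8)))))) 5)<|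
 a (n (h (h (h (d (f 14) (g 15)) (d (g 14) (f 15))) (d 4 (h (d (f 12) (g 17))
 (d (g 12) (f 17))))) (d 4 (h (h (h (d (f 21) (g 0)) (d (g 21) (f 0))) (h (d
 (f 22) (g 3)) (d (g 22) (f 3)))) (h (d (f 23) (g 6)) (d (g 23) (f 6)))))) 5)<|
 a (n (h (h (h (d (f 17) (g 9)) (d (g 17) (f 9))) (d 4 (h (d (f 15) (g 11))
 (d (g 15) (f 11))))) (d 4 (h (h (h (d (f 21) (g 1)) (d (g 21) (f 1))) (h (d
 (f 22) (g 4)) (d (g 22) (f 4)))) (h (d (f 23) (g 7)) (d (g 23) (f 7)))))) 5)<|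
 a (n (h (h (h (d (f 11) (g 12)) (d (g 11) (f 12))) (d 4 (h (d (f 9) (g 14))
 (d (g 9) (f 14))))) (d 4 (h (h (h (d (f 21) (g 2)) (d (g 21) (f 2))) (h (d
 (f 22) (g 5)) (d (g 22) (f 5)))) (h (d (f 23) (g 8)) (d (g 23) (f 8)))))) 5)<|
 a (n (h (h (h (d (f 12) (g 16)) (d (g 12) (f 16))) (d 4 (h (d (f 13) (g 15))
 (d (g 13) (f 15))))) (d 4 (h (h (h (d (f 24) (g 0)) (d (g 24) (f 0))) (h (d
 (f 25) (g 3)) (d (g 25) (f 3)))) (h (d (f 26) (g 6)) (d (g 26) (f 6)))))) 5)<|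
 a (n (h (h (h (d (f 15) (g 10)) (d (g 15) (f 10))) (d 4 (h (d (f 16) (g 9))
 (d (g 16) (f 9))))) (d 4 (h (h (h (d (f 24) (g 1)) (d (g 24) (f 1))) (h (d
 (f 25) (g 4)) (d (g 25) (f 4)))) (h (d (f 26) (g 7)) (d (g 26) (f 7)))))) 5)<|
 a (n (h (h (h (d (f 9) (g 13)) (d (g 9) (f 13))) (d 4 (h (d (f 10) (g 12))
 (d (g 10) (f 12))))) (d 4 (h (h (h (d (f 24) (g 2)) (d (g 24) (f 2))) (h (d
 (f 25) (g 5)) (d (g 25) (f 5)))) (h (d (f 26) (g 8)) (d (g 26) (f 8)))))) 5)<|i))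

private theorem crL_eq (x y : List ℕ) : crL x y = crE (gt x) (gt y) := rfl

private def tfE (f g : ℕ → ℕ) : ℕ :=
  (beta% delta% lq269454d670 fun _ _ _ d h _ _ _ _ _ n _ =>
 n (h (h (h (h (h (h (h (h (h (h (d (f 0) (g 0)) (d
 (f 1) (g 3))) (d (f 2) (g 6))) (d (f 3) (g 1))) (d (f 4) (g 4))) (d (f 5) (g 7))) (d (f 6) (g 2)))
 (d (f 7) (g 5))) (d (f 8) (g 8))) (h (h (h (h (h (h (h (h (d (f
 9) (g 18)) (d (f 10) (g 21))) (d (f 11) (g 24))) (d (f 12) (g 19))) (d (f 13) (g 22))) (d (f 14) (g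
 25))) (d (f 15) (g 20))) (d (f 16) (g 23))) (d (f 17) (g 26)))) (h (h (h (h (h
 (h (h (h (d (f 18) (g 9)) (d (f 19) (g 12))) (d (f 20) (g 15))) (d (f 21) (g 10)))
 (d (f 22) (g 13))) (d (f 23) (g 16))) (d (f 24) (g 11))) (d (f 25) (g 14))) (d (f 26) (g 17)))) 5)

private theorem tfL_eq (x y : List ℕ) : tfL x y = tfE (gt x) (gt y) := rfl

private theorem chkT_of {V W : List (List ℕ)} (hV : sm V = true) (hW : sm W = true)
    (h : (((List.range 7).all fun i => (List.range 7).all fun j =>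
      eqL (crE (dg (pk (V.getD i []))) (dg (pk (V.getD j [])))) (W.getD (7 * i + j) [])) &&
    ((List.range 7).all fun i => zeroL (W.getD (7 * i + i) [])) &&
    ((List.range 27).all fun n => Nat.beq (((List.range 7).map fun i => gt (V.getD i []) n).sum % 5) 0) &&
    ((List.range 7).all fun i => (List.range 7).all fun j => (List.range 7).all fun k =>
      Nat.beq i j || Nat.beq i k || Nat.beq j k ||
        Nat.beq (tfE (dg (pk (V.getD i []))) (dg (pk (W.getD (7 * j + k) [])))) 1)) = true) : chkT V W = true := by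
  simp only [← gt_sm hV, ← gt_sm hW, ← crL_eq, ← tfL_eq] at h
  exact h

private theorem smW0 : sm W0 = true := by decide +kernel

private noncomputable def _root_.Cfsg.Agent.LsF.f9352fb_15 : {f // @Cfsg.Agent.H879.E6.gt = f} := ⟨_, by first | (delta Cfsg.Agent.H879.E6.gt; rewrite [Cfsg.Agent.LsF.getD_eq]; exact rfl) | exact rfl⟩
private noncomputable def _root_.Cfsg.Agent.LsF.f9352fb_16 : {f // @Cfsg.Agent.H879.E6.eqL = f} := ⟨_, by first | (delta Cfsg.Agent.H879.E6.eqL; rewrite [Cfsg.Agent.LsF.f9352fb_15.2, Cfsg.Agent.LsF.all_eq, Cfsg.Agent.LsF.range_eq]; exact rfl) | exact rfl⟩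
private noncomputable def _root_.Cfsg.Agent.LsF.f9352fb_17 : {f // @Cfsg.Agent.H879.E6.pk = f} := ⟨_, by first | (delta Cfsg.Agent.H879.E6.pk; rewrite [Cfsg.Agent.LsF.foldr_eq]; exact rfl) | exact rfl⟩
private noncomputable def _root_.Cfsg.Agent.LsF.f9352fb_18 : {f // @Cfsg.Agent.H879.E6.zeroL = f} := ⟨_, by first | (delta Cfsg.Agent.H879.E6.zeroL; rewrite [Cfsg.Agent.LsF.f9352fb_15.2, Cfsg.Agent.LsF.all_eq, Cfsg.Agent.LsF.range_eq]; exact rfl) | exact rfl⟩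
theorem chk0 : chkT V0 W0 = true := chkT_of (by decide +kernel) smW0 (by ((try (rewrite [Cfsg.Agent.LsF.f9352fb_16.2, Cfsg.Agent.LsF.f9352fb_17.2, Cfsg.Agent.LsF.f9352fb_18.2, Cfsg.Agent.LsF.f9352fb_15.2, Cfsg.Agent.LsF.nadd_pat, Cfsg.Agent.LsF.nmul_pat, Cfsg.Agent.LsF.nmod_pat, Cfsg.Agent.LsF.and_eq, Cfsg.Agent.LsF.or_eq, Cfsg.Agent.LsF.all_eq, Cfsg.Agent.LsF.map_eq, Cfsg.Agent.LsF.range_eq, Cfsg.Agent.LsF.sum_eq, Cfsg.Agent.LsF.getD_eq])); decide +kernel))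

theorem chk2 : chkT V2 W2 = true := chkT_of (by decide +kernel) (by decide +kernel) (by ((try (rewrite [Cfsg.Agent.LsF.f9352fb_16.2, Cfsg.Agent.LsF.f9352fb_17.2, Cfsg.Agent.LsF.f9352fb_18.2, Cfsg.Agent.LsF.f9352fb_15.2, Cfsg.Agent.LsF.nadd_pat, Cfsg.Agent.LsF.nmul_pat, Cfsg.Agent.LsF.nmod_pat, Cfsg.Agent.LsF.and_eq, Cfsg.Agent.LsF.or_eq, Cfsg.Agent.LsF.all_eq, Cfsg.Agent.LsF.map_eq, Cfsg.Agent.LsF.range_eq, Cfsg.Agent.LsF.sum_eq, Cfsg.Agent.LsF.getD_eq])); decide +kernel))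

/-- the basis -/
def B27 : List Q := (beta% delta% lq269454d670 fun a b _ _ _ i _ _ _ _ _ _ =>
 (a (b 1<|b 4<|b 3 5)<|a (b 1<|b 4<|b 3 6)<|a (b 1<|b 5<|b 2 4)<|a (b 1<|b 5<|b 3 4)<|a (b 1<|b 5<|b 3 6)<|a (b 1<|b 5<|b 4 6)<|a (b 1<|b 6<|b 2
 3)<|a (b 1<|b 6<|b 2 4)<|a (b 1<|b 6<|b 2 5)<|a (b 1<|b 6<|b 3 4)<|a (b 1<|b 6<|b 3 5)<|a (b 1<|b 6<|b 4 5)<|a (b 2<|b 3<|b 4 5)<|a (b 2<|b 3<|b 4 6)<|a (b 2<|b 3<|b 5
 6)<|a (b 2<|b 4<|b 3 5)<|a (b 2<|b 4<|b 3 6)<|a (b 2<|b 4<|b 5 6)<|a (b 2<|b 5<|b 3 4)<|a (b 2<|b 5<|b 3 6)<|a (b 2<|b 5<|b 4 6)<|a (b 2<|b 6<|b 3 4)<|a (b 2<|b 6<|b 3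
 5)<|a (b 2<|b 6<|b 4 5)<|a (b 3<|b 4<|b 5 6)<|a (b 3<|b 5<|b 4 6)<|a (b 3<|b 6<|b 4 5)<|i))

noncomputable def U27 : List (List ℕ) :=
  (by
  refine (?fq9012 : ((pk61l (fun i1 => (pk61l (fun i2 => (pk61d (nat_lit 3) 
    (nat_lit 0x28028810801100e12e42e32638d14e18a26d26da71c91c4a146225b6936d345361c0424dc71900a30a2180c12114402d22518508ca7090a226464a2942992208d87224838913014914c22c384821b80980a10a6036182984c464c04945149102310171226024c2022080c86638212c12490938406c391c7090086826000002c44e484c24421309802484972426121a06068004381392130905a4448a124444981940a20222060121984c4d225171031a2c90e42a165228b29091864869112128124151484024364c80940830262100122406444a2486534c052306330270a2844946405187118236412044232588c108c1182c900a69820461a4408490445090c268101a2c070c2e12496136080c901b861) i2)) (Nat.mul (nat_lit 27) i1) (Nat.mul (nat_lit 27) (Nat.succ i1)) List.nil)) (nat_lit 0) (nat_lit 27) List.nil) : List (List ℕ))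
    = ?xq9012 → (List (List ℕ))) ?hq9012; (case hq9012 => (set_option maxRecDepth 1000000 in set_option simprocs false in conv => lhs; reduce; dsimp only)); intro _; exact ?xq9012 : List (List ℕ))

/-- the dual basis -/
noncomputable def D27 : List (List ℕ) :=
  (by
  refine (?fq9013 : ((pk61l (fun i1 => (pk61l (fun i2 => (pk61d (nat_lit 3) 
    (nat_lit 0x40430622cc4800db24301200b5020632886142640c32894cb0522532594188808917040434a090b08021411486244490b44841c69210b46171c80321b06221886000969c8015188db0c88e049362380c90185162211c11090c0895214144092e089a8242c211b3188c32d24d450970061825b8d231a2610110a21215224032533034582238e124a6c06948c425b00048b72088911c10264c4606888014ca08340c0623244436c048102305b5244c08cb11170a0142208220d46a364b2e04c971440c0d070265310430822008369a52481101a0603000db6dc5229141091210596437092810906d80404d90591098097012046410d90236006002212242132da00889b4431120100806401044e16582400c0) i2))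 (Nat.mul (nat_lit 27) i1) (Nat.mul (nat_lit 27) (Nat.succ i1)) List.nil)) (nat_lit 0) (nat_lit 27) List.nil) : List (List ℕ))
    = ?xq9013 → (List (List ℕ))) ?hq9013; (case hq9013 => (set_option maxRecDepth 1000000 in set_option simprocs false in conv => lhs; reduce; dsimp only)); intro _; exact ?xq9013 : List (List ℕ))

theorem chkB : ((List.range 27).all fun n =>
    let b := B27.getD n (0, 0, 0, 0)
    eqL (crL (W0.getD (7 * b.1.val + b.2.1.val) []) (W0.getD (7 * b.2.2.1.val + b.2.2.2.val) [])) (U27.getD n [])) =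
    true := by
  simp only [crL_eq, gt_sm smW0]
  ((try (rewrite [Cfsg.Agent.LsF.f9352fb_16.2, Cfsg.Agent.LsF.f9352fb_17.2, Cfsg.Agent.LsF.nadd_pat, Cfsg.Agent.LsF.nmul_pat, Cfsg.Agent.LsF.all_eq, Cfsg.Agent.LsF.range_eq, Cfsg.Agent.LsF.getD_eq])); decide +kernel)

theorem chkD : ((List.range 27).all fun n => (List.range 27).all fun m =>
    Nat.beq (tfL (D27.getD n []) (U27.getD m [])) (bif Nat.beq n m then 1 else 0)) = true := by
  simp only [tfL_eq, gt_sm (show sm D27 = true by decide +kernel), gt_sm (show sm U27 = true by decide +kernel)]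
  decide +kernel

/-- generators of the 8-dimensional space -/
def B8 : List Q := (beta% delta% lq269454d670 fun a b _ _ _ i _ _ _ _ _ _ =>
 (a (b 0<|b 1<|b 2 3)<|a (b 0<|b 1<|b 3 2)<|a (b 0<|b 1<|b 2 4)<|a (b 0<|b 1<|b 4 2)<|a (b 0<|b 1<|b 2 5)<|a (b 0<|b 1<|b 5 2)<|a (b 0<|b 1<|b 3
 4)<|a (b 0<|b 1<|b 3 5)<|i))

noncomputable def E8L : List (List ℕ) :=
  (by
  refine (?fq9014 : ((pk61l (fun i1 => (pk61l (fun i2 => (pk61d (nat_lit 3) 
    (nat_lit 0x49288c2d944b64428384472088291c0e462141c21830000a0800210401000c088061051800000084080c1187000000810040048210d8800200000021000000000000000041104000000000000000040860) i2)) (Nat.mul (nat_lit 27) i1) (Nat.mul (nat_lit 27) (Nat.succ i1)) List.nil)) (nat_lit 0) (nat_lit 8) List.nil) : List (List ℕ))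
    = ?xq9014 → (List (List ℕ))) ?hq9014; (case hq9014 => (set_option maxRecDepth 1000000 in set_option simprocs false in conv => lhs; reduce; dsimp only)); intro _; exact ?xq9014 : List (List ℕ))

noncomputable def F7 : List (List ℕ) :=
  (by
  refine (?fq9015 : ((pk61l (fun i1 => (pk61l (fun i2 => (pk61d (nat_lit 3) 
    (nat_lit 0x49228a29182e469929a2a124c41950190c7226db6216e30418618233034e365310b72211301949a25c8d14d049c2d32e08cb4c921325345900a6ca65c70346310869a64b8e3603) i2)) (Nat.mul (nat_lit 27) i1) (Nat.mul (nat_lit 27) (Nat.succ i1)) List.nil)) (nat_lit 0) (nat_lit 7) List.nil) : List (List ℕ))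
    = ?xq9015 → (List (List ℕ))) ?hq9015; (case hq9015 => (set_option maxRecDepth 1000000 in set_option simprocs false in conv => lhs; reduce; dsimp only)); intro _; exact ?xq9015 : List (List ℕ))

noncomputable def C49 : List (List ℕ) :=
  (by
  refine (?fq9016 : ((pk61l (fun i1 => (pk61l (fun i2 => (pk61d (nat_lit 3) 
    (nat_lit 0x2e18482c104088432088c1002636d390a49a2e18480000008114580230000808c844250b7036622c10408114580000000806d001b0000646931094da8843200230000806d000000024b2e04914416dc70488c1000808c801b00024b2e00000000000000000002636d344250b06469349144100000000000000000090a49a7036621094da6dc704000000000000000000) i2)) (Nat.mul (nat_lit 8) i1) (Nat.mul (nat_lit 8) (Nat.succ i1)) List.nil)) (nat_lit 0) (nat_lit 49) List.nil) : List (List ℕ))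
    = ?xq9016 → (List (List ℕ))) ?hq9016; (case hq9016 => (set_option maxRecDepth 1000000 in set_option simprocs false in conv => lhs; reduce; dsimp only)); intro _; exact ?xq9016 : List (List ℕ))

private theorem all27 {f g : ℕ → Bool} (h : ∀ n < 27, f n = g n) : (List.range 27).all f = (List.range 27).all g := by
  rw [Bool.eq_iff_iff, List.all_eq_true, List.all_eq_true]
  exact forall₂_congr fun n hn => by rw [h n (List.mem_range.1 hn)]

private theorem eqE (a b c d e : List ℕ) : eqL (addL (addL a b) (smulL 4 (addL c d))) e = (List.range 27).all fun n =>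
    Nat.beq (((gt a n + gt b n) % 5 + 4 * ((gt c n + gt d n) % 5) % 5) % 5) (gt e n) :=
  all27 fun n hn => by simp only [addL, smulL, gt_map hn]

theorem chkE : ((List.range 8).all fun n =>
    let b := B8.getD n (0, 0, 0, 0)
    dis b && eqL (addL (addL (W0.getD (7 * b.1.val + b.2.1.val) []) (W0.getD (7 * b.2.2.1.val + b.2.2.2.val) []))
      (smulL 4 (addL (W0.getD (7 * b.1.val + b.2.2.1.val) []) (W0.getD (7 * b.2.1.val + b.2.2.2.val) []))))
      (E8L.getD n [])) = true := by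
  simp only [eqE]
  ((try (rewrite [Cfsg.Agent.LsF.f9352fb_1.2, Cfsg.Agent.LsF.f9352fb_15.2, Cfsg.Agent.LsF.nadd_pat, Cfsg.Agent.LsF.nmul_pat, Cfsg.Agent.LsF.nmod_pat, Cfsg.Agent.LsF.and_eq, Cfsg.Agent.LsF.all_eq, Cfsg.Agent.LsF.range_eq, Cfsg.Agent.LsF.getD_eq])); decide +kernel)

/-- linear combination of the generators -/
noncomputable def lin8 (c : List ℕ) : List ℕ :=
  addL (addL (addL (smulL (c.getD 0 0) (E8L.getD 0 [])) (smulL (c.getD 1 0) (E8L.getD 1 [])))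
    (addL (smulL (c.getD 2 0) (E8L.getD 2 [])) (smulL (c.getD 3 0) (E8L.getD 3 []))))
    (addL (addL (smulL (c.getD 4 0) (E8L.getD 4 [])) (smulL (c.getD 5 0) (E8L.getD 5 [])))
    (addL (smulL (c.getD 6 0) (E8L.getD 6 [])) (smulL (c.getD 7 0) (E8L.getD 7 []))))

private theorem eqW (a b d c : List ℕ) : eqL a (addL (addL b d) (lin8 c)) = (List.range 27).all fun n =>
    Nat.beq (gt a n) (((gt b n + gt d n) % 5 +
      (((c.getD 0 0 * gt (E8L.getD 0 []) n % 5 + c.getD 1 0 * gt (E8L.getD 1 []) n % 5) % 5 + (c.getD 2 0 * gt (E8L.getD 2 [])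
      n % 5 + c.getD 3 0 * gt (E8L.getD 3 []) n % 5) % 5) % 5 + ((c.getD 4 0 * gt (E8L.getD 4 []) n % 5 + c.getD 5 0 * gt
      (E8L.getD 5 []) n % 5) % 5 + (c.getD 6 0 * gt (E8L.getD 6 []) n % 5 + c.getD 7 0 * gt (E8L.getD 7 []) n % 5) % 5) % 5) %
      5) % 5) :=
  all27 fun n hn => by simp only [lin8, addL, smulL, gt_map hn]

theorem chkW : ((List.range 7).all fun i => (List.range 7).all fun j => Nat.beq i j ||
    eqL (W2.getD (7 * i + j) []) (addL (addL (F7.getD i []) (F7.getD j [])) (lin8 (C49.getD (7 * i + j) [])))) =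
    true := by
  simp only [eqW]
  ((try (rewrite [Cfsg.Agent.LsF.f9352fb_15.2, Cfsg.Agent.LsF.nadd_pat, Cfsg.Agent.LsF.nmul_pat, Cfsg.Agent.LsF.nmod_pat, Cfsg.Agent.LsF.or_eq, Cfsg.Agent.LsF.all_eq, Cfsg.Agent.LsF.range_eq, Cfsg.Agent.LsF.getD_eq])); decide +kernel)

theorem chkN : ((List.range 7).all fun j => (List.range 27).any fun s => (List.range 27).any fun t =>
    !(Nat.beq (gt (V2.getD 0 []) s * gt (V0.getD j []) t % 5) (gt (V2.getD 0 []) t * gt (V0.getD j []) s % 5))) =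
    true := by decide +kernel

end Cfsg.Agent.H879.E6
end

-- part: H879/E6/ModelB
section
/-!
# S5927, S5928: the explicit tuples over a field of characteristic 5 (helper879)
-/

set_option autoImplicit false

namespace Cfsg.Agent.H879.E6

open Cfsg.Lie Cfsg.Agent.H952.F4 Cfsg.Agent.H952.F4.Jord Cfsg.Agent.H879.E6.Uniq
open Cfsg.Agent.ChevalleyStructure.E6Min.Tables Cfsg.Agent.ChevalleyStructure.E6Min.Basic

theorem all_range {n : ℕ} {f : ℕ → Bool} (h : (List.range n).all f = true) {i : ℕ} (hi : i < n) : f i = true :=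
  List.all_eq_true.1 h i (List.mem_range.2 hi)

theorem sum_range7 (f : ℕ → ℕ) : ((List.range 7).map f).sum = ∑ i : Fin 7, f i.val := by
  rw [Fin.sum_univ_eq_sum_range (fun i => f i) 7]
  rfl

variable (F : Type*) [Field F]

/-- the tuple of a list -/
def tv (V : List (List ℕ)) : Fin 7 → I27 → F := fun i => vec F (V.getD i.val [])

variable {F} [CharP F 5]

theorem tv_ww {V W : List (List ℕ)} (h : chkT V W = true) (i j : Fin 7) :
    ww (tv F V) i j = vec F (W.getD (7 * i.val + j.val) []) := by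
  unfold chkT at h
  simp only [Bool.and_eq_true] at h
  have h1 := all_range (all_range h.1.1.1 i.isLt) j.isLt
  rw [← vec_eq (F := F) h1, ← vec_cr]
  rfl

theorem tup_of_chk {V W : List (List ℕ)} (h : chkT V W = true) : Tup (tv F V) 1 := by
  have hw := tv_ww (F := F) h
  unfold chkT at h
  simp only [Bool.and_eq_true] at h
  obtain ⟨⟨⟨h1, h2⟩, h3⟩, h4⟩ := h
  constructor
  · intro i
    have e := hw i i
    rw [vec_zero (all_range h2 i.isLt)] at e
    unfold ww at e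
    rw [cr_self] at e
    exact (smul_eq_zero.1 e).resolve_left two_ne
  · funext ⟨k, i, j⟩
    have hn : nb k.val i.val j.val < 27 := by unfold nb; omega
    have e := all_range h3 hn
    rw [Nat.beq_eq, sum_range7] at e
    rw [Finset.sum_apply]
    simp only [tv, vec]
    rw [← Nat.cast_sum, ← cast_mod, e]
    exact Nat.cast_zero
  · intro i j k hij hik hjk
    have e := all_range (all_range (all_range h4 i.isLt) j.isLt) k.isLt
    have f : ∀ a b : Fin 7, a ≠ b → Nat.beq a.val b.val = false := by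
      intro a b hab
      rw [← Bool.not_eq_true, Nat.beq_eq]
      exact fun hh => hab (Fin.ext hh)
    rw [f i j hij, f i k hik, f j k hjk, Bool.false_or, Bool.false_or, Bool.false_or, Nat.beq_eq] at e
    have hc : cr (tv F V j) (tv F V k) = ww (tv F V) j k := rfl
    rw [hc, hw j k]
    change tf (vec F (V.getD i.val [])) _ = 1
    rw [vec_tf, e, Nat.cast_one]

variable (F) in
/-- the first tuple -/
noncomputable def q0 : Fin 7 → I27 → F := tv F V0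

variable (F) in
/-- the second tuple -/
noncomputable def q2 : Fin 7 → I27 → F := tv F V2

theorem q0_tup : Tup (q0 F) 1 := tup_of_chk chk0

theorem q2_tup : Tup (q2 F) 1 := tup_of_chk chk2

/-- the index of the basis -/
def bq (n : Fin 27) : Q := B27.getD n.val (0, 0, 0, 0)

theorem uu_bq (n : Fin 27) : uu (q0 F) (bq n) = vec F (U27.getD n.val []) := by
  have h := all_range chkB n.isLt
  rw [← vec_eq (F := F) h, ← vec_cr, ← tv_ww chk0, ← tv_ww chk0]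
  rfl

theorem tf_dual (m n : Fin 27) : tf (vec F (D27.getD m.val [])) (uu (q0 F) (bq n)) = if m = n then 1 else 0 := by
  have h := all_range (all_range chkD m.isLt) n.isLt
  rw [Nat.beq_eq] at h
  rw [uu_bq, vec_tf, h]
  by_cases hmn : m = n
  · subst hmn
    rw [if_pos rfl, Nat.beq_refl, cond_true, Nat.cast_one]
  · have : Nat.beq m.val n.val = false := by
      rw [← Bool.not_eq_true, Nat.beq_eq]
      exact fun hh => hmn (Fin.ext hh)
    rw [if_neg hmn, this, cond_false, Nat.cast_zero]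

/-- the trace form as a linear map -/
def tfl (x : I27 → F) : (I27 → F) →ₗ[F] F where
  toFun y := tf x y
  map_add' y z := tf_add_right x y z
  map_smul' c y := tf_smul_right c x y

theorem linInd : LinearIndependent F fun n : Fin 27 => uu (q0 F) (bq n) := by
  rw [Fintype.linearIndependent_iff]
  intro g hg m
  have h := congrArg (tfl (vec F (D27.getD m.val []))) hg
  rw [map_sum, map_zero] at h
  simp only [map_smul, smul_eq_mul] at h
  have e : ∀ n : Fin 27, tfl (vec F (D27.getD m.val [])) (uu (q0 F) (bq n)) = if m = n then 1 else 0 := tf_dual m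
  simp only [e, mul_ite, mul_one, mul_zero, Finset.sum_ite_eq, Finset.mem_univ, if_true] at h
  exact h

variable (F) in
/-- the basis of the vectors `u` -/
noncomputable def bas27 : Module.Basis (Fin 27) F (I27 → F) :=
  basisOfLinearIndependentOfCardEqFinrank (linInd (F := F)) (by
    rw [Module.finrank_fintype_fun_eq_card]
    decide)

theorem bas27_apply (n : Fin 27) : bas27 F n = uu (q0 F) (bq n) := by
  unfold bas27
  rw [coe_basisOfLinearIndependentOfCardEqFinrank]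

/-- the combinations of the `w_ij` -/
def ee (v : Fin 7 → I27 → F) (a b c d : Fin 7) : I27 → F := ww v a b + ww v c d - (ww v a c + ww v b d)

theorem ee_B8 (n : ℕ) (hn : n < 8) : ∃ a b c d : Fin 7, dis (a, b, c, d) = true ∧
    vec F (E8L.getD n []) = ee (q0 F) a b c d := by
  have h := all_range chkE hn
  rw [Bool.and_eq_true] at h
  refine ⟨_, _, _, _, h.1, ?_⟩
  rw [← vec_eq (F := F) h.2, vec_add, vec_add, vec_smul, vec_add, ← tv_ww chk0, ← tv_ww chk0, ← tv_ww chk0,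
    ← tv_ww chk0]
  have h4 : ((4 : ℕ) : F) = -1 := by
    have := five_zero (F := F)
    push_cast
    linear_combination this
  rw [h4, neg_one_smul, ← sub_eq_add_neg]
  rfl

/-- modulo the combinations of the first tuple, the second `w_ij` are sums -/
theorem w2_red (φ : (I27 → F) →ₗ[F] F) (hφ : ∀ a b c d : Fin 7, dis (a, b, c, d) = true → φ (ee (q0 F) a b c d) = 0) :
    ∃ f : Fin 7 → F, ∀ a b : Fin 7, a ≠ b → φ (ww (q2 F) a b) = f a + f b := by
  refine ⟨fun a => φ (vec F (F7.getD a.val [])), fun a b hab => ?_⟩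
  have h := all_range (all_range chkW a.isLt) b.isLt
  have h1 : Nat.beq a.val b.val = false := by
    rw [← Bool.not_eq_true, Nat.beq_eq]
    exact fun hh => hab (Fin.ext hh)
  rw [h1, Bool.false_or] at h
  have he : ∀ n, n < 8 → φ (vec F (E8L.getD n [])) = 0 := by
    intro n hn
    obtain ⟨a, b, c, d, h2, h3⟩ := ee_B8 (F := F) n hn
    rw [h3, hφ _ _ _ _ h2]
  have hl : ∀ c, φ (vec F (lin8 c)) = 0 := by
    intro c
    unfold lin8
    simp only [vec_add, vec_smul, map_add, map_smul, he 0 (by norm_num), he 1 (by norm_num), he 2 (by norm_num),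
      he 3 (by norm_num), he 4 (by norm_num), he 5 (by norm_num), he 6 (by norm_num), he 7 (by norm_num), smul_zero,
      add_zero]
  have e : ww (q2 F) a b = _ := tv_ww chk2 a b
  rw [e, vec_eq (F := F) h, vec_add, vec_add, map_add, map_add, hl, add_zero]

/-- the first vector of the second tuple is not proportional to a vector of the first tuple -/
theorem q2_ne (j : Fin 7) (c : F) : q2 F 0 ≠ c • q0 F j := by
  intro h
  have h1 := all_range chkN j.isLt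
  rw [List.any_eq_true] at h1
  obtain ⟨s, hs, h1⟩ := h1
  rw [List.any_eq_true] at h1
  obtain ⟨t, ht, h1⟩ := h1
  rw [List.mem_range] at hs ht
  rw [Bool.not_eq_true', ← Bool.not_eq_true, Nat.beq_eq] at h1
  apply h1
  have co : ∀ n, n < 27 → ((gt (V2.getD 0 []) n : ℕ) : F) = c * ((gt (V0.getD j.val []) n : ℕ) : F) := by
    intro n hn
    have := congrFun h (⟨n / 9, by omega⟩, ⟨n / 3 % 3, by omega⟩, ⟨n % 3, by omega⟩)
    simp only [q2, q0, tv, vec, Pi.smul_apply, smul_eq_mul] at this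
    have e : nb (n / 9) (n / 3 % 3) (n % 3) = n := by unfold nb; omega
    rw [e] at this
    exact this
  have k : ((gt (V2.getD 0 []) s * gt (V0.getD j.val []) t : ℕ) : F) =
      ((gt (V2.getD 0 []) t * gt (V0.getD j.val []) s : ℕ) : F) := by
    rw [Nat.cast_mul, Nat.cast_mul, co s hs, co t ht]
    ring
  exact (CharP.natCast_eq_natCast F 5).1 k

end Cfsg.Agent.H879.E6
end

-- part: H879/E6/Conj
section
/-!
# S5927, S5928: every tuple is the image of the explicit tuple (helper879)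

`exists_conj` : for a tuple `v` with constant `c ≠ 0` in characteristic 5 there is a similitude of the cubic form with
factor `c` which maps the explicit tuple to `v`.
-/

set_option autoImplicit false

namespace Cfsg.Agent.H879.E6

open Cfsg.Lie Cfsg.Agent.H952.F4 Cfsg.Agent.H952.F4.Jord Cfsg.Agent.H879.E6.Uniq
open Cfsg.Agent.ChevalleyStructure.E6Min.Tables Cfsg.Agent.ChevalleyStructure.E6Min.Basic

section
variable {F : Type*} [Field F]

/-- the trilinear form is nondegenerate -/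
theorem tri_nondeg {x : I27 → F} (h : ∀ y z, tf (cr x y) z = 0) : x = 0 := by
  have h1 : ∀ y, cr x y = 0 := fun y => tf_nondeg (h y)
  have h2 : x = tr1 x • u0 F := by
    have := cr_u0 x
    rw [cr_comm, h1] at this
    exact (sub_eq_zero.1 this.symm).symm
  set y : I27 → F := Pi.single (0, 0, 1) 1 with hy
  have hty : tr1 y = 0 := by
    simp only [tr1, Matrix.trace, mat3, Fin.sum_univ_three, hy, _root_.Fin.isValue, _root_.Matrix.diag_apply, _root_.Matrix.of_apply, _root_.ne_eq, _root_.Prod.mk.injEq, _root_.zero_ne_one, _root_.and_false, _root_.not_false_eq_true, _root_.Pi.single_eq_of_ne, _root_.one_ne_zero, _root_.and_true, _root_.add_zero, _root_.Fin.reduceEq, _root_.and_self]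
  have h3 := h1 y
  rw [h2, cr_smul_left, cr_u0, hty, zero_smul, zero_sub] at h3
  have h4 := congrFun h3 (0, 0, 1)
  simp [hy] at h4
  rw [h2, h4, zero_smul]

theorem tfl_apply (x y : I27 → F) : tfl x y = tf x y := rfl

/-- the trilinear form as a linear map -/
def L3 : (I27 → F) →ₗ[F] (I27 → F) →ₗ[F] (I27 → F) →ₗ[F] F :=
  LinearMap.mk₂ F (fun x y => tfl (cr x y))
    (fun x x' y => LinearMap.ext fun z => by
      rw [LinearMap.add_apply, tfl_apply, tfl_apply, tfl_apply, cr_add_left, tf_add_left])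
    (fun c x y => LinearMap.ext fun z => by
      rw [LinearMap.smul_apply, tfl_apply, tfl_apply, cr_smul_left, tf_smul_left, smul_eq_mul])
    (fun x y y' => LinearMap.ext fun z => by
      rw [LinearMap.add_apply, tfl_apply, tfl_apply, tfl_apply, cr_add_right, tf_add_left])
    (fun c x y => LinearMap.ext fun z => by
      rw [LinearMap.smul_apply, tfl_apply, tfl_apply, cr_smul_right, tf_smul_left, smul_eq_mul])

theorem L3_apply (x y z : I27 → F) : L3 x y z = tf (cr x y) z := rfl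

/-- two trilinear forms which agree on a basis -/
theorem tri_ext {ι : Type*} (b : Module.Basis ι F (I27 → F)) (e : (I27 → F) →ₗ[F] (I27 → F)) (c : F)
    (h : ∀ i j k, tf (cr (e (b i)) (e (b j))) (e (b k)) = c * tf (cr (b i) (b j)) (b k)) (x y z : I27 → F) :
    tf (cr (e x) (e y)) (e z) = c * tf (cr x y) z := by
  have h1 : ∀ i j, (L3 (e (b i)) (e (b j))).comp e = c • L3 (b i) (b j) := fun i j => b.ext fun k => h i j k
  have h2 : ∀ i y z, tf (cr (e (b i)) (e y)) (e z) = c * tf (cr (b i) y) z := by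
    intro i y z
    have : ((L3 (e (b i))).comp e).flip (e z) = c • (L3 (b i)).flip z := by
      refine b.ext fun j => ?_
      have := LinearMap.congr_fun (h1 i j) z
      exact this
    exact LinearMap.congr_fun this y
  have h3 : ∀ x y z, tf (cr (e x) (e y)) (e z) = c * tf (cr x y) z := by
    intro x y z
    have : ((L3.comp e).flip (e y)).flip (e z) = c • (L3.flip y).flip z := by
      refine b.ext fun i => ?_
      exact h2 i y z
    exact LinearMap.congr_fun this x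
  exact h3 x y z

end

section
variable {F : Type*} [Field F] [CharP F 5] {v : Fin 7 → I27 → F} {c : F}

theorem q0_eq (i : Fin 7) : uu (q0 F) (vv i) = q0 F i := by
  have := (q0_tup (F := F)).cr_ww_share i (i + 1) (i + 2)
  rw [(q0_tup (F := F)).tri _ _ _ (Good.n1 i) (Good.n2 i) (Good.n3 i), one_smul] at this
  exact this

omit [CharP F 5] in
theorem uu_vv (h : Tup v c) (i : Fin 7) : uu v (vv i) = c • v i := by
  have := h.cr_ww_share i (i + 1) (i + 2)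
  rw [h.tri _ _ _ (Good.n1 i) (Good.n2 i) (Good.n3 i)] at this
  exact this

/-- **Conjugation**: every tuple is the image of the explicit one. -/
theorem exists_conj (h : Tup v c) (hc : c ≠ 0) : ∃ e : (I27 → F) ≃ₗ[F] (I27 → F),
    (∀ x y z, tf (cr (e x) (e y)) (e z) = c * tf (cr x y) z) ∧ (∀ i, e (q0 F i) = v i) ∧
      ∀ q : Q, e (uu (q0 F) q) = c⁻¹ • uu v q := by
  let e : (I27 → F) →ₗ[F] (I27 → F) := (bas27 F).constr F fun n => c⁻¹ • uu v (bq n)
  have he : ∀ n, e (bas27 F n) = c⁻¹ • uu v (bq n) := fun n => Module.Basis.constr_basis _ _ _ _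
  have key : ∀ x y z : Q, tf (cr (c⁻¹ • uu v x) (c⁻¹ • uu v y)) (c⁻¹ • uu v z) = c * t3 (q0 F) x y z := by
    intro x y z
    have := t3_eq two_ne h q0_tup x y z
    rw [cr_smul_left, cr_smul_right, tf_smul_left, tf_smul_left, tf_smul_right]
    change c⁻¹ * (c⁻¹ * (c⁻¹ * t3 v x y z)) = _
    rw [this]
    field_simp
  have htri : ∀ x y z, tf (cr (e x) (e y)) (e z) = c * tf (cr x y) z := by
    refine tri_ext (bas27 F) e c fun i j k => ?_
    rw [he, he, he, key, bas27_apply, bas27_apply, bas27_apply]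
    rfl
  have hinj : Function.Injective e := by
    rw [← LinearMap.ker_eq_bot, LinearMap.ker_eq_bot']
    intro x hx
    refine tri_nondeg fun y z => ?_
    have := htri x y z
    rw [hx, cr_zero_left, tf_zero_left] at this
    exact (mul_eq_zero.1 this.symm).resolve_left hc
  let e' : (I27 → F) ≃ₗ[F] (I27 → F) := LinearEquiv.ofInjectiveEndo e hinj
  have he' : ∀ x, e' x = e x := fun x => rfl
  have hu : ∀ q : Q, e (uu (q0 F) q) = c⁻¹ • uu v q := by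
    intro q
    refine sub_eq_zero.1 (tri_nondeg fun y z => ?_)
    -- on the basis
    have hb : ∀ i j, L3 (e (uu (q0 F) q) - c⁻¹ • uu v q) (e (bas27 F i)) (e (bas27 F j)) = 0 := by
      intro i j
      rw [map_sub, LinearMap.sub_apply, LinearMap.sub_apply, L3_apply, L3_apply, htri, he, he, key, bas27_apply,
        bas27_apply]
      exact sub_self _
    have hb2 : ∀ i, (L3 (e (uu (q0 F) q) - c⁻¹ • uu v q) (e (bas27 F i))).comp e = 0 := fun i =>
      (bas27 F).ext fun j => hb i j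
    have hb3 : ∀ w, ((L3 (e (uu (q0 F) q) - c⁻¹ • uu v q)).flip (e w)).comp e = 0 := fun w =>
      (bas27 F).ext fun i => LinearMap.congr_fun (hb2 i) w
    have := LinearMap.congr_fun (hb3 (e'.symm z)) (e'.symm y)
    change L3 (e (uu (q0 F) q) - c⁻¹ • uu v q) (e (e'.symm y)) (e (e'.symm z)) = 0 at this
    have hy : e (e'.symm y) = y := e'.apply_symm_apply y
    have hz : e (e'.symm z) = z := e'.apply_symm_apply z
    rw [hy, hz] at this
    exact this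
  refine ⟨e', htri, fun i => ?_, hu⟩
  have := hu (vv i)
  rw [q0_eq, uu_vv h, smul_smul, inv_mul_cancel₀ hc, one_smul] at this
  exact this

end

end Cfsg.Agent.H879.E6
end

private theorem dce_c9af65fb54e0 : _root_.True := by
  try have : _root_.True := by simp only [_root_.Cfsg.Agent.H879.E6.nb.eq_1]
  try have : _root_.True := by simp only [_root_.Cfsg.Agent.H879.E6.crL.eq_1]
  try have : _root_.True := by simp only [_root_.Cfsg.Agent.H879.E6.crc.eq_2]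
  try have : _root_.True := by simp only [_root_.Cfsg.Agent.H879.E6.smulL.eq_1]
  try have : _root_.True := by simp only [_root_.Cfsg.Agent.H879.E6.Uniq.Good.bas.eq_1]
  try have : _root_.True := by simp only [_root_.Cfsg.Agent.H879.E6.ww.eq_1]
  try have : _root_.True := by simp only [_root_.Cfsg.Agent.H879.E6.Uniq.chk.eq_1]
  try have : _root_.True := by simp only [_root_.Cfsg.Agent.H879.E6.Uniq.chk.eq_def]
  try have : _root_.True := by simp only [_root_.Cfsg.Agent.H879.E6.vec.eq_1]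
  try have : _root_.True := by simp only [_root_.Cfsg.Agent.H879.E6.Uniq.chk.eq_3]
  try have : _root_.True := by simp only [_root_.Cfsg.Agent.H879.E6.Uniq.act.eq_1]
  try have : _root_.True := by simp only [_root_.Cfsg.Agent.H879.E6.crc.eq_1]
  try have : _root_.True := by simp only [_root_.Cfsg.Agent.H879.E6.Uniq.qb.eq_1]
  try have : _root_.True := by simp only [_root_.Cfsg.Agent.H879.E6.Uniq.chk1.eq_1]
  try have : _root_.True := by simp only [_root_.Cfsg.Agent.H879.E6.Uniq.chk1.eq_def]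
  try have : _root_.True := by simp only [_root_.Cfsg.Agent.H879.E6.addL.eq_1]
  try have : _root_.True := by simp only [_root_.Cfsg.Agent.H879.E6.tfL.eq_1]
  try have : _root_.True := by simp only [_root_.Cfsg.Agent.H879.E6.q2.eq_1]
  try have : _root_.True := by simp only [_root_.Cfsg.Agent.H879.E6.prd2.eq_1]
  try have : _root_.True := by simp only [_root_.Cfsg.Agent.H879.E6.Uniq.chk1.eq_2]
  try have : _root_.True := by simp only [_root_.Cfsg.Agent.H879.E6.Uniq.reps.eq_1]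
  try have : _root_.True := by simp only [_root_.Cfsg.Agent.H879.E6.Uniq.chk1.eq_3]
  try have : _root_.True := by simp only [_root_.Cfsg.Agent.H879.E6.adj2.eq_1]
  try have : _root_.True := by simp only [_root_.Cfsg.Agent.H879.E6.Uniq.tb.eq_1]
  try have : _root_.True := by simp only [_root_.Cfsg.Agent.H879.E6.Uniq.dis.eq_1]
  try have : _root_.True := by simp only [_root_.Cfsg.Agent.H879.E6.t3.eq_1]
  try have : _root_.True := by simp only [_root_.Cfsg.Agent.H879.E6.Uniq.chk.eq_2]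
  try have : _root_.True := by simp only [_root_.Cfsg.Agent.H879.E6.tv.eq_1]
  try have : _root_.True := by simp only [_root_.Cfsg.Agent.H879.E6.q0.eq_1]
  try have : _root_.True := by simp only [_root_.Cfsg.Agent.H879.E6.crc.eq_3]
  exact _root_.True.intro
end

-- part: H882/E6Five
section
prune_inst 0x18000000000040000000020040000000000004080000402000000000000010000800c000000000000000200000000000000000000000000000000000000100000000000000000000000000000000000000000000000004000000000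
set_option linter.all false
open scoped Cfsg.Agent.FastGrp

/-!
# S5927, case `n = 5`, `p = 3` or `p ≥ 7` (helper882)
-/

set_option autoImplicit false

namespace Cfsg.Agent.H882.E6Five

open Cfsg Cfsg.Lie Module
open Cfsg.Agent.H952.F4 (ev es matRep sh cr tf MaxAlt v0 v1 c3 z5)
open Cfsg.Agent.H952.F4.Spec (Ax ax mul_act act_inj mem_es)

universe u

/-! ### the axes -/

section axes

variable {F V : Type*} [Field F] [AddCommGroup V] [Module F V]

/-- the sum of the five other axes -/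
def sop (ρ : Representation F ↥(alternatingGroup (Fin 5)) V) : V →ₗ[F] V :=
  ρ c3 - ρ v1 + ρ c3 ∘ₗ ρ v1 - ρ c3 ∘ₗ ρ c3 ∘ₗ ρ v1 + ρ c3 ∘ₗ ρ c3

theorem sop_apply (ρ : Representation F ↥(alternatingGroup (Fin 5)) V) (x : V) :
    sop ρ x = ρ c3 x - ρ v1 x + ρ c3 (ρ v1 x) - ρ c3 (ρ c3 (ρ v1 x)) + ρ c3 (ρ c3 x) := rfl

/-- `sop` acts on the sign component of the dihedral group, with square 5 -/
theorem sop_mem {ρ : Representation F ↥(alternatingGroup (Fin 5)) V} {x : V} (hz : ρ z5 x = x) (hv : ρ v0 x = -x) :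
    ρ z5 (sop ρ x) = sop ρ x ∧ ρ v0 (sop ρ x) = -sop ρ x ∧ sop ρ (sop ρ x) = (5 : F) • x := by
  have A := ax hz hv
  simp only [sop_apply]
  generalize ρ v1 x = b at A ⊢
  generalize ρ c3 x = c at A ⊢
  generalize ρ c3 b = d at A ⊢
  generalize ρ c3 c = e at A ⊢
  generalize ρ c3 d = f at A ⊢
  refine ⟨?_, ?_, ?_⟩
  · rw [map_add, map_sub, map_add, map_sub, A.zc, A.zb, A.zd, A.zf, A.ze]
    abel
  · rw [map_add, map_sub, map_add, map_sub, A.pc, A.pb, A.pd, A.pf, A.pe]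
    abel
  · simp only [map_add, map_sub, map_neg, A.qb, A.qc, A.qd, A.qe, A.qf, A.ca, A.cb, A.cc, A.cd, A.ce, A.cf]
    module

/-- M1 for one vector -/
theorem axes (h2 : (2 : F) ≠ 0) (ρ : Representation F ↥(alternatingGroup (Fin 5)) V) {x : V} (hx0' : x ≠ 0)
    (hz : ρ z5 x = x) (hv : ρ v0 x = -x) {t : F} (hlam0 : sop ρ x = (2 * t - 1) • x) :
    ∃ X : Fin 3 → V, t * t = t + 1 ∧ (∀ i, X i ≠ 0) ∧ x = X 1 + t • X 2 ∧
      (ρ v0 (X 0) = X 0 ∧ ρ v0 (X 1) = -X 1 ∧ ρ v0 (X 2) = -X 2) ∧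
      (ρ v1 (X 0) = -X 0 ∧ ρ v1 (X 1) = X 1 ∧ ρ v1 (X 2) = -X 2) ∧
      (ρ c3 (X 0) = X 1 ∧ ρ c3 (X 1) = X 2 ∧ ρ c3 (X 2) = X 0) ∧
      (2 : F) • ρ z5 (X 0) = (t - 1) • X 0 - t • X 1 + X 2 ∧
      (2 : F) • ρ z5 (X 1) = t • X 0 + X 1 + (t - 1) • X 2 ∧
      (2 : F) • ρ z5 (X 2) = -X 0 + (t - 1) • X 1 + t • X 2 := by
  have A := ax hz hv
  obtain ⟨lam, hlt⟩ : ∃ lam : F, lam = 2 * t - 1 := ⟨_, rfl⟩
  rw [← hlt, sop_apply] at hlam0
  generalize ρ v1 x = b at A hlam0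
  generalize ρ c3 x = c at A hlam0
  generalize ρ c3 b = d at A hlam0
  generalize ρ c3 c = e at A hlam0
  generalize ρ c3 d = f at A hlam0
  have hlam : c - b + d - f + e = lam • x := hlam0
  have hlam' : -c - x - d + e - f = lam • b := by
    have h := congrArg (ρ v1) hlam
    rw [map_add, map_sub, map_add, map_sub, A.qc, A.qb, A.qd, A.qf, A.qe, map_smul, A.qa] at h
    rw [← h]
    abel
  have R1 : e - f = t • (x + b) := by
    have h : (2 : F) • (e - f) = (2 : F) • (t • (x + b)) := by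
      rw [smul_smul, show (2 : F) * t = lam + 1 by rw [hlt]; ring, add_smul, one_smul, smul_add, ← hlam, ← hlam']
      rw [two_smul]
      abel
    exact smul_right_injective V h2 h
  have R2 : c + d = (t - 1) • (x - b) := by
    have h : (2 : F) • (c + d) = (2 : F) • ((t - 1) • (x - b)) := by
      rw [smul_smul, show (2 : F) * (t - 1) = lam - 1 by rw [hlt]; ring, sub_smul, one_smul, smul_sub, ← hlam, ← hlam']
      rw [two_smul]
      abel
    exact smul_right_injective V h2 h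
  have R3 : x - b = t • (c + d) := by
    have h := congrArg (ρ c3) R1
    rwa [map_sub, map_smul, map_add, A.ce, A.cf, A.ca, A.cb] at h
  have R4 : c - d = t • (e + f) := by
    have h := congrArg (ρ c3) R3
    rwa [map_sub, map_smul, map_add, A.ca, A.cb, A.cc, A.cd] at h
  have hadd : x + b ≠ 0 := by
    intro h
    rw [h, smul_zero, sub_eq_zero] at R1
    have h3 := congrArg (ρ c3) R1
    rw [A.ce, A.cf] at h3
    rw [← h3, ← two_smul F] at h
    exact hx0' ((smul_eq_zero.1 h).resolve_left h2)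
  have hsub : x - b ≠ 0 := by
    intro h
    rw [h, smul_zero] at R2
    have h3 : ρ c3 (x + b) = ρ c3 0 := by rw [map_add, A.ca, A.cb, R2, map_zero]
    exact hadd (act_inj h3)
  have htt : t * t = t + 1 := by
    have h : (t * (t - 1) - 1) • (x - b) = 0 := by
      rw [sub_smul, one_smul, mul_smul, ← R2, ← R3, sub_self]
    have h3 := (smul_eq_zero.1 h).resolve_right hsub
    linear_combination h3
  have h22 : (2 : F) * (1 / 2) = 1 := by field_simp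
  -- the vectors
  refine ⟨![(1 / 2 : F) • (e + f), (1 / 2 : F) • (x + b), (1 / 2 : F) • (c + d)], htt, ?_, ?_, ?_, ?_, ?_, ?_, ?_, ?_⟩
  · have hh : (1 / 2 : F) ≠ 0 := by
      intro h
      rw [h, mul_zero] at h22
      exact zero_ne_one h22
    have hc : ρ c3 (x + b) = c + d := by rw [map_add, A.ca, A.cb]
    have he : ρ c3 (c + d) = e + f := by rw [map_add, A.cc, A.cd]
    have hcd : c + d ≠ 0 := by
      intro h
      rw [h] at hc
      exact hadd (act_inj (hc.trans (map_zero (ρ c3)).symm))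
    have hef : e + f ≠ 0 := by
      intro h
      rw [h] at he
      exact hcd (act_inj (he.trans (map_zero (ρ c3)).symm))
    intro i
    fin_cases i
    · exact smul_ne_zero hh hef
    · exact smul_ne_zero hh hadd
    · exact smul_ne_zero hh hcd
  · simp only [Matrix.cons_val_one, Matrix.cons_val]
    rw [smul_comm, ← R3, ← smul_add]
    rw [show x + b + (x - b) = (2 : F) • x by module, smul_smul, mul_comm, h22, one_smul]
  · simp only [Matrix.cons_val_zero, Matrix.cons_val_one, Matrix.cons_val]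
    rw [map_smul, map_smul, map_smul, map_add, map_add, map_add, A.pe, A.pf, A.pa, A.pb, A.pc, A.pd]
    refine ⟨by rw [add_comm], by rw [← smul_neg, neg_add], by rw [← smul_neg, neg_add, add_comm]⟩
  · simp only [Matrix.cons_val_zero, Matrix.cons_val_one, Matrix.cons_val]
    rw [map_smul, map_smul, map_smul, map_add, map_add, map_add, A.qe, A.qf, A.qa, A.qb, A.qc, A.qd]
    refine ⟨by rw [← smul_neg, neg_add, add_comm], by rw [add_comm], by rw [← smul_neg, neg_add]⟩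
  · simp only [Matrix.cons_val_zero, Matrix.cons_val_one, Matrix.cons_val]
    rw [map_smul, map_smul, map_smul, map_add, map_add, map_add, A.ce, A.cf, A.ca, A.cb, A.cc, A.cd]
    exact ⟨rfl, rfl, rfl⟩
  all_goals
    have H0 : e + f = (2 : F) • ((1 / 2 : F) • (e + f)) := by rw [smul_smul, h22, one_smul]
    have H1 : x + b = (2 : F) • ((1 / 2 : F) • (x + b)) := by rw [smul_smul, h22, one_smul]
    have H2 : c + d = (2 : F) • ((1 / 2 : F) • (c + d)) := by rw [smul_smul, h22, one_smul]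
    simp only [Matrix.cons_val_zero, Matrix.cons_val_one, Matrix.cons_val]
    generalize (1 / 2 : F) • (e + f) = X0 at H0 ⊢
    generalize (1 / 2 : F) • (x + b) = X1 at H1 ⊢
    generalize (1 / 2 : F) • (c + d) = X2 at H2 ⊢
    rw [H1] at R1
    rw [H2] at R3
    rw [H0] at R4
    apply smul_right_injective V h2
    show (2 : F) • _ = (2 : F) • _
    rw [← map_smul]
  · rw [← H0, map_add, A.ze, A.zf]
    linear_combination (norm := module) R4 + H2 - R1 - H0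
  · rw [← H1, map_add, A.za, A.zb]
    linear_combination (norm := module) R3 + H1 + R4 - H2
  · rw [← H2, map_add, A.zc, A.zd]
    linear_combination (norm := module) R3 - H1 + R1 - H0

/-- `c3`, `z5` generate `A₅` -/
theorem closure_eq : Subgroup.closure {z5, c3} = ⊤ := by
  have hx : Equiv.Perm.sign (z5 : Equiv.Perm (Fin 5)) = 1 := Equiv.Perm.mem_alternatingGroup.1 z5.2
  have hy : Equiv.Perm.sign (c3 : Equiv.Perm (Fin 5)) = 1 := Equiv.Perm.mem_alternatingGroup.1 c3.2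
  rw [eq_top_iff]
  intro σ _
  have h1 : (σ : Equiv.Perm (Fin 5)) ∈ Subgroup.closure {(z5 : Equiv.Perm (Fin 5)), (c3 : Equiv.Perm (Fin 5))} := by
    refine H952.F4.Gen.mem_of_star (n := 3) _ ?_ ?_ σ.2
    · rw [Subgroup.closure_le]
      rintro z (rfl | rfl)
      · exact z5.2
      · exact c3.2
    · intro k hk
      have hW : ∀ k : Fin 5, k ≠ 0 → H952.F4.Gen.ev (z5 : Equiv.Perm (Fin 5)) (c3 : Equiv.Perm (Fin 5))
          ((![[], [], [1, 3, 1, 1, 3], [0, 0, 2, 0, 2], [1, 1, 2]] : Fin 5 → List (Fin 4)) k) =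
            Equiv.swap 0 1 * Equiv.swap 0 k := by decide +kernel
      rw [← hW k hk]
      exact H952.F4.Gen.ev_mem (Subgroup.subset_closure (by simp)) (Subgroup.subset_closure (by simp)) _
  have h2 : (Subgroup.closure {z5, c3}).map (alternatingGroup (Fin 5)).subtype =
      Subgroup.closure {(z5 : Equiv.Perm (Fin 5)), (c3 : Equiv.Perm (Fin 5))} := by
    rw [MonoidHom.map_closure, Set.image_pair]
    rfl
  rw [← h2] at h1
  obtain ⟨τ, hτ, h3⟩ := h1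
  rwa [← Subtype.ext h3]

/-- the submodule spanned by the three vectors -/
theorem span_stable (h2 : (2 : F) ≠ 0) {ρ : Representation F ↥(alternatingGroup (Fin 5)) V} {t : F} {X : Fin 3 → V}
    (hc : ρ c3 (X 0) = X 1 ∧ ρ c3 (X 1) = X 2 ∧ ρ c3 (X 2) = X 0)
    (hz0 : (2 : F) • ρ z5 (X 0) = (t - 1) • X 0 - t • X 1 + X 2)
    (hz1 : (2 : F) • ρ z5 (X 1) = t • X 0 + X 1 + (t - 1) • X 2)
    (hz2 : (2 : F) • ρ z5 (X 2) = -X 0 + (t - 1) • X 1 + t • X 2) (g : ↥(alternatingGroup (Fin 5))) :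
    ∀ w ∈ Submodule.span F (Set.range X), ρ g w ∈ Submodule.span F (Set.range X) := by
  have hX : ∀ i, X i ∈ Submodule.span F (Set.range X) := fun i => Submodule.subset_span ⟨i, rfl⟩
  have hstep : ∀ (k : ↥(alternatingGroup (Fin 5))), (∀ i, ρ k (X i) ∈ Submodule.span F (Set.range X)) →
      ∀ w ∈ Submodule.span F (Set.range X), ρ k w ∈ Submodule.span F (Set.range X) := by
    intro k hk w hw
    induction hw using Submodule.span_induction with
    | mem x hx =>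
      obtain ⟨i, rfl⟩ := hx
      exact hk i
    | zero => rw [map_zero]; exact Submodule.zero_mem _
    | add x y _ _ hx hy => rw [map_add]; exact Submodule.add_mem _ hx hy
    | smul a x _ hx => rw [map_smul]; exact Submodule.smul_mem _ _ hx
  have hhalf : ∀ {v : V}, (2 : F) • v ∈ Submodule.span F (Set.range X) → v ∈ Submodule.span F (Set.range X) :=
    fun {v} h => (Submodule.smul_mem_iff _ h2).1 h
  have hcc : ∀ i, ρ c3 (X i) ∈ Submodule.span F (Set.range X) := by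
    intro i
    fin_cases i
    · exact hc.1 ▸ hX 1
    · exact hc.2.1 ▸ hX 2
    · exact hc.2.2 ▸ hX 0
  have hzz : ∀ i, ρ z5 (X i) ∈ Submodule.span F (Set.range X) := by
    intro i
    apply hhalf
    fin_cases i
    · show (2 : F) • ρ z5 (X 0) ∈ _
      rw [hz0]
      exact Submodule.add_mem _ (Submodule.sub_mem _ (Submodule.smul_mem _ _ (hX 0)) (Submodule.smul_mem _ _ (hX 1)))
        (hX 2)
    · show (2 : F) • ρ z5 (X 1) ∈ _
      rw [hz1]
      exact Submodule.add_mem _ (Submodule.add_mem _ (Submodule.smul_mem _ _ (hX 0)) (hX 1))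
        (Submodule.smul_mem _ _ (hX 2))
    · show (2 : F) • ρ z5 (X 2) ∈ _
      rw [hz2]
      exact Submodule.add_mem _ (Submodule.add_mem _ (Submodule.neg_mem _ (hX 0)) (Submodule.smul_mem _ _ (hX 1)))
        (Submodule.smul_mem _ _ (hX 2))
  have hcl := hstep c3 hcc
  have hzl := hstep z5 hzz
  -- inverses : powers
  have hpow : ∀ (k : ↥(alternatingGroup (Fin 5))), (∀ w ∈ Submodule.span F (Set.range X),
      ρ k w ∈ Submodule.span F (Set.range X)) → ∀ (n : ℕ), ∀ w ∈ Submodule.span F (Set.range X),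
      ρ (k ^ n) w ∈ Submodule.span F (Set.range X) := by
    intro k hk n
    induction n with
    | zero => intro w hw; rw [pow_zero, map_one]; exact hw
    | succ n ih => intro w hw; rw [pow_succ, mul_act]; exact ih _ (hk w hw)
  have hg : g ∈ Subgroup.closure {z5, c3} := by rw [closure_eq]; trivial
  induction hg using Subgroup.closure_induction with
  | mem x hx =>
    rcases hx with rfl | rfl
    · exact hzl
    · exact hcl
  | one => intro w hw; rw [map_one]; exact hw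
  | mul x y _ _ hx hy => intro w hw; rw [mul_act]; exact hx _ (hy w hw)
  | inv x _ hx =>
    intro w hw
    have h := hpow x hx (orderOf x - 1) w hw
    rwa [show x ^ (orderOf x - 1) = x⁻¹ by
      rw [eq_inv_iff_mul_eq_one, ← pow_succ, Nat.sub_add_cancel ((orderOf_pos x :)), pow_orderOf_eq_one]] at h

/-- the three vectors are linearly independent -/
theorem linInd (h2 : (2 : F) ≠ 0) {ρ : Representation F ↥(alternatingGroup (Fin 5)) V} {X : Fin 3 → V}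
    (hX : ∀ i, X i ≠ 0) (h0 : ρ v0 (X 0) = X 0 ∧ ρ v0 (X 1) = -X 1 ∧ ρ v0 (X 2) = -X 2)
    (h1' : ρ v1 (X 0) = -X 0 ∧ ρ v1 (X 1) = X 1 ∧ ρ v1 (X 2) = -X 2) : LinearIndependent F X := by
  rw [Fintype.linearIndependent_iff]
  intro g hg
  rw [Fin.sum_univ_three] at hg
  obtain ⟨h00, h01, h02⟩ := h0
  obtain ⟨h10, h11, h12⟩ := h1'
  have e1 := congrArg (ρ v0) hg
  have e2 := congrArg (ρ v1) hg
  simp only [map_add, map_smul, h00, h01, h02, h10, h11, h12, map_zero] at e1 e2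
  have k0 : (2 : F) • (g 0 • X 0) = 0 := by
    linear_combination (norm := module) e1 + hg
  have k1 : (2 : F) • (g 1 • X 1) = 0 := by
    linear_combination (norm := module) e2 + hg
  have k0' := (smul_eq_zero.1 ((smul_eq_zero.1 k0).resolve_left h2)).resolve_right (hX 0)
  have k1' := (smul_eq_zero.1 ((smul_eq_zero.1 k1).resolve_left h2)).resolve_right (hX 1)
  rw [k0', k1', zero_smul, zero_smul, zero_add, zero_add] at hg
  have k2' := (smul_eq_zero.1 hg).resolve_right (hX 2)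
  intro i
  fin_cases i
  · exact k0'
  · exact k1'
  · exact k2'

end axes

/-! ### linear algebra -/

section linalg

variable {K : Type*} [Field K]

/-- a ternary quadratic form over a finite field has a nontrivial zero -/
theorem exists_zero [Finite K] (h2 : (2 : K) ≠ 0) {U : Type*} [AddCommGroup U] [Module K U] [FiniteDimensional K U]
    (h3 : 3 ≤ finrank K U) (Q : U → K) (C : U →ₗ[K] U →ₗ[K] K) (hQ : ∀ x y, Q (x + y) = Q x + Q y + C x y)
    (hs : ∀ (c : K) x, Q (c • x) = c ^ 2 * Q x) : ∃ u : U, u ≠ 0 ∧ Q u = 0 := by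
  classical
  have := Fintype.ofFinite K
  by_contra hne
  push Not at hne
  have hker : ∀ f : U →ₗ[K] K, finrank K U ≤ finrank K ↥(LinearMap.ker f) + 1 := by
    intro f
    have h := LinearMap.finrank_range_add_finrank_ker f
    have h' : finrank K ↥(LinearMap.range f) ≤ 1 := by
      have := Submodule.finrank_le (LinearMap.range f)
      rwa [finrank_self] at this
    omega
  have hself : ∀ x, C x x = 2 * Q x := by
    intro x
    have h := hQ x x
    rw [← two_smul K x, hs] at h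
    linear_combination -h
  obtain ⟨u1, hu1⟩ : ∃ u : U, u ≠ 0 := by
    have : Nontrivial U := Module.nontrivial_of_finrank_pos (R := K) (by omega)
    exact exists_ne 0
  obtain ⟨u2, hu2m, hu2⟩ : ∃ u ∈ LinearMap.ker (C u1), u ≠ 0 := by
    apply Submodule.exists_mem_ne_zero_of_ne_bot
    intro h
    have := hker (C u1)
    rw [h, finrank_bot] at this
    omega
  obtain ⟨u3, hu3m, hu3⟩ : ∃ u ∈ LinearMap.ker (C u1) ⊓ LinearMap.ker (C u2), u ≠ 0 := by
    apply Submodule.exists_mem_ne_zero_of_ne_bot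
    intro h
    have e1 := hker (C u1)
    have e2 := hker (C u2)
    have e3 := Submodule.finrank_sup_add_finrank_inf_eq (LinearMap.ker (C u1)) (LinearMap.ker (C u2))
    rw [h, finrank_bot] at e3
    have e4 := Submodule.finrank_le (LinearMap.ker (C u1) ⊔ LinearMap.ker (C u2))
    omega
  have c12 : C u1 u2 = 0 := LinearMap.mem_ker.1 hu2m
  have c13 : C u1 u3 = 0 := LinearMap.mem_ker.1 hu3m.1
  have c23 : C u2 u3 = 0 := LinearMap.mem_ker.1 hu3m.2
  have q1 := hne u1 hu1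
  have q2 := hne u2 hu2
  have q3 := hne u3 hu3
  obtain ⟨a, b, hab⟩ := FiniteField.exists_root_sum_quadratic (R := K)
    (f := Polynomial.C (Q u1) * Polynomial.X ^ 2 + Polynomial.C 0 * Polynomial.X + Polynomial.C (Q u3))
    (g := Polynomial.C (Q u2) * Polynomial.X ^ 2 + Polynomial.C 0 * Polynomial.X + Polynomial.C 0)
    (Polynomial.degree_quadratic q1) (Polynomial.degree_quadratic q2) (by
      apply FiniteField.odd_card_of_char_ne_two
      intro h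
      have : CharP K 2 := ringChar.of_eq h
      exact h2 (by exact_mod_cast CharP.cast_eq_zero K 2))
  simp only [Polynomial.eval_add, Polynomial.eval_mul, Polynomial.eval_C, Polynomial.eval_pow, Polynomial.eval_X,
    zero_mul, add_zero] at hab
  have hQv : Q (a • u1 + (b • u2 + u3)) = 0 := by
    rw [hQ, hQ, hs, hs]
    simp only [map_add, map_smul, LinearMap.smul_apply, c12, c13, c23, smul_zero, add_zero]
    linear_combination hab
  have hv0 : a • u1 + (b • u2 + u3) ≠ 0 := by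
    intro h
    have h1 := congrArg (fun v => C v u3) h
    simp only [map_add, map_smul, LinearMap.add_apply, LinearMap.smul_apply, c13, c23, smul_zero, zero_add, map_zero,
      LinearMap.zero_apply, hself] at h1
    exact q3 ((mul_eq_zero.1 h1).resolve_left h2)
  exact hne _ hv0 hQv

variable {V : Type*} [AddCommGroup V] [Module K V] [FiniteDimensional K V]

theorem split (S : V →ₗ[K] V) (X : Submodule K V) (hX : ∀ x ∈ X, S x ∈ X) (lam : K)
    (hS : ∀ x ∈ X, S (S x) = (lam * lam) • x) :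
    finrank K ↥X ≤ finrank K ↥(X ⊓ es S lam) + finrank K ↥(X ⊓ es S (-lam)) := by
  let f : ↥X →ₗ[K] V := (S + lam • (LinearMap.id : V →ₗ[K] V)).domRestrict X
  have hf : ∀ x : ↥X, f x = S x + lam • (x : V) := fun x => rfl
  have h := LinearMap.finrank_range_add_finrank_ker f
  have h1 : finrank K ↥(LinearMap.range f) ≤ finrank K ↥(X ⊓ es S lam) := by
    apply Submodule.finrank_mono
    rintro _ ⟨x, rfl⟩
    rw [hf]
    refine ⟨X.add_mem (hX _ x.2) (X.smul_mem _ x.2), mem_es.2 ?_⟩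
    rw [map_add, map_smul, hS _ x.2]
    module
  have h2 : finrank K ↥(LinearMap.ker f) ≤ finrank K ↥(X ⊓ es S (-lam)) := by
    have e : (LinearMap.ker f).map X.subtype ≤ X ⊓ es S (-lam) := by
      rintro _ ⟨x, hx, rfl⟩
      refine ⟨x.2, mem_es.2 ?_⟩
      have hx' : S x + lam • (x : V) = 0 := hx
      show S x = _
      rw [neg_smul]
      exact eq_neg_of_add_eq_zero_left hx'
    rw [← Submodule.finrank_map_subtype_eq]
    exact Submodule.finrank_mono e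
  omega

/-- a space of dimension at most one is detected by a coordinate -/
theorem exists_coord {ι : Type*} [Fintype ι] [Nonempty ι] {Y : Submodule K (ι → K)} (h : finrank K ↥Y ≤ 1) :
    ∃ i : ι, ∀ y ∈ Y, y i = 0 → y = 0 := by
  obtain ⟨⟨v, hvY⟩, hv⟩ := finrank_le_one_iff.1 h
  by_cases hv0 : v = 0
  · refine ⟨Classical.arbitrary ι, fun y hy _ => ?_⟩
    obtain ⟨c, hc⟩ := hv ⟨y, hy⟩
    have hc' : c • v = y := congrArg Subtype.val hc
    rw [← hc', hv0, smul_zero]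
  · obtain ⟨i, hi⟩ := Function.ne_iff.1 hv0
    refine ⟨i, fun y hy hyi => ?_⟩
    obtain ⟨c, hc⟩ := hv ⟨y, hy⟩
    have hc' : c • v = y := congrArg Subtype.val hc
    rw [← hc', Pi.smul_apply, smul_eq_mul] at hyi
    rw [← hc', (mul_eq_zero.1 hyi).resolve_right hi, zero_smul]

/-- an involution of determinant 1 of a 2-dimensional space is central -/
theorem central_of_sq (h2 : (2 : K) ≠ 0) {M : Matrix (Fin 2) (Fin 2) K} (hM : M * M = 1) (hd : M.det = 1)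
    (N : Matrix (Fin 2) (Fin 2) K) : M * N = N * M := by
  have h1 : M = M.adjugate := by
    have e := Matrix.mul_adjugate M
    rw [hd, one_smul] at e
    calc M = M * (M * M.adjugate) := by rw [e, mul_one]
      _ = M.adjugate := by rw [← mul_assoc, hM, one_mul]
  have hs : M = (M 0 0) • (1 : Matrix (Fin 2) (Fin 2) K) := by
    have e := Matrix.adjugate_fin_two M
    rw [← h1] at e
    have e00 := congrFun (congrFun e 0) 0
    have e01 := congrFun (congrFun e 0) 1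
    have e10 := congrFun (congrFun e 1) 0
    simp only [Matrix.of_apply, Matrix.cons_val_zero, Matrix.cons_val_one, Matrix.cons_val', Matrix.cons_val_fin_one] at e00 e01 e10
    have f01 : M 0 1 = 0 := by
      have : (2 : K) * M 0 1 = 0 := by linear_combination e01
      exact (mul_eq_zero.1 this).resolve_left h2
    have f10 : M 1 0 = 0 := by
      have : (2 : K) * M 1 0 = 0 := by linear_combination e10
      exact (mul_eq_zero.1 this).resolve_left h2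
    ext i j
    (revert i j; simp only [f01, f10, e00, _root_.Fin.forall_fin_succ, Fin.isValue, _root_.Matrix.smul_apply, _root_.smul_eq_mul, _root_.Fin.succ_zero_eq_one, _root_.IsEmpty.forall_iff, _root_.and_true, _root_.Matrix.one_apply_eq, _root_.mul_one, Nat.reduceAdd, _root_.ne_eq, _root_.zero_ne_one, _root_.not_false_eq_true, _root_.Matrix.one_apply_ne, _root_.MulZeroClass.mul_zero, _root_.and_self, _root_.Fin.succ_ne_zero])
  rw [hs, smul_mul_assoc, one_mul, mul_smul_comm, mul_one]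

end linalg

/-! ### homomorphisms of `A₅` -/

section hom

/-- a homomorphism of `A₅` which is trivial on a nontrivial element is trivial -/
theorem hom_trivial {G : Type*} [Group G] (θ : ↥(alternatingGroup (Fin 5)) →* G) {a : ↥(alternatingGroup (Fin 5))}
    (ha : a ≠ 1) (h : θ a = 1) (b : ↥(alternatingGroup (Fin 5))) : θ b = 1 := by
  have hs : IsSimpleGroup ↥(alternatingGroup (Fin 5)) := alternatingGroup.isSimpleGroup (by simp)
  rcases hs.eq_bot_or_eq_top_of_normal θ.ker inferInstance with hk | hk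
  · have : a ∈ θ.ker := h
    rw [hk, Subgroup.mem_bot] at this
    exact absurd this ha
  · have : b ∈ θ.ker := by rw [hk]; trivial
    exact this

/-- `A₅` has no nontrivial homomorphism to `GL₂`, characteristic not 2 -/
theorem hom_gl_two {K : Type*} [Field K] (h2 : (2 : K) ≠ 0) (θ : ↥(alternatingGroup (Fin 5)) →* GL (Fin 2) K)
    (b : ↥(alternatingGroup (Fin 5))) : θ b = 1 := by
  -- the determinant is trivial
  have hcomm : (c3 * v0 * c3⁻¹ * v0⁻¹ : ↥(alternatingGroup (Fin 5))) ≠ 1 := by decide +kernel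
  have hdet : ∀ a, Matrix.GeneralLinearGroup.det (θ a) = 1 := by
    intro a
    have h := hom_trivial ((Matrix.GeneralLinearGroup.det).comp θ) hcomm (by
      simp only [MonoidHom.comp_apply, map_mul, map_inv]
      rw [mul_comm (Matrix.GeneralLinearGroup.det (θ c3)), mul_inv_cancel_right, mul_inv_cancel]) a
    exact h
  have hd : ((θ v0 : GL (Fin 2) K) : Matrix (Fin 2) (Fin 2) K).det = 1 := by
    have := congrArg (fun u : Kˣ => (u : K)) (hdet v0)
    simpa using this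
  have hsq : ((θ v0 : GL (Fin 2) K) : Matrix (Fin 2) (Fin 2) K) * ((θ v0 : GL (Fin 2) K) : Matrix (Fin 2) (Fin 2) K)
      = 1 := by
    rw [← Units.val_mul, ← map_mul, H952.F4.Cases.Five.v0_sq, map_one, Units.val_one]
  have hc : θ c3 * θ v0 = θ v0 * θ c3 := by
    apply Units.ext
    rw [Units.val_mul, Units.val_mul]
    exact (central_of_sq h2 hsq hd _).symm
  refine hom_trivial θ hcomm ?_ b
  rw [map_mul, map_mul, map_mul, map_inv, map_inv, hc, mul_inv_cancel_right, mul_inv_cancel]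

end hom

open Cfsg.Agent.ChevalleyStructure.E6Min.Tables Cfsg.Agent.ChevalleyStructure.E6Min.Basic
open Cfsg.Agent.H952.F4.Jord

/-! ### totally singular subspaces -/

section ts

variable {E : Type*} [Field E]

theorem ts_span {X : Fin 3 → (I27 → E)} {t : E} (h2 : (2 : E) ≠ 0) (h5 : (5 : E) ≠ 0) (ht : t * t = t + 1)
    (h12p : sh (X 1 + t • X 2) = 0) (h12m : sh (X 1 - t • X 2) = 0)
    (h20p : sh (X 2 + t • X 0) = 0) (h20m : sh (X 2 - t • X 0) = 0)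
    (h01p : sh (X 0 + t • X 1) = 0) (h01m : sh (X 0 - t • X 1) = 0) :
    H163.E6.TS (Submodule.span E (Set.range X)) := by
  have ht0 : t ≠ 0 := by
    rintro rfl
    rw [mul_zero, zero_add] at ht
    exact zero_ne_one ht
  have key : ∀ {x y : I27 → E}, sh (x + t • y) = 0 → sh (x - t • y) = 0 → cr x y = 0 ∧ sh x = -(t + 1) • sh y := by
    intro x y hp hm
    rw [sh_add, sh_smul, cr_smul_right] at hp
    rw [sub_eq_add_neg, ← neg_smul, sh_add, sh_smul, cr_smul_right] at hm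
    have e1 : (2 : E) • (t • cr x y) = 0 := by
      linear_combination (norm := module) hp - hm
    have e2 : (2 : E) • (sh x + (t * t) • sh y) = 0 := by
      linear_combination (norm := module) hp + hm
    refine ⟨(smul_eq_zero.1 ((smul_eq_zero.1 e1).resolve_left h2)).resolve_left ht0, ?_⟩
    have e3 := (smul_eq_zero.1 e2).resolve_left h2
    rw [ht] at e3
    linear_combination (norm := module) e3
  obtain ⟨c12, s1⟩ := key h12p h12m
  obtain ⟨c20, s2⟩ := key h20p h20m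
  obtain ⟨c01, s0⟩ := key h01p h01m
  -- the adjoints of the three vectors
  have hn : (4 * t + 3) * (7 - 4 * t) = 5 := by linear_combination (-16 : E) * ht
  have hn0 : 4 * t + 3 ≠ 0 := by
    intro h
    rw [h, zero_mul] at hn
    exact h5 hn.symm
  have z0 : sh (X 0) = 0 := by
    have e : (2 * (4 * t + 3)) • sh (X 0) = 0 := by
      have e1 : sh (X 0) = (-(t + 1) * (-(t + 1) * -(t + 1))) • sh (X 0) := by
        rw [mul_smul, mul_smul, ← s2, ← s1, ← s0]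
      have e2 : (-(t + 1) * (-(t + 1) * -(t + 1))) = -(8 * t + 5) := by
        linear_combination (-t - 4 : E) * ht
      rw [e2] at e1
      linear_combination (norm := module) e1
    exact (smul_eq_zero.1 e).resolve_left (mul_ne_zero h2 hn0)
  have z2 : sh (X 2) = 0 := by rw [s2, z0, smul_zero]
  have z1 : sh (X 1) = 0 := by rw [s1, z2, smul_zero]
  have hsh : ∀ i, sh (X i) = 0 := by
    intro i
    fin_cases i
    · exact z0
    · exact z1
    · exact z2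
  have hcr : ∀ i j, cr (X i) (X j) = 0 := by
    have c10 : cr (X 1) (X 0) = 0 := by rw [cr_comm]; exact c01
    have c21 : cr (X 2) (X 1) = 0 := by rw [cr_comm]; exact c12
    have c02 : cr (X 0) (X 2) = 0 := by rw [cr_comm]; exact c20
    have c00 : cr (X 0) (X 0) = 0 := by rw [cr_self, z0, smul_zero]
    have c11 : cr (X 1) (X 1) = 0 := by rw [cr_self, z1, smul_zero]
    have c22 : cr (X 2) (X 2) = 0 := by rw [cr_self, z2, smul_zero]
    intro i j
    fin_cases i <;> fin_cases j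
    · exact c00
    · exact c01
    · exact c02
    · exact c10
    · exact c11
    · exact c12
    · exact c20
    · exact c21
    · exact c22
  have hz : ∀ y : I27 → E, cr (0 : I27 → E) y = 0 := by
    intro y
    have := cr_smul_left (0 : E) 0 y
    rwa [zero_smul, zero_smul] at this
  have hcr1 : ∀ i, ∀ y ∈ Submodule.span E (Set.range X), cr y (X i) = 0 := by
    intro i y hy
    induction hy using Submodule.span_induction with
    | mem x hx =>
      obtain ⟨j, rfl⟩ := hx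
      exact hcr j i
    | zero => exact hz _
    | add x y _ _ hx hy => rw [cr_add_left, hx, hy, add_zero]
    | smul a x _ hx => rw [cr_smul_left, hx, smul_zero]
  have hcr2 : ∀ y ∈ Submodule.span E (Set.range X), ∀ x ∈ Submodule.span E (Set.range X), cr x y = 0 := by
    intro y hy x hx
    induction hx using Submodule.span_induction with
    | mem x hx =>
      obtain ⟨j, rfl⟩ := hx
      rw [cr_comm]
      exact hcr1 j y hy
    | zero => exact hz _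
    | add x y _ _ hx hy => rw [cr_add_left, hx, hy, add_zero]
    | smul a x _ hx => rw [cr_smul_left, hx, smul_zero]
  refine ⟨fun x hx => ?_, fun x hx y hy => hcr2 y hy x hx⟩
  have h : (2 : E) • sh x = 0 := by rw [← cr_self]; exact hcr2 x hx x hx
  exact (smul_eq_zero.1 h).resolve_left h2

end ts

/-! ### the main lemma -/

section key

open Cfsg.Agent.ChevalleyStructure.E6Min.Adjoint
open Cfsg.Agent.H163.E6 (V V' Tab scal TS)
open Cfsg.Agent.H952.F4.Cases.Five (inv5 inv3 v0_sq v0_ne c3_cube c3_ne z5_five z5_ne gen235 powo ne_one_of_order ev_two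
  ev_three ev_five)

variable {E : Type u} [Field E]

/-- `V'` is the dual of `V` -/
theorem dual_bot (tf_act : ∀ (g : ↥(Zgrp E)) (x y : I27 → E), tf (V E g x) (V' E g y) = tf x y) {A : Type*} [Group A]
    (θ : A →* ↥(Zgrp E)) (h2 : Representation.invariants (MonoidHom.comp (V' E) θ) = ⊥) :
    Representation.invariants ((Representation.dual (MonoidHom.comp (V E) θ : Representation E A (I27 → E)) :)) = ⊥ := by
  let Φ : (I27 → E) →ₗ[E] Module.Dual E (I27 → E) :=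
    LinearMap.mk₂ E (fun y x => tf x y) (fun y y' x => tf_add_right x y y') (fun c y x => tf_smul_right c x y)
      (fun y x x' => tf_add_left x x' y) (fun c y x => tf_smul_left c x y)
  have hΦ : ∀ y x, Φ y x = tf x y := fun y x => rfl
  have hinj : Function.Injective Φ := by
    rw [← LinearMap.ker_eq_bot, eq_bot_iff]
    intro y hy
    rw [LinearMap.mem_ker] at hy
    rw [Submodule.mem_bot]
    apply tf_nondeg
    intro x
    rw [tf_comm, ← hΦ, hy, LinearMap.zero_apply]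
  have hsurj : Function.Surjective Φ :=
    (LinearMap.injective_iff_surjective_of_finrank_eq_finrank (by exact (Subspace.dual_finrank_eq).symm)).1 hinj
  rw [eq_bot_iff]
  intro f hf
  obtain ⟨y, rfl⟩ := hsurj f
  have hy : y ∈ Representation.invariants (MonoidHom.comp (V' E) θ) := by
    rw [Representation.mem_invariants]
    intro g
    have h0 : ∀ x, tf x (V' E (θ g) y) = tf x y := by
      intro x
      have e1 : V E (θ g) (V E (θ g)⁻¹ x) = x := by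
        rw [← Module.End.mul_apply, ← map_mul, mul_inv_cancel, map_one]
        rfl
      have e2 := tf_act (θ g) (V E (θ g)⁻¹ x) y
      rw [e1] at e2
      rw [e2]
      have e3 := (Representation.mem_invariants _ _).1 hf g
      have e4 := LinearMap.congr_fun e3 x
      rw [Representation.dual_apply, Module.Dual.transpose_apply, LinearMap.comp_apply, MonoidHom.comp_apply, map_inv,
        hΦ, hΦ] at e4
      exact e4
    have h3 : V' E (θ g) y - y = 0 := by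
      apply tf_nondeg
      intro x
      rw [tf_comm]
      have e5 := h0 x
      have e6 : tf x (V' E (θ g) y - y) = tf x (V' E (θ g) y) - tf x y := by
        rw [sub_eq_add_neg, ← neg_one_smul E y, tf_add_right, tf_smul_right]
        ring
      rw [e6, e5, sub_self]
    exact sub_eq_zero.1 h3
  rw [h2, Submodule.mem_bot] at hy
  rw [hy, map_zero]
  exact Submodule.zero_mem _

theorem ev_one_one : ev (1 : Module.End E (I27 → E)) 1 = 27 := by
  have h : Module.End.eigenspace (1 : Module.End E (I27 → E)) 1 = ⊤ := by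
    rw [eq_top_iff]
    intro x _
    rw [Module.End.mem_eigenspace_iff, one_smul]
    rfl
  rw [ev, h, finrank_top, Module.finrank_fintype_fun_eq_card]
  decide

/-- the axes: `A₅` with `ev V (2) = 11` and `ev V (5) = 5` or `7` over a finite field containing the roots of
`t * t = t + 1`: there is a totally singular 3-dimensional submodule spanned by the vectors of `Spec.axes` -/
theorem key_axes [Finite E] (two_ne : (2 : E) ≠ 0) (five_ne : (5 : E) ≠ 0)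
    (ev_dual : ∀ g : ↥(Zgrp E), ev (V' E g) 1 = ev (V E g) 1)
    (sh_act : ∀ (g : ↥(Zgrp E)) (x : I27 → E), sh (V E g x) = V' E g (sh x))
    {t : E} (ht : t * t = t + 1) (θ : ↥(alternatingGroup (Fin 5)) →* ↥(Zgrp E))
    (g2 : ev (V E (θ v0)) 1 = 11) (g5 : ev (V E (θ z5)) 1 = 5 ∨ ev (V E (θ z5)) 1 = 7) :
    ∃ (t' : E) (u : I27 → E) (X : Fin 3 → (I27 → E)), t' * t' = t' + 1 ∧ u ≠ 0 ∧ V E (θ z5) u = u ∧
      V E (θ v0) u = -u ∧ u = X 1 + t' • X 2 ∧ V E (θ v1) u = X 1 - t' • X 2 ∧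
      (∀ i, X i ≠ 0) ∧ LinearIndependent E X ∧
      (V E (θ v0) (X 0) = X 0 ∧ V E (θ v0) (X 1) = -X 1 ∧ V E (θ v0) (X 2) = -X 2) ∧
      (V E (θ v1) (X 0) = -X 0 ∧ V E (θ v1) (X 1) = X 1 ∧ V E (θ v1) (X 2) = -X 2) ∧
      (V E (θ c3) (X 0) = X 1 ∧ V E (θ c3) (X 1) = X 2 ∧ V E (θ c3) (X 2) = X 0) ∧
      (2 : E) • V E (θ z5) (X 0) = (t' - 1) • X 0 - t' • X 1 + X 2 ∧
      (2 : E) • V E (θ z5) (X 1) = t' • X 0 + X 1 + (t' - 1) • X 2 ∧
      (2 : E) • V E (θ z5) (X 2) = -X 0 + (t' - 1) • X 1 + t' • X 2 ∧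
      TS (Submodule.span E (Set.range X)) ∧
      ∀ a, ∀ w ∈ Submodule.span E (Set.range X), V E (θ a) w ∈ Submodule.span E (Set.range X) := by
  let ρ : Representation E ↥(alternatingGroup (Fin 5)) (I27 → E) := MonoidHom.comp (V E) θ
  let ρ' : Representation E ↥(alternatingGroup (Fin 5)) (I27 → E) := MonoidHom.comp (V' E) θ
  have hρ : ∀ a, ρ a = V E (θ a) := fun a => rfl
  have hρ' : ∀ a, ρ' a = V' E (θ a) := fun a => rfl
  have five_ne' : ((5 : ℕ) : E) ≠ 0 := by exact_mod_cast five_ne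
  rw [← hρ] at g2
  rw [← hρ] at g5
  have hdim : finrank E (I27 → E) = 27 := by
    rw [Module.finrank_fintype_fun_eq_card]
    decide
  -- the dihedral group
  have m2 : ev (ρ v0) (-1) = 16 := by
    have h := H952.F4.Eig.ev_neg two_ne (ρ v0)
    have e : ρ v0 * ρ v0 = 1 := by rw [← map_mul, v0_sq, map_one]
    rw [e, ev_one_one] at h
    omega
  have d1 := H952.F4.Eig.dihedral two_ne ρ (z := z5) (s := v0) (m := 5) (by decide) five_ne' z5_five v0_sq inv5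
    (Or.inr rfl)
  have d2 := H952.F4.Eig.dihedral two_ne ρ' (z := z5) (s := v0) (m := 5) (by decide) five_ne' z5_five v0_sq inv5
    (Or.inl rfl)
  have g2' : ev (ρ' v0) 1 = ev (ρ v0) 1 := ev_dual (θ v0)
  have g5' : ev (ρ' z5) 1 = ev (ρ z5) 1 := ev_dual (θ z5)
  rw [hdim, m2] at d1
  rw [hdim, g2', g5', g2] at d2
  have hX5 : 5 ≤ finrank E ↥(es (ρ z5) 1 ⊓ es (ρ v0) (-1)) := by omega
  have hY1 : finrank E ↥(es (ρ' z5) 1 ⊓ es (ρ' v0) 1) ≤ 1 := by (clear * - g5 d2; omega)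
  -- the eigenspaces of `sop`
  have hmem : ∀ {v : I27 → E}, v ∈ es (ρ z5) 1 ⊓ es (ρ v0) (-1) ↔ ρ z5 v = v ∧ ρ v0 v = -v := by
    intro v
    rw [Submodule.mem_inf, mem_es, mem_es, one_smul, neg_smul, one_smul]
  obtain ⟨t', ht', hU⟩ : ∃ t' : E, t' * t' = t' + 1 ∧
      3 ≤ finrank E ↥(es (ρ z5) 1 ⊓ es (ρ v0) (-1) ⊓ es (sop ρ) (2 * t' - 1)) := by
    have h := split (sop ρ) (es (ρ z5) 1 ⊓ es (ρ v0) (-1)) (fun v hv => by
      rw [hmem] at hv ⊢
      exact ⟨(sop_mem hv.1 hv.2).1, (sop_mem hv.1 hv.2).2.1⟩) (2 * t - 1) (fun v hv => by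
      rw [hmem] at hv
      rw [(sop_mem hv.1 hv.2).2.2]
      congr 1
      linear_combination (-4 : E) * ht)
    by_cases h3 : 3 ≤ finrank E ↥(es (ρ z5) 1 ⊓ es (ρ v0) (-1) ⊓ es (sop ρ) (2 * t - 1))
    · exact ⟨t, ht, h3⟩
    · refine ⟨1 - t, by linear_combination ht, ?_⟩
      rw [show 2 * (1 - t) - 1 = -(2 * t - 1) by ring]
      omega
  -- the quadratic form
  obtain ⟨i, hi⟩ := exists_coord hY1
  obtain ⟨⟨u, hu⟩, hu0, huQ⟩ := exists_zero two_ne hU (fun u => sh (u : I27 → E) i)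
    (LinearMap.mk₂ E (fun u v => cr (u : I27 → E) (v : I27 → E) i)
      (fun u u' v => by rw [Submodule.coe_add, cr_add_left]; rfl)
      (fun c u v => by rw [Submodule.coe_smul, cr_smul_left]; rfl)
      (fun u v v' => by rw [Submodule.coe_add, cr_add_right]; rfl)
      (fun c u v => by rw [Submodule.coe_smul, cr_smul_right]; rfl))
    (fun u v => by rw [Submodule.coe_add, sh_add]; rfl)
    (fun c u => by rw [Submodule.coe_smul, sh_smul]; rfl)
  have hu0' : u ≠ 0 := fun h => hu0 (Subtype.ext h)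
  obtain ⟨hu1, hu2⟩ := hmem.1 hu.1
  have hu3 : sop ρ u = (2 * t' - 1) • u := mem_es.1 hu.2
  have hshu : sh u = 0 := by
    apply hi _ _ huQ
    rw [Submodule.mem_inf, mem_es, mem_es, one_smul, hρ', hρ', ← sh_act, ← sh_act, ← hρ, ← hρ, hu1, hu2]
    refine ⟨rfl, ?_⟩
    rw [← neg_one_smul E u, sh_smul]
    norm_num
  have hshg : ∀ (g : ↥(alternatingGroup (Fin 5))) (v : I27 → E), sh v = 0 → sh (ρ g v) = 0 := by
    intro g v hv
    rw [hρ, sh_act, hv, map_zero]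
  -- the three-dimensional module
  obtain ⟨X, -, hX0, hxX, ⟨a0, a1, a2⟩, ⟨b0, b1, b2⟩, hc, hz0, hz1, hz2⟩ := axes two_ne ρ hu0' hu1 hu2 hu3
  obtain ⟨hc0, hc1, hc2⟩ := hc
  have hv1 : ρ v1 u = X 1 - t' • X 2 := by
    rw [hxX, map_add, map_smul, b1, b2, smul_neg, ← sub_eq_add_neg]
  refine ⟨t', u, X, ht', hu0', hu1, hu2, hxX, hv1, hX0, linInd two_ne hX0 ⟨a0, a1, a2⟩ ⟨b0, b1, b2⟩, ⟨a0, a1, a2⟩,
    ⟨b0, b1, b2⟩, ⟨hc0, hc1, hc2⟩, hz0, hz1, hz2, ?_, ?_⟩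
  · have k1 : sh (X 1 + t' • X 2) = 0 := by rw [← hxX]; exact hshu
    have k2 : sh (X 1 - t' • X 2) = 0 := by
      have := hshg v1 _ k1
      rwa [map_add, map_smul, b1, b2, smul_neg, ← sub_eq_add_neg] at this
    have k3 : sh (X 2 + t' • X 0) = 0 := by
      have := hshg c3 _ k1
      rwa [map_add, map_smul, hc1, hc2] at this
    have k4 : sh (X 2 - t' • X 0) = 0 := by
      have := hshg c3 _ k2
      rwa [map_sub, map_smul, hc1, hc2] at this
    have k5 : sh (X 0 + t' • X 1) = 0 := by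
      have := hshg c3 _ k3
      rwa [map_add, map_smul, hc0, hc2] at this
    have k6 : sh (X 0 - t' • X 1) = 0 := by
      have := hshg c3 _ k4
      rwa [map_sub, map_smul, hc0, hc2] at this
    exact ts_span two_ne five_ne ht' k1 k2 k3 k4 k5 k6
  · intro a w hw
    exact span_stable two_ne ⟨hc0, hc1, hc2⟩ hz0 hz1 hz2 a w hw

/-- the main lemma, over a field containing the roots of `t * t = t + 1` -/
theorem key [Finite E] (p : ℕ) [hpf : Fact p.Prime] [CharP E p] (hp : p = 3 ∨ 7 ≤ p) (T : Tab p E)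
    (ev_dual : ∀ g : ↥(Zgrp E), ev (V' E g) 1 = ev (V E g) 1)
    (sh_act : ∀ (g : ↥(Zgrp E)) (x : I27 → E), sh (V E g x) = V' E g (sh x))
    (tf_act : ∀ (g : ↥(Zgrp E)) (x y : I27 → E), tf (V E g x) (V' E g y) = tf x y)
    (had : ∀ g : ↥(Zgrp E), ad E g = 1 → ∃ c : Eˣ, c ^ 3 = 1 ∧ (g : GL I27 E) = scal c)
    {t : E} (ht : t * t = t + 1) (θ : ↥(alternatingGroup (Fin 5)) →* ↥(Zgrp E))
    (h1 : Representation.invariants (MonoidHom.comp (V E) θ) = ⊥)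
    (h2 : Representation.invariants (MonoidHom.comp (V' E) θ) = ⊥) :
    ∃ W : Submodule E (I27 → E), finrank E ↥W = 3 ∧ TS W ∧ ∀ a, ∀ w ∈ W, V E (θ a) w ∈ W := by
  have cast_ne : ∀ {m : ℕ}, m.Prime → p ≠ m → (m : E) ≠ 0 := by
    intro m hm h
    rw [Ne, CharP.cast_eq_zero_iff E p m]
    exact fun h1 => h ((Nat.prime_dvd_prime_iff_eq hpf.out hm).1 h1)
  have p2 : p ≠ 2 := by omega
  have p5 : p ≠ 5 := by omega
  have two_ne : (2 : E) ≠ 0 := by exact_mod_cast cast_ne Nat.prime_two p2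
  have five_ne' : ((5 : ℕ) : E) ≠ 0 := cast_ne Nat.prime_five p5
  have five_ne : (5 : E) ≠ 0 := by exact_mod_cast five_ne'
  -- nontriviality
  have hne : ∀ a, a ≠ 1 → θ a ≠ 1 := by
    intro a ha h
    have h3 : ∀ b, θ b = 1 := hom_trivial θ ha h
    have h4 : (fun _ => (1 : E) : I27 → E) ∈ Representation.invariants (MonoidHom.comp (V E) θ) := by
      rw [Representation.mem_invariants]
      intro g
      rw [MonoidHom.comp_apply, h3, map_one]
      rfl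
    rw [h1, Submodule.mem_bot] at h4
    have h5 := congrFun h4 (0, 0, 0)
    exact one_ne_zero h5
  let ρ : Representation E ↥(alternatingGroup (Fin 5)) (I27 → E) := MonoidHom.comp (V E) θ
  let ρ' : Representation E ↥(alternatingGroup (Fin 5)) (I27 → E) := MonoidHom.comp (V' E) θ
  have hρ : ∀ a, ρ a = V E (θ a) := fun a => rfl
  have hρ' : ∀ a, ρ' a = V' E (θ a) := fun a => rfl
  have hdim : finrank E (I27 → E) = 27 := by
    rw [Module.finrank_fintype_fun_eq_card]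
    decide
  -- dimensions of the eigenspaces
  have s2 : θ v0 * θ v0 = 1 := by rw [← map_mul, v0_sq, map_one]
  have s3 : θ c3 ^ 3 = 1 := by rw [← map_pow, c3_cube, map_one]
  have s5 : θ z5 ^ 5 = 1 := by rw [← map_pow, z5_five, map_one]
  have r3 : ∃ g, g * θ c3 * g⁻¹ = (θ c3)⁻¹ := by
    obtain ⟨s, -, -, hs⟩ := inv3
    exact ⟨θ s, by rw [← map_inv, ← map_mul, ← map_mul, hs, map_inv]⟩
  have r5 : ∃ g, g * θ z5 * g⁻¹ = (θ z5)⁻¹ := ⟨θ v0, by rw [← map_inv, ← map_mul, ← map_mul, inv5, map_inv]⟩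
  have had3 : ad E (θ c3) ≠ 1 := by
    intro h
    obtain ⟨c, hc3, hc⟩ := had _ h
    obtain ⟨g, hg⟩ := r3
    have e1 : ((θ c3)⁻¹ : ↥(Zgrp E)) = θ c3 := by
      rw [← hg, mul_inv_eq_iff_eq_mul]
      apply Subtype.ext
      rw [Subgroup.coe_mul, Subgroup.coe_mul, hc]
      apply Units.ext
      show ((g : GL I27 E) : Matrix I27 I27 E) * algebraMap E _ (c : E) =
        algebraMap E _ (c : E) * ((g : GL I27 E) : Matrix I27 I27 E)
      exact (Algebra.commutes _ _).symm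
    have e2 : θ c3 * θ c3 = 1 := by
      nth_rewrite 1 [← e1]
      exact inv_mul_cancel _
    have e3 : θ c3 = 1 := by
      have := s3
      rwa [pow_succ, pow_two, e2, one_mul] at this
    exact hne c3 c3_ne e3
  have f3 : 9 ≤ ev (ρ c3) 1 := by
    by_cases h3 : p = 3
    · subst h3
      have h := H952.F4.Eig.le_mul_ev 3 (T := ρ c3) (by rw [← map_pow, c3_cube, map_one])
      rw [hdim] at h
      omega
    · have h := T.three h3 (θ c3) had3 s3
      have h' := T.three_real h3 (θ c3) had3 s3 r3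
      rw [hρ]
      omega
  have f5 := T.five p5 (θ z5) (hne _ z5_ne) s5 r5
  have f2 := T.two p2 (θ v0) (hne _ v0_ne) s2
  rw [← hρ] at f2 f5
  obtain ⟨x, y, hgen, hx, hy, hxy⟩ := gen235 H952.F4.Gen.gen5
  have hsc := H952.F4.Scott.scott ρ hgen
  have hd := dual_bot tf_act θ h2
  have hsc' : ev (ρ x) 1 + ev (ρ y) 1 + ev (ρ (x * y)) 1 ≤ 27 := by
    have e1 : ρ.invariants = ⊥ := h1
    have e2 : ρ.dual.invariants = ⊥ := hd
    rw [e1, e2, finrank_bot, finrank_bot, hdim] at hsc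
    exact hsc
  rw [ev_two (ρ := ρ) (g := x) (by rw [← pow_two]; exact powo hx) (ne_one_of_order hx (by norm_num)),
    ev_three (ρ := ρ) (g := y) (powo hy) (ne_one_of_order hy (by norm_num)),
    ev_five (ρ := ρ) (g := x * y) (powo hxy) (ne_one_of_order hxy (by norm_num))] at hsc'
  have g2 : ev (ρ v0) 1 = 11 := by omega
  have g5 : ev (ρ z5) 1 = 5 ∨ ev (ρ z5) 1 = 7 := by omega
  obtain ⟨t', u, X, -, -, -, -, -, -, -, hli, -, -, -, -, -, -, hTS, hst⟩ := key_axes two_ne five_ne ev_dual sh_act ht θ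
    g2 g5
  exact ⟨_, by rw [finrank_span_eq_card hli, Fintype.card_fin], hTS, hst⟩

end key

/-! ### descent of fixed vectors -/

section descent

open Cfsg.Agent.ChevalleyStructure.E6Min.Adjoint
open Cfsg.Agent.H163.E6 (V V' scal TS V_apply V'_apply)
open Cfsg.Agent.H184.GraphE6 (gU PU PM PM_apply coe_dual coe_PU)

variable {F E : Type u} [Field F] [Field E]

theorem coe_j (f : F →+* E) (j : ↥(Zgrp F) →* ↥(Zgrp E))
    (hj : ∀ (g : ↥(Zgrp F)) (x : I27 → F), V E (j g) (fun i => f (x i)) = fun i => f (V F g x i)) (g : ↥(Zgrp F)) :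
    ((j g : GL I27 E) : Matrix I27 I27 E) = ((g : GL I27 F) : Matrix I27 I27 F).map f := by
  ext i k
  have h := congrFun (hj g (Pi.single k 1)) i
  have e : (fun i => f ((Pi.single k 1 : I27 → F) i)) = (Pi.single k 1 : I27 → E) := by
    funext i
    by_cases hik : i = k
    · subst hik
      rw [Pi.single_eq_same, Pi.single_eq_same, map_one]
    · rw [Pi.single_eq_of_ne hik, Pi.single_eq_of_ne hik, map_zero]
  rw [e, V_apply, V_apply, Matrix.mulVec_single_one, Matrix.mulVec_single_one] at h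
  exact h

theorem coe_j' (f : F →+* E) (j : ↥(Zgrp F) →* ↥(Zgrp E))
    (hj : ∀ (g : ↥(Zgrp F)) (x : I27 → F), V E (j g) (fun i => f (x i)) = fun i => f (V F g x i)) (g : ↥(Zgrp F)) :
    ((gU (j g : GL I27 E) : GL I27 E) : Matrix I27 I27 E) =
      ((gU (g : GL I27 F) : GL I27 F) : Matrix I27 I27 F).map f := by
  have e1 : (((j g : GL I27 E))⁻¹ : GL I27 E) = ((j g⁻¹ : ↥(Zgrp E)) : GL I27 E) := by
    rw [map_inv]
    rfl
  have e2 : (PM F).map f = PM E := by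
    ext x y
    rw [Matrix.map_apply, PM_apply, PM_apply]
    split_ifs
    · exact map_one f
    · exact map_zero f
  show PM E * Matrix.transpose ((((j g : GL I27 E))⁻¹ : GL I27 E) : Matrix I27 I27 E) * PM E =
    (PM F * Matrix.transpose ((((g : GL I27 F))⁻¹ : GL I27 F) : Matrix I27 I27 F) * PM F).map f
  rw [e1, coe_j f j hj, Matrix.map_mul, Matrix.map_mul, e2, Matrix.transpose_map]
  rfl

theorem fixed_ext (f : F →+* E) {ι : Type*} (M : ι → Matrix I27 I27 F)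
    (hM : ∀ x : I27 → F, (∀ a, (M a).mulVec x = x) → x = 0) {x : I27 → E}
    (hx : ∀ a, ((M a).map f).mulVec x = x) : x = 0 := by
  let _ : Algebra F E := f.toAlgebra
  have key : ∀ l : Module.Dual F E, (fun i => l (x i)) = (0 : I27 → F) := by
    intro l
    apply hM
    intro a
    funext i
    have h := congrArg l (congrFun (hx a) i)
    rw [← h]
    simp only [Matrix.mulVec, dotProduct, Matrix.map_apply, map_sum]
    refine Finset.sum_congr rfl fun k _ => ?_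
    have e : f (M a i k) * x k = (M a i k) • x k := rfl
    rw [e, map_smul, smul_eq_mul]
  funext i
  exact (Module.forall_dual_apply_eq_zero_iff F (x i)).1 fun l => congrFun (key l) i

theorem inv_ext (f : F →+* E) (j : ↥(Zgrp F) →* ↥(Zgrp E))
    (hj : ∀ (g : ↥(Zgrp F)) (x : I27 → F), V E (j g) (fun i => f (x i)) = fun i => f (V F g x i)) {A : Type*} [Group A]
    (ψ : A →* ↥(Zgrp F)) (h1 : Representation.invariants (MonoidHom.comp (V F) ψ) = ⊥) :
    Representation.invariants (MonoidHom.comp (V E) (j.comp ψ)) = ⊥ := by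
  rw [eq_bot_iff]
  intro x hx
  rw [Submodule.mem_bot]
  rw [Representation.mem_invariants] at hx
  apply fixed_ext f (fun a : A => ((ψ a : GL I27 F) : Matrix I27 I27 F))
  · intro y hy
    have : y ∈ Representation.invariants (MonoidHom.comp (V F) ψ) := by
      rw [Representation.mem_invariants]
      exact hy
    rwa [h1, Submodule.mem_bot] at this
  · intro a
    have h := hx a
    rw [MonoidHom.comp_apply, MonoidHom.comp_apply, V_apply, coe_j f j hj] at h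
    exact h

theorem inv_ext' (f : F →+* E) (j : ↥(Zgrp F) →* ↥(Zgrp E))
    (hj : ∀ (g : ↥(Zgrp F)) (x : I27 → F), V E (j g) (fun i => f (x i)) = fun i => f (V F g x i)) {A : Type*} [Group A]
    (ψ : A →* ↥(Zgrp F)) (h1 : Representation.invariants (MonoidHom.comp (V' F) ψ) = ⊥) :
    Representation.invariants (MonoidHom.comp (V' E) (j.comp ψ)) = ⊥ := by
  rw [eq_bot_iff]
  intro x hx
  rw [Submodule.mem_bot]
  rw [Representation.mem_invariants] at hx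
  apply fixed_ext f (fun a : A => ((gU (ψ a : GL I27 F) : GL I27 F) : Matrix I27 I27 F))
  · intro y hy
    have : y ∈ Representation.invariants (MonoidHom.comp (V' F) ψ) := by
      rw [Representation.mem_invariants]
      exact hy
    rwa [h1, Submodule.mem_bot] at this
  · intro a
    have h := hx a
    rw [MonoidHom.comp_apply, MonoidHom.comp_apply, V'_apply, coe_j' f j hj] at h
    exact h

/-- a finite field has an extension with a root of `t * t = t + 1`, itself or a quadratic one -/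
theorem exists_root (F : Type u) [Field F] [Finite F] (p : ℕ) [Fact p.Prime] [CharP F p] :
    (∃ t : F, t * t = t + 1) ∨ ∃ (E : Type u) (_ : Field E) (_ : Finite E) (_ : CharP E p) (_ : F →+* E),
      Nat.card E = Nat.card F ^ 2 ∧ ∃ t : E, t * t = t + 1 := by
  by_cases h : ∃ t : F, t * t = t + 1
  · exact Or.inl h
  · right
    push Not at h
    let P : Polynomial F := Polynomial.X ^ 2 - Polynomial.X - 1
    have hdeg : P.natDegree = 2 := by
      show (Polynomial.X ^ 2 - Polynomial.X - 1 : Polynomial F).natDegree = 2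
      compute_degree!
    have hP0 : P ≠ 0 := by
      intro h0
      rw [h0, Polynomial.natDegree_zero] at hdeg
      exact absurd hdeg (by norm_num)
    have hirr : Irreducible P := by
      rw [Polynomial.irreducible_iff_roots_eq_zero_of_degree_le_three (by omega) (by omega)]
      rw [Multiset.eq_zero_iff_forall_notMem]
      intro t ht
      rw [Polynomial.mem_roots hP0, Polynomial.IsRoot.def] at ht
      simp only [P, Polynomial.eval_sub, Polynomial.eval_pow, Polynomial.eval_X, Polynomial.eval_one] at ht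
      exact h t (by linear_combination ht)
    have : Fact (Irreducible P) := ⟨hirr⟩
    have hfr : finrank F (AdjoinRoot P) = 2 := by
      rw [(AdjoinRoot.powerBasis hP0).finrank, AdjoinRoot.powerBasis_dim, hdeg]
    have : Module.Finite F (AdjoinRoot P) := Module.finite_of_finrank_pos (by omega)
    have : Finite (AdjoinRoot P) := Module.finite_of_finite F
    refine ⟨AdjoinRoot P, inferInstance, inferInstance, charP_of_injective_algebraMap
      (algebraMap F (AdjoinRoot P)).injective p, algebraMap F (AdjoinRoot P), ?_, AdjoinRoot.root P, ?_⟩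
    · rw [Module.natCard_eq_pow_finrank (K := F), hfr]
    · have h0 := AdjoinRoot.eval₂_root P
      simp only [P, Polynomial.eval₂_sub, Polynomial.eval₂_pow, Polynomial.eval₂_X, Polynomial.eval₂_one] at h0
      linear_combination h0

end descent

end Cfsg.Agent.H882.E6Five
end
end
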